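/-
Kronecker elements with small displacement space.
-/
import Cfsg.Agent.Lib.TensorMax.Kron

set_option autoImplicit false
set_option linter.unusedSectionVars false

namespace Cfsg.Agent.WreathMax

open scoped Matrix Kronecker
open Matrix Cfsg.Agent.Transvec Cfsg.Agent.TensorMax

section Dev

variable {ι : Type} [Fintype ι] [DecidableEq ι] {F : Type*} [Field F]

/-- The displacement x ↦ g x - x. -/
def dev (g : GL ι F) : (ι → F) →ₗ[F] ι → F := mvLin g - LinearMap.id

@[simp] theorem dev_apply (g : GL ι F) (x : ι → F) : dev g x = mv g x - x := by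
  simp [dev, mv]

theorem finrank_map_gl (g : GL ι F) (S : Submodule F (ι → F)) :
    Module.finrank F (S.map (mvLin g)) = Module.finrank F S := by
  refine (LinearEquiv.finrank_eq (Submodule.equivMapOfInjective (mvLin g) ?_ S)).symm
  exact fun x y hxy => mv_inj g (by simpa using hxy)

theorem mem_map_gl {g : GL ι F} {S : Submodule F (ι → F)} {x : ι → F} :
    x ∈ S.map (mvLin g) ↔ ∃ y ∈ S, mv g y = x := by
  simp [Submodule.mem_map, mv]

theorem map_gl_mul (g h : GL ι F) (S : Submodule F (ι → F)) :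
    (S.map (mvLin h)).map (mvLin g) = S.map (mvLin (g * h)) := by
  rw [← Submodule.map_comp]
  congr 1
  exact LinearMap.ext fun x => by simp

theorem map_gl_one (S : Submodule F (ι → F)) : S.map (mvLin (1 : GL ι F)) = S := by
  rw [show mvLin (1 : GL ι F) = LinearMap.id from LinearMap.ext fun x => by simp, Submodule.map_id]

theorem map_gl_inv (g : GL ι F) (S : Submodule F (ι → F)) :
    (S.map (mvLin g)).map (mvLin g⁻¹) = S := by
  rw [map_gl_mul, inv_mul_cancel, map_gl_one]

theorem map_gl_inv' (g : GL ι F) (S : Submodule F (ι → F)) :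
    (S.map (mvLin g⁻¹)).map (mvLin g) = S := by
  rw [map_gl_mul, mul_inv_cancel, map_gl_one]

theorem range_dev_conj (g h : GL ι F) :
    LinearMap.range (dev (g * h * g⁻¹)) = (LinearMap.range (dev h)).map (mvLin g) := by
  ext x
  rw [LinearMap.mem_range, mem_map_gl]
  constructor
  · rintro ⟨y, rfl⟩
    exact ⟨dev h (mv g⁻¹ y), LinearMap.mem_range_self _ _, by
      rw [dev_apply, dev_apply, mv_sub, mv_mv_inv, mv_mul, mv_mul]⟩
  · rintro ⟨_, ⟨y, rfl⟩, rfl⟩
    exact ⟨mv g y, by rw [dev_apply, dev_apply, mv_mul, mv_mul, mv_inv_mv, mv_sub]⟩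

theorem dev_eq_zero {g : GL ι F} : dev g = 0 ↔ g = 1 := by
  constructor
  · intro h
    refine ext_mv fun x => ?_
    have := LinearMap.congr_fun h x
    rw [dev_apply, LinearMap.zero_apply, sub_eq_zero] at this
    rw [this, mv_one]
  · rintro rfl
    exact LinearMap.ext fun x => by rw [dev_apply, mv_one, sub_self, LinearMap.zero_apply]

end Dev

variable {α β : Type} [Fintype α] [DecidableEq α] [Fintype β] [DecidableEq β] {F : Type*} [Field F]

theorem exists_avoid {κ : Type} [Fintype κ] (u v : κ → F) (h : 3 ≤ Fintype.card κ) :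
    ∃ p : κ → F, p ∉ Submodule.span F ({u, v} : Set (κ → F)) := by
  classical
  by_contra hcon
  push Not at hcon
  have e1 := finrank_span_le_card (R := F) ({u, v} : Set (κ → F))
  rw [Submodule.eq_top_iff'.2 hcon, finrank_top, Module.finrank_fintype_fun_eq_card] at e1
  have : ({u, v} : Set (κ → F)).toFinset.card ≤ 2 := by
    rw [Set.toFinset_insert, Set.toFinset_singleton]
    exact Finset.card_le_two
  omega

theorem exists_ann {κ : Type} [Fintype κ] [DecidableEq κ] (u v : κ → F)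
    (h : 3 ≤ Fintype.card κ) : ∃ φ : κ → F, φ ≠ 0 ∧ φ ⬝ᵥ u = 0 ∧ φ ⬝ᵥ v = 0 := by
  obtain ⟨p, hp⟩ := exists_avoid u v h
  obtain ⟨φ, h1, h2⟩ := exists_dot hp
  exact ⟨φ, fun h0 => by rw [h0, zero_dotProduct] at h2; exact zero_ne_one h2,
    h1 _ (Submodule.subset_span (Set.mem_insert _ _)),
    h1 _ (Submodule.subset_span (Set.mem_insert_of_mem _ rfl))⟩

variable {g : GL (α × β) F} {B : Matrix α α F} {A : Matrix β β F}

theorem dev_ten (h : (g : Matrix (α × β) (α × β) F) = B ⊗ₖ A) (u : α → F) (w : β → F) :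
    dev g (ten u w) = ten (B *ᵥ u) (A *ᵥ w) - ten u w := by
  rw [dev_apply]
  show (g : Matrix (α × β) (α × β) F) *ᵥ ten u w - _ = _
  rw [h, kronecker_mulVec_ten]

theorem injective_dev_rho (h : (g : Matrix (α × β) (α × β) F) = B ⊗ₖ A) {w : β → F} (hw0 : w ≠ 0)
    (hw : A *ᵥ w ∉ Submodule.span F {w}) :
    Function.Injective ((dev g).comp (rho (α := α) w)) := by
  obtain ⟨p, hp1, hp2⟩ := exists_dot hw
  have hpw : p ⬝ᵥ w = 0 := hp1 w (Submodule.mem_span_singleton_self w)
  rw [← LinearMap.ker_eq_bot, LinearMap.ker_eq_bot']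
  intro u hu
  rw [LinearMap.comp_apply, rho_apply, dev_ten h] at hu
  have hB : B *ᵥ u = 0 := by
    have := congrArg (ctr p) hu
    rwa [map_sub, map_zero, ctr_ten, ctr_ten, hpw, hp2, one_smul, zero_smul, sub_zero] at this
  rw [hB, ten_zero_left, zero_sub, neg_eq_zero] at hu
  by_contra hu0
  exact ten_ne_zero hu0 hw0 hu

/-- A moved vector of the second factor gives a displacement space of dimension at least |α|. -/
theorem card_le_of_moved (h : (g : Matrix (α × β) (α × β) F) = B ⊗ₖ A) {w : β → F}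
    (hw : A *ᵥ w ∉ Submodule.span F {w}) :
    Fintype.card α ≤ Module.finrank F (LinearMap.range (dev g)) := by
  have hw0 : w ≠ 0 := fun h0 => hw (by rw [h0, Matrix.mulVec_zero]; exact zero_mem _)
  have h1 := LinearMap.finrank_range_of_inj (injective_dev_rho h hw0 hw)
  rw [Module.finrank_fintype_fun_eq_card] at h1
  rw [← h1]
  exact Submodule.finrank_mono (LinearMap.range_comp_le_range _ _)

/-- With displacement of dimension at most |α| the first factor is scalar and the displacement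
space is a line. -/
theorem line_of_rank_le (hb : 3 ≤ Fintype.card β) (h : (g : Matrix (α × β) (α × β) F) = B ⊗ₖ A)
    {w : β → F} (hw : A *ᵥ w ∉ Submodule.span F {w})
    (hr : Module.finrank F (LinearMap.range (dev g)) ≤ Fintype.card α) :
    (∃ s : F, ∀ u, B *ᵥ u = s • u) ∧
      ∃ d, d ≠ 0 ∧ LinearMap.range (dev g) = line α d := by
  have hw0 : w ≠ 0 := fun h0 => hw (by rw [h0, Matrix.mulVec_zero]; exact zero_mem _)
  set f := (dev g).comp (rho (α := α) w) with hf
  have hfr : LinearMap.range f = LinearMap.range (dev g) := by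
    refine Submodule.eq_of_le_of_finrank_le (LinearMap.range_comp_le_range _ _) ?_
    rw [LinearMap.finrank_range_of_inj (injective_dev_rho h hw0 hw),
      Module.finrank_fintype_fun_eq_card]
    exact hr
  obtain ⟨p, hp⟩ := exists_avoid w (A *ᵥ w) hb
  obtain ⟨φ, hφ1, hφp⟩ := exists_dot hp
  have hφw : φ ⬝ᵥ w = 0 := hφ1 _ (Submodule.subset_span (Set.mem_insert _ _))
  have hφA : φ ⬝ᵥ (A *ᵥ w) = 0 := hφ1 _ (Submodule.subset_span (Set.mem_insert_of_mem _ rfl))
  have hker : ∀ y, ctr φ (dev g y) = 0 := by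
    intro y
    obtain ⟨u, hu⟩ : dev g y ∈ LinearMap.range f := hfr ▸ LinearMap.mem_range_self _ _
    rw [← hu, hf, LinearMap.comp_apply, rho_apply, dev_ten h, map_sub, ctr_ten, ctr_ten, hφA, hφw,
      zero_smul, zero_smul, sub_zero]
  have hB : ∀ u, (φ ⬝ᵥ (A *ᵥ p)) • (B *ᵥ u) = u := fun u => by
    have := hker (ten u p)
    rwa [dev_ten h, map_sub, ctr_ten, ctr_ten, hφp, one_smul, sub_eq_zero] at this
  have hex : ∃ s : F, ∀ u, B *ᵥ u = s • u := by
    refine ⟨(φ ⬝ᵥ (A *ᵥ p))⁻¹, fun u => ?_⟩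
    by_cases h0 : φ ⬝ᵥ (A *ᵥ p) = 0
    · have hu : ∀ u : α → F, u = 0 := fun u => by rw [← hB u, h0, zero_smul]
      rw [hu (B *ᵥ u), hu u, smul_zero]
    · conv_rhs => rw [← hB u, smul_smul, inv_mul_cancel₀ h0, one_smul]
  obtain ⟨s, hs⟩ := hex
  refine ⟨⟨s, hs⟩, ?_⟩
  set d := s • (A *ᵥ w) - w with hd
  have hd0 : d ≠ 0 := fun h0 => by
    rw [hd, sub_eq_zero] at h0
    rcases eq_or_ne s 0 with rfl | hs0
    · rw [zero_smul] at h0; exact hw0 h0.symm
    · exact hw (Submodule.mem_span_singleton.2 ⟨s⁻¹, by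
        nth_rewrite 1 [← h0]; rw [smul_smul, inv_mul_cancel₀ hs0, one_smul]⟩)
  have hle : LinearMap.range (dev g) ≤ line α d := by
    rw [← hfr]
    rintro _ ⟨u, rfl⟩
    refine mem_line.2 ⟨u, ?_⟩
    rw [hf, LinearMap.comp_apply, rho_apply, dev_ten h, hs, hd, sub_eq_add_neg, ten_add_right,
      ten_smul_left, ten_smul_right, sub_eq_add_neg, ← neg_one_smul F w, ten_smul_right, neg_one_smul]
  refine ⟨d, hd0, Submodule.eq_of_le_of_finrank_le hle ?_⟩
  rw [finrank_line hd0]
  exact card_le_of_moved h hw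

end Cfsg.Agent.WreathMax
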