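/-
Tensor powers of F^m indexed by a finite type J: pure tensors, the splitting at one factor, the
elements acting on one factor, lines, and monomial maps.
-/
import Cfsg.Agent.Lib.TensorMax.Kron

set_option autoImplicit false
set_option linter.unusedSectionVars false

namespace Cfsg.Agent.WreathMax

open scoped Matrix Kronecker
open Matrix Cfsg.Agent.Transvec Cfsg.Agent.TensorMax

variable {J : Type} [Fintype J] [DecidableEq J] {m : ℕ} {F : Type*} [Field F]

/-- A pure tensor. -/
def pten (x : J → Fin m → F) : (J → Fin m) → F := fun a => ∏ j, x j (a j)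

/-- The index type of all factors but i. -/
abbrev Rest (i : J) (m : ℕ) : Type := {j // j ≠ i} → Fin m

/-- Splitting off the factor i. -/
def sp (i : J) (m : ℕ) : (J → Fin m) ≃ Rest i m × Fin m :=
  (Equiv.funSplitAt i (Fin m)).trans (Equiv.prodComm _ _)

theorem sp_apply (i : J) (a : J → Fin m) : sp i m a = ((fun j : {j // j ≠ i} => a j, a i) : Rest i m × Fin m) := rfl

theorem sp_symm_self (i : J) (r : Rest i m) (k : Fin m) : (sp i m).symm (r, k) i = k := by
  simp [sp]

theorem sp_symm_other (i : J) (r : Rest i m) (k : Fin m) {j : J} (h : j ≠ i) :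
    (sp i m).symm (r, k) j = r ⟨j, h⟩ := by
  simp [sp, h]

/-- Vectors seen in the splitting at i. -/
def push (i : J) : ((J → Fin m) → F) ≃ₗ[F] (Rest i m × Fin m → F) :=
  LinearEquiv.funCongrLeft F F (sp i m).symm

theorem push_apply (i : J) (x : (J → Fin m) → F) (p : Rest i m × Fin m) :
    push i x p = x ((sp i m).symm p) := rfl

theorem push_symm_apply (i : J) (y : Rest i m × Fin m → F) (a : J → Fin m) :
    (push i).symm y a = y (sp i m a) := rfl

theorem push_pten (i : J) (x : J → Fin m → F) :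
    push i (pten x) = ten (pten fun j : {j // j ≠ i} => x j) (x i) := by
  funext ⟨r, k⟩
  rw [push_apply, ten_apply]
  unfold pten
  rw [← Finset.mul_prod_erase Finset.univ _ (Finset.mem_univ i), sp_symm_self, mul_comm]
  congr 1
  rw [Finset.prod_subtype (Finset.univ.erase i) (p := fun j => j ≠ i) (by simp)]
  exact Finset.prod_congr rfl fun j _ => by rw [sp_symm_other i r k j.2]

/-- Matrices seen in the splitting at i. -/
def tg (i : J) (m : ℕ) (F : Type*) [Field F] : GL (J → Fin m) F ≃* GL (Rest i m × Fin m) F :=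
  Geo.glReindex (sp i m)

theorem mv_tg (i : J) (g : GL (J → Fin m) F) (x : (J → Fin m) → F) :
    mv (tg i m F g) (push i x) = push i (mv g x) := by
  funext p
  show ((Matrix.reindex (sp i m) (sp i m) (g : Matrix (J → Fin m) (J → Fin m) F)) *ᵥ push i x) p = _
  rw [Matrix.reindex_apply]
  simp only [Matrix.mulVec, dotProduct, Matrix.submatrix_apply, push_apply]
  exact Fintype.sum_equiv (sp i m).symm _ _ fun q => rfl

theorem mv_tg' (i : J) (g : GL (J → Fin m) F) (y : Rest i m × Fin m → F) :
    mv (tg i m F g) y = push i (mv g ((push i).symm y)) := by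
  rw [← mv_tg, LinearEquiv.apply_symm_apply]

theorem eq_of_pten {M : Type*} [AddCommGroup M] [Module F M]
    {f g : ((J → Fin m) → F) →ₗ[F] M} (h : ∀ x, f (pten x) = g (pten x)) : f = g := by
  refine LinearMap.pi_ext' fun a => LinearMap.ext_ring ?_
  have e : pten (fun j => (Pi.single (a j) (1 : F) : Fin m → F)) = Pi.single a 1 := by
    funext b
    unfold pten
    by_cases hb : b = a
    · subst hb; simp
    · obtain ⟨j, hj⟩ := Function.ne_iff.1 hb
      rw [Pi.single_eq_of_ne hb]
      exact Finset.prod_eq_zero (Finset.mem_univ j) (Pi.single_eq_of_ne hj _)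
  have := h fun j => Pi.single (a j) 1
  rw [e] at this
  simpa using this

theorem ext_pten {g h : GL (J → Fin m) F} (H : ∀ x, mv g (pten x) = mv h (pten x)) : g = h := by
  have e : mvLin g = mvLin h := eq_of_pten fun x => by simpa [mv] using H x
  exact Units.ext (Matrix.toLin'.injective e)

theorem pten_ne_zero {x : J → Fin m → F} (h : ∀ j, x j ≠ 0) : pten x ≠ 0 := by
  choose a ha using fun j => Function.ne_iff.1 (h j)
  refine fun h0 => ?_
  have := congrFun h0 a
  rw [pten, Pi.zero_apply, Finset.prod_eq_zero_iff] at this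
  obtain ⟨j, -, hj⟩ := this
  exact ha j hj

theorem pten_update_smul (x : J → Fin m → F) (i : J) (s : F) (v : Fin m → F) :
    pten (Function.update x i (s • v)) = s • pten (Function.update x i v) := by
  funext a
  rw [Pi.smul_apply, smul_eq_mul, pten, pten, ← Finset.mul_prod_erase Finset.univ _ (Finset.mem_univ i),
    ← Finset.mul_prod_erase Finset.univ _ (Finset.mem_univ i), Function.update_self,
    Function.update_self, Pi.smul_apply, smul_eq_mul, mul_assoc]
  congr 2
  exact Finset.prod_congr rfl fun j hj => by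
    rw [Function.update_of_ne (Finset.ne_of_mem_erase hj),
      Function.update_of_ne (Finset.ne_of_mem_erase hj)]

/-! ### Elements acting on one factor -/

/-- B ⊗ A as an invertible matrix. -/
def kronGL {α β : Type} [Fintype α] [DecidableEq α] [Fintype β] [DecidableEq β]
    (B : GL α F) (A : GL β F) : GL (α × β) F where
  val := (B : Matrix α α F) ⊗ₖ (A : Matrix β β F)
  inv := ((B⁻¹ : GL α F) : Matrix α α F) ⊗ₖ ((A⁻¹ : GL β F) : Matrix β β F)
  val_inv := by
    rw [← Matrix.mul_kronecker_mul, ← Units.val_mul, ← Units.val_mul, mul_inv_cancel, mul_inv_cancel,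
      Units.val_one, Units.val_one, Matrix.one_kronecker_one]
  inv_val := by
    rw [← Matrix.mul_kronecker_mul, ← Units.val_mul, ← Units.val_mul, inv_mul_cancel, inv_mul_cancel,
      Units.val_one, Units.val_one, Matrix.one_kronecker_one]

theorem mv_kronGL {α β : Type} [Fintype α] [DecidableEq α] [Fintype β] [DecidableEq β]
    (B : GL α F) (A : GL β F) (u : α → F) (w : β → F) :
    mv (kronGL B A) (ten u w) = ten (mv B u) (mv A w) :=
  kronecker_mulVec_ten _ _ u w

/-- The element acting as A on the factor i. -/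
def fac (i : J) (A : GL (Fin m) F) : GL (J → Fin m) F :=
  (tg i m F).symm (kronGL 1 A)

theorem tg_fac (i : J) (A : GL (Fin m) F) : tg i m F (fac i A) = kronGL 1 A :=
  MulEquiv.apply_symm_apply _ _

theorem mv_fac (i : J) (A : GL (Fin m) F) (x : J → Fin m → F) :
    mv (fac i A) (pten x) = pten (Function.update x i (mv A (x i))) := by
  apply (push i).injective
  rw [← mv_tg, tg_fac, push_pten, push_pten, mv_kronGL, mv_one, Function.update_self]
  congr 2
  funext j
  rw [Function.update_of_ne j.2]

theorem fac_mul (i : J) (A B : GL (Fin m) F) : fac i (A * B) = fac i A * fac i B := by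
  refine ext_pten fun x => ?_
  rw [mv_mul, mv_fac, mv_fac, mv_fac, Function.update_self, Function.update_idem, mv_mul]

theorem fac_one (i : J) : fac i (1 : GL (Fin m) F) = 1 := by
  refine ext_pten fun x => ?_
  rw [mv_fac, mv_one, mv_one, Function.update_eq_self]

theorem fac_inv (i : J) (A : GL (Fin m) F) : (fac i A)⁻¹ = fac i A⁻¹ :=
  inv_eq_of_mul_eq_one_right (by rw [← fac_mul, mul_inv_cancel, fac_one])

/-- The map w ↦ (φ · w) c. -/
def outerMap (c φ : Fin m → F) : (Fin m → F) →ₗ[F] Fin m → F where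
  toFun w := (φ ⬝ᵥ w) • c
  map_add' w w' := by rw [dotProduct_add, add_smul]
  map_smul' a w := by rw [dotProduct_smul, smul_eq_mul, mul_smul]; rfl

/-- The transvection w ↦ w + (φ · w) c of one factor. -/
noncomputable def tw (c φ : Fin m → F) (h : φ ⬝ᵥ c = 0) : GL (Fin m) F :=
  sh (outerMap c φ) fun w => by
    show (φ ⬝ᵥ ((φ ⬝ᵥ w) • c)) • c = 0
    rw [dotProduct_smul, h, smul_zero, zero_smul]

theorem mv_tw (c φ : Fin m → F) (h : φ ⬝ᵥ c = 0) (w : Fin m → F) :
    mv (tw c φ h) w = w + (φ ⬝ᵥ w) • c := by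
  rw [tw, mv_sh]; rfl

theorem tg_fac_tw (i : J) (c φ : Fin m → F) (h : φ ⬝ᵥ c = 0) :
    tg i m F (fac i (tw c φ h)) = tT (Rest i m) c φ h := by
  rw [tg_fac]
  refine Units.ext (Matrix.toLin'.injective (ext_ten fun u w => ?_))
  rw [Matrix.toLin'_apply, Matrix.toLin'_apply]
  show mv (kronGL 1 (tw c φ h)) (ten u w) = mv (tT (Rest i m) c φ h) (ten u w)
  rw [mv_kronGL, mv_one, mv_tw, mv_tT, ctr_ten, ten_add_right, ten_smul_left, ten_smul_right]

/-! ### Lines -/

/-- The line of c in factor i. -/
def Ln (i : J) (c : Fin m → F) : Submodule F ((J → Fin m) → F) :=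
  (line (Rest i m) c).map (push i).symm.toLinearMap

theorem mem_Ln {i : J} {c : Fin m → F} {x : (J → Fin m) → F} :
    x ∈ Ln i c ↔ push i x ∈ line (Rest i m) c := by
  rw [Ln, Submodule.mem_map]
  constructor
  · rintro ⟨y, hy, rfl⟩
    simpa using hy
  · exact fun h => ⟨_, h, by simp⟩

theorem pten_mem_Ln (i : J) (x : J → Fin m → F) : pten x ∈ Ln i (x i) := by
  rw [mem_Ln, push_pten]
  exact ten_mem_line _ _

theorem finrank_Ln (i : J) {c : Fin m → F} (hc : c ≠ 0) :
    Module.finrank F (Ln i c) = Fintype.card (Rest i m) := by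
  rw [Ln, ← finrank_line (α := Rest i m) hc]
  exact ((push i).symm.submoduleMap _).finrank_eq.symm

theorem card_rest (i : J) : Fintype.card (Rest i m) * m = m ^ Fintype.card J := by
  have := Fintype.card_congr (sp (m := m) i)
  rw [Fintype.card_prod, Fintype.card_fin] at this
  simpa using this.symm

theorem map_push_map (i : J) (g : GL (J → Fin m) F) (S : Submodule F ((J → Fin m) → F)) :
    (S.map (mvLin g)).map (push i).toLinearMap =
      (S.map (push i).toLinearMap).map (mvLin (tg i m F g)) := by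
  rw [← Submodule.map_comp, ← Submodule.map_comp]
  congr 1
  exact LinearMap.ext fun x => by simp [mv_tg]

theorem map_push_Ln (i : J) (c : Fin m → F) :
    (Ln i c).map (push i).toLinearMap = line (Rest i m) c := by
  ext y
  simp only [Submodule.mem_map, mem_Ln]
  constructor
  · rintro ⟨x, hx, rfl⟩; exact hx
  · exact fun hy => ⟨(push i).symm y, by simpa using hy, by simp⟩

/-- A line of some type. -/
def IsLn (S : Submodule F ((J → Fin m) → F)) : Prop :=
  ∃ (i : J) (c : Fin m → F), c ≠ 0 ∧ S = Ln i c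

/-! ### Monomial maps -/

/-- A product of a permutation of the factors and a pure tensor of matrices. -/
def Mono (g : GL (J → Fin m) F) : Prop :=
  ∃ (σ : Equiv.Perm J) (A : J → GL (Fin m) F),
    ∀ x, mv g (pten x) = pten fun j => mv (A j) (x (σ j))

/-- Mono with a given permutation. -/
def MonoOf (σ : Equiv.Perm J) (g : GL (J → Fin m) F) : Prop :=
  ∃ A : J → GL (Fin m) F, ∀ x, mv g (pten x) = pten fun j => mv (A j) (x (σ j))

theorem mono_iff {g : GL (J → Fin m) F} : Mono g ↔ ∃ σ, MonoOf σ g := Iff.rfl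

theorem MonoOf.mul {σ τ : Equiv.Perm J} {g h : GL (J → Fin m) F} (hg : MonoOf σ g)
    (hh : MonoOf τ h) : MonoOf (τ * σ) (g * h) := by
  obtain ⟨A, hA⟩ := hg
  obtain ⟨B, hB⟩ := hh
  refine ⟨fun j => A j * B (σ j), fun x => ?_⟩
  rw [mv_mul, hB, hA]
  exact congrArg pten (funext fun j => by rw [mv_mul]; rfl)

theorem MonoOf.inv {σ : Equiv.Perm J} {g : GL (J → Fin m) F} (hg : MonoOf σ g) :
    MonoOf σ⁻¹ g⁻¹ := by
  obtain ⟨A, hA⟩ := hg
  refine ⟨fun j => (A (σ⁻¹ j))⁻¹, fun x => ?_⟩
  apply mv_inj g
  rw [mv_mv_inv, hA]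
  exact congrArg pten (funext fun j => by simp [mv_mv_inv])

theorem monoOf_one : MonoOf 1 (1 : GL (J → Fin m) F) :=
  ⟨fun _ => 1, fun x => by simp [mv_one]⟩

theorem monoOf_fac (i : J) (A : GL (Fin m) F) : MonoOf 1 (fac i A) := by
  classical
  refine ⟨Function.update (fun _ => 1) i A, fun x => ?_⟩
  rw [mv_fac]
  refine congrArg pten (funext fun j => ?_)
  rcases eq_or_ne j i with rfl | h
  · simp
  · simp [h, mv_one]

/-- Conjugation moves an element of one factor to another. -/
theorem MonoOf.conj_fac {σ : Equiv.Perm J} {g : GL (J → Fin m) F} (hg : MonoOf σ g) (i : J) :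
    ∃ C : GL (Fin m) F, ∀ T : GL (Fin m) F,
      g * fac i T * g⁻¹ = fac (σ⁻¹ i) (C * T * C⁻¹) := by
  obtain ⟨A, hA⟩ := hg
  refine ⟨A (σ⁻¹ i), fun T => ?_⟩
  rw [mul_inv_eq_iff_eq_mul]
  refine ext_pten fun x => ?_
  rw [mv_mul, mv_mul, mv_fac, hA, hA, mv_fac]
  refine congrArg pten (funext fun j => ?_)
  rcases eq_or_ne j (σ⁻¹ i) with rfl | h
  · simp [mv_mul, mv_inv_mv]
  · rw [Function.update_of_ne h, Function.update_of_ne]
    intro e; exact h (by rw [← e]; simp)

end Cfsg.Agent.WreathMax
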