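/-
The displacement spaces of monomial maps.
-/
import Cfsg.Agent.Lib.WreathMax.Basic
import Cfsg.Agent.Lib.WreathMax.Kron

set_option autoImplicit false
set_option linter.unusedSectionVars false

namespace Cfsg.Agent.WreathMax

open scoped Matrix Kronecker
open Matrix Cfsg.Agent.Transvec Cfsg.Agent.TensorMax

variable {J : Type} [Fintype J] [DecidableEq J] {m : ℕ} {F : Type*} [Field F]

theorem card_idx (J : Type) [Fintype J] [DecidableEq J] (m : ℕ) :
    Fintype.card (J → Fin m) = m ^ Fintype.card J := by
  simp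

/-- A monomial map sends lines to lines. -/
theorem MonoOf.map_Ln {σ : Equiv.Perm J} {g : GL (J → Fin m) F} (hg : MonoOf σ g) (i : J) :
    ∃ C : GL (Fin m) F, ∀ c, c ≠ 0 → (Ln i c).map (mvLin g) = Ln (σ⁻¹ i) (mv C c) := by
  obtain ⟨A, hA⟩ := hg
  set k := σ⁻¹ i with hk
  have hki : σ k = i := by simp [hk]
  refine ⟨A k, fun c hc => ?_⟩
  have hCc : mv (A k) c ≠ 0 := fun h0 => hc (mv_inj (A k) (h0.trans (mv_zero _).symm))
  have hm : 0 < m := by
    rcases Nat.eq_zero_or_pos m with rfl | h
    · exact absurd (Subsingleton.elim c 0) hc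
    · exact h
  refine Submodule.eq_of_le_of_finrank_eq ?_ ?_
  · intro y hy
    obtain ⟨x, hx, rfl⟩ := mem_map_gl.1 hy
    obtain ⟨u, hu⟩ := mem_line.1 (mem_Ln.1 hx)
    rw [mem_Ln]
    refine mem_line_of_ctr hCc fun θ hθ => ?_
    let f : ((Rest i m) → F) →ₗ[F] (Rest k m) → F :=
      (ctr θ).comp ((push k).toLinearMap.comp ((mvLin g).comp
        ((push i).symm.toLinearMap.comp (rho c))))
    have hf : f = 0 := by
      refine eq_of_pten fun z => ?_
      set x' : J → Fin m → F := fun j => if h : j = i then c else z ⟨j, h⟩ with hx'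
      have e : (push i).symm (ten (pten z) c) = pten x' := by
        apply (push i).injective
        rw [LinearEquiv.apply_symm_apply, push_pten, show x' i = c from dif_pos rfl]
        congr 2
        funext j
        simp [hx', j.2]
      show ctr θ (push k (mvLin g ((push i).symm (rho c (pten z))))) = 0
      rw [rho_apply, e, Matrix.toLin'_apply]
      show ctr θ (push k (mv g (pten x'))) = 0
      rw [hA, push_pten, ctr_ten, hki, show x' i = c from dif_pos rfl, hθ, zero_smul]
    have := LinearMap.congr_fun hf u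
    simp only [f, LinearMap.comp_apply, rho_apply, LinearMap.zero_apply] at this
    rw [← this, hu]
    simp [mv]
  · rw [finrank_map_gl, finrank_Ln i hc, finrank_Ln k hCc]
    exact Nat.eq_of_mul_eq_mul_right hm ((card_rest i).trans (card_rest k).symm)

theorem MonoOf.map_isLn {σ : Equiv.Perm J} {g : GL (J → Fin m) F} (hg : MonoOf σ g) {i : J}
    {c : Fin m → F} (hc : c ≠ 0) : IsLn ((Ln i c).map (mvLin g)) := by
  obtain ⟨C, hC⟩ := hg.map_Ln i
  exact ⟨_, _, fun h0 => hc (mv_inj C (h0.trans (mv_zero _).symm)), hC c hc⟩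

/-- A factor matrix of a map without permutation gives a Kronecker product in that splitting. -/
theorem MonoOf.kron {g : GL (J → Fin m) F} (hg : MonoOf 1 g) (hm : 0 < m) (i : J) :
    IsKron (tg i m F g) := by
  haveI : NeZero m := ⟨hm.ne'⟩
  obtain ⟨C, hC⟩ := hg.map_Ln i
  refine isKron_of_lines fun c hc => ⟨mv C c, fun h0 => hc (mv_inj C (h0.trans (mv_zero _).symm)), ?_⟩
  have := congrArg (fun S : Submodule F _ => S.map (push i).toLinearMap) (hC c hc)
  simpa [map_push_map, map_push_Ln] using this

theorem range_dev_tg (i : J) (g : GL (J → Fin m) F) :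
    LinearMap.range (dev (tg i m F g)) = (LinearMap.range (dev g)).map (push i).toLinearMap := by
  ext y
  simp only [LinearMap.mem_range, Submodule.mem_map]
  constructor
  · rintro ⟨x, rfl⟩
    refine ⟨dev g ((push i).symm x), ⟨_, rfl⟩, ?_⟩
    rw [dev_apply, dev_apply, mv_tg']
    simp
  · rintro ⟨_, ⟨x, rfl⟩, rfl⟩
    exact ⟨push i x, by rw [dev_apply, dev_apply, mv_tg]; simp⟩

theorem finrank_dev_tg (i : J) (g : GL (J → Fin m) F) :
    Module.finrank F (LinearMap.range (dev (tg i m F g))) =
      Module.finrank F (LinearMap.range (dev g)) := by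
  rw [range_dev_tg]
  exact ((push i).submoduleMap _).finrank_eq.symm

/-- Extension by zero from a set of indices. -/
def extZero {κ : Type} [Fintype κ] [DecidableEq κ] (P : Finset κ) : (P → F) →ₗ[F] κ → F where
  toFun y a := if h : a ∈ P then y ⟨a, h⟩ else 0
  map_add' y y' := funext fun a => by by_cases h : a ∈ P <;> simp [h]
  map_smul' s y := funext fun a => by by_cases h : a ∈ P <;> simp [h]

theorem card_le_rank_of_support {κ : Type} [Fintype κ] [DecidableEq κ] (P : Finset κ)
    (h : GL κ F) (hfix : ∀ z : κ → F, (∀ a, z a ≠ 0 → a ∈ P) → mv h z = z → z = 0) :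
    P.card ≤ Module.finrank F (LinearMap.range (dev h)) := by
  have hi : Function.Injective ((dev h).comp (extZero (F := F) P)) := by
    rw [← LinearMap.ker_eq_bot, LinearMap.ker_eq_bot']
    intro y hy
    rw [LinearMap.comp_apply, dev_apply, sub_eq_zero] at hy
    have hz := hfix _ (fun a ha => by
      by_contra h'
      exact ha (by simp [extZero, h'])) hy
    funext a
    have := congrFun hz a
    simpa [extZero] using this
  have h1 := LinearMap.finrank_range_of_inj hi
  rw [Module.finrank_fintype_fun_eq_card, Fintype.card_coe] at h1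
  rw [← h1]
  exact Submodule.finrank_mono (LinearMap.range_comp_le_range _ _)

/-- If factor k of an image repeats factor j, images keep track of it. -/
theorem exists_of_mv_ne {h : GL (J → Fin m) F} {j k : J}
    (H : ∀ x : J → Fin m → F, ∃ y, mv h (pten x) = pten y ∧ y k = x j)
    {z : (J → Fin m) → F} {a : J → Fin m} (ha : mv h z a ≠ 0) : ∃ b, z b ≠ 0 ∧ b j = a k := by
  by_contra hcon
  push Not at hcon
  refine ha ?_
  conv_lhs => rw [pi_eq_sum_univ' z]
  rw [mv_sum, Finset.sum_apply]
  refine Finset.sum_eq_zero fun b _ => ?_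
  rw [mv_smul, Pi.smul_apply]
  by_cases hb : z b = 0
  · rw [hb, zero_smul]
  obtain ⟨y, hy, hyk⟩ := H fun q => Pi.single (b q) 1
  have e : pten (fun q => (Pi.single (b q) (1 : F) : Fin m → F)) = Pi.single b 1 := by
    funext a'
    unfold pten
    by_cases h' : a' = b
    · subst h'; simp
    · obtain ⟨q, hq⟩ := Function.ne_iff.1 h'
      rw [Pi.single_eq_of_ne h']
      exact Finset.prod_eq_zero (Finset.mem_univ q) (Pi.single_eq_of_ne hq _)
  rw [e] at hy
  rw [hy]
  have h0 : pten y a = 0 := Finset.prod_eq_zero (Finset.mem_univ k) (by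
    rw [hyk]; exact Pi.single_eq_of_ne (fun e => hcon b hb e.symm) _)
  rw [h0, smul_zero]

section Perm

variable [NeZero m]

/-- The injection counting the supporting set. -/
def countMap (j k : J) (r : Rest j m) : J → Fin m :=
  let a := (sp j m).symm (r, 0)
  if a k = 0 then Function.update (Function.update a j 1) k 2 else a

theorem countMap_spec (hm : 3 ≤ m) {j k : J} (hjk : j ≠ k) (r : Rest j m) :
    (countMap j k r j = 0 ∧ countMap j k r k ≠ 0) ∨
      (countMap j k r j = 1 ∧ countMap j k r k = 2) := by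
  by_cases h : (sp j m).symm (r, 0) k = 0
  · right
    simp [countMap, h, hjk]
  · left
    simp [countMap, h, sp_symm_self]

theorem fin_facts (hm : 3 ≤ m) : (0 : Fin m) ≠ 1 ∧ (2 : Fin m) ≠ 0 ∧ (2 : Fin m) ≠ 1 := by
  obtain ⟨n, rfl⟩ : ∃ n, m = n + 3 := ⟨m - 3, by omega⟩
  refine ⟨?_, ?_, ?_⟩ <;> simp [Fin.ext_iff, Fin.val_ofNat, Nat.mod_eq_of_lt]

theorem countMap_injective (hm : 3 ≤ m) {j k : J} (hjk : j ≠ k) :
    Function.Injective (countMap (m := m) j k) := by
  obtain ⟨h01, h20, h21⟩ := fin_facts hm
  intro r r' h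
  funext q
  have hq : (q : J) ≠ j := q.2
  by_cases e1 : (sp j m).symm (r, 0) k = 0 <;> by_cases e2 : (sp j m).symm (r', 0) k = 0
  · rcases eq_or_ne (q : J) k with hqk | hqk
    · rw [sp_symm_other j r 0 hjk.symm] at e1
      rw [sp_symm_other j r' 0 hjk.symm] at e2
      have hq' : q = ⟨k, hjk.symm⟩ := Subtype.ext hqk
      rw [hq', e1, e2]
    · have := congrFun h q
      simp [countMap, e1, e2, hqk, hq, sp_symm_other] at this
      exact this
  · exfalso
    have := congrFun h j
    simp [countMap, e1, e2, hjk, sp_symm_self] at this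
    omega
  · exfalso
    have := congrFun h j
    simp [countMap, e1, e2, hjk, sp_symm_self] at this
    omega
  · have := congrFun h q
    simp [countMap, e1, e2, hq, sp_symm_other] at this
    exact this

/-- A map with a moved factor has large displacement. -/
theorem rank_of_moved (hm : 3 ≤ m) {σ : Equiv.Perm J} {g : GL (J → Fin m) F} (hg : MonoOf σ g)
    (hσ : σ ≠ 1) :
    m ^ Fintype.card J ≤ m * Module.finrank F (LinearMap.range (dev g)) ∧
      (¬ σ.IsSwap → m ^ Fintype.card J < m * Module.finrank F (LinearMap.range (dev g))) := by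
  obtain ⟨A, hA⟩ := hg
  obtain ⟨k, hk⟩ : ∃ k, σ k ≠ k := by
    by_contra hcon
    push Not at hcon
    exact hσ (Equiv.ext hcon)
  set j := σ k with hj
  have hjk : j ≠ k := hk
  obtain ⟨h01, h20, h21⟩ := fin_facts hm
  -- after a change of coordinates the factor k of an image repeats the factor j
  have main : ∀ (D : GL (J → Fin m) F) (N : Finset (J → Fin m)),
      (∀ x : J → Fin m → F, ∃ y, mv (D⁻¹ * g * D) (pten x) = pten y ∧ y k = x j) →
      (∀ n ∈ N, n j = 0 ∧ n k = 0) →
      (∀ z : (J → Fin m) → F, (∀ a, z a ≠ 0 → a ∈ N) → mv (D⁻¹ * g * D) z = z → z = 0) →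
      m ^ Fintype.card J + m * N.card ≤ m * Module.finrank F (LinearMap.range (dev g)) := by
    intro D N H hN hNfix
    classical
    set h := D⁻¹ * g * D with hh
    have hrk : Module.finrank F (LinearMap.range (dev h)) =
        Module.finrank F (LinearMap.range (dev g)) := by
      have : LinearMap.range (dev h) = (LinearMap.range (dev g)).map (mvLin D⁻¹) := by
        rw [← range_dev_conj, inv_inv]
      rw [this, finrank_map_gl]
    set P := Finset.univ.image (countMap (m := m) j k) ∪ N with hP
    have hdisj : Disjoint (Finset.univ.image (countMap (m := m) j k)) N := by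
      rw [Finset.disjoint_left]
      intro a ha haN
      obtain ⟨r, -, rfl⟩ := Finset.mem_image.1 ha
      obtain ⟨-, hk0⟩ := hN _ haN
      rcases countMap_spec hm hjk r with ⟨-, h'⟩ | ⟨-, h'⟩
      · exact h' hk0
      · exact h20 (h'.symm.trans hk0)
    have hmem : ∀ a ∈ P, (a j = 0 ∧ (a k = 0 → a ∈ N)) ∨ (a j = 1 ∧ a k = 2) := by
      intro a ha
      rcases Finset.mem_union.1 ha with ha | ha
      · obtain ⟨r, -, rfl⟩ := Finset.mem_image.1 ha
        rcases countMap_spec hm hjk r with ⟨h1, h2⟩ | h1
        · exact Or.inl ⟨h1, fun e => absurd e h2⟩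
        · exact Or.inr h1
      · exact Or.inl ⟨(hN a ha).1, fun _ => ha⟩
    have hle := card_le_rank_of_support P h (by
      intro z hz hfix
      have hj0 : ∀ a, z a ≠ 0 → a j = 0 := by
        intro a ha
        rcases hmem a (hz a ha) with ⟨h1, -⟩ | ⟨-, h2⟩
        · exact h1
        obtain ⟨b, hb, hbj⟩ := exists_of_mv_ne H (by rw [hfix]; exact ha)
        exfalso
        rcases hmem b (hz b hb) with ⟨h1, -⟩ | ⟨h1, -⟩
        · exact h20 (h2.symm.trans (hbj.symm.trans h1))
        · exact h21 (h2.symm.trans (hbj.symm.trans h1))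
      refine hNfix z (fun a ha => ?_) hfix
      rcases hmem a (hz a ha) with ⟨-, h1⟩ | ⟨h1, -⟩
      · obtain ⟨b, hb, hbj⟩ := exists_of_mv_ne H (by rw [hfix]; exact ha)
        exact h1 (hbj.symm.trans (hj0 b hb))
      · exact absurd ((hj0 a ha).symm.trans h1) h01)
    rw [hrk, hP, Finset.card_union_of_disjoint hdisj,
      Finset.card_image_of_injective _ (countMap_injective hm hjk), Finset.card_univ] at hle
    have := Nat.mul_le_mul_left m hle
    rw [Nat.mul_add, Nat.mul_comm m (Fintype.card _), card_rest] at this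
    exact this
  constructor
  · have := main (fac k (A k)) ∅ (fun x => ⟨_, by rw [mv_mul, mv_mul, mv_fac, hA, fac_inv, mv_fac],
      by simp [← hj, hjk, mv_inv_mv]⟩) (by simp)
      (fun z hz _ => funext fun a => by_contra fun ha => absurd (hz a ha) (Finset.notMem_empty a))
    simpa using this
  · intro hns
    obtain ⟨s, hs, hsj, hsk⟩ : ∃ s, σ s ≠ s ∧ s ≠ j ∧ s ≠ k := by
      by_contra hcon
      push Not at hcon
      refine hns ⟨j, k, hjk, Equiv.ext fun q => ?_⟩
      have hfix : ∀ q, q ≠ j → q ≠ k → σ q = q := fun q h1 h2 => by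
        by_contra h3
        exact h2 (hcon q h3 h1)
      rcases eq_or_ne q k with rfl | hqk
      · simp [← hj]
      rcases eq_or_ne q j with hqj | hqj
      · subst hqj
        rw [Equiv.swap_apply_left]
        by_contra h3
        by_cases h4 : σ j = j
        · exact hjk (σ.injective (h4.trans hj))
        · have h5 : σ (σ j) = σ j := hfix _ h4 h3
          exact h4 (σ.injective h5)
      · rw [Equiv.swap_apply_of_ne_of_ne hqj hqk, hfix q hqj hqk]
    set r := σ s with hr
    have hrs : r ≠ s := hs
    have hrj : r ≠ j := fun e => hsk (σ.injective e)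
    set C : GL (Fin m) F := A s * (if r = k then A k else 1) with hC
    set D : GL (J → Fin m) F := fac k (A k) * fac s C with hD
    have hform : ∀ x : J → Fin m → F, ∃ y, mv (D⁻¹ * g * D) (pten x) = pten y ∧ y k = x j ∧
        y s = x r := by
      intro x
      refine ⟨_, by rw [mv_mul, mv_mul, hD, _root_.mul_inv_rev, fac_inv, fac_inv, mv_mul, mv_mul,
        mv_fac, mv_fac, hA, mv_fac, mv_fac], ?_, ?_⟩
      · simp [← hj, hjk, hsk, hsk.symm, hsj.symm, mv_inv_mv]
      · rw [Function.update_self, Function.update_of_ne hsk, ← hr]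
        by_cases h : r = k
        · rw [h, Function.update_self, Function.update_of_ne (Ne.symm hsk), ← mv_mul (A s),
            show A s * A k = C by rw [hC, if_pos h], mv_inv_mv]
        · rw [Function.update_of_ne h, Function.update_of_ne hrs, show A s = C by rw [hC, if_neg h, mul_one],
            mv_inv_mv]
    set n₀ : J → Fin m := Pi.single s 1 with hn₀
    have := main D {n₀} (fun x => by obtain ⟨y, h1, h2, -⟩ := hform x; exact ⟨y, h1, h2⟩)
      (by simp [n₀, hsj.symm, hsk.symm]) (fun z hz hfix => funext fun a => by_contra fun ha => by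
        have e := Finset.mem_singleton.1 (hz a ha)
        subst e
        obtain ⟨b, hb, hbr⟩ := exists_of_mv_ne (j := r) (k := s)
          (fun x => by obtain ⟨y, h1, -, h3⟩ := hform x; exact ⟨y, h1, h3⟩)
          (by rw [hfix]; exact ha)
        rw [Finset.mem_singleton.1 (hz b hb)] at hbr
        simp [n₀, hrs] at hbr
        omega)
    rw [Finset.card_singleton] at this
    omega

end Perm

theorem exists_moved_of_not_scalar {κ : Type} [Fintype κ] [DecidableEq κ] {A : Matrix κ κ F}
    (h : ∀ s : F, A ≠ s • 1) : ∃ w, A *ᵥ w ∉ Submodule.span F {w} := by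
  by_contra hcon
  push Not at hcon
  rcases isEmpty_or_nonempty κ with he | ⟨⟨i₀⟩⟩
  · exact h 0 (by ext i; exact isEmptyElim i)
  have key : ∀ i, ∃ s, A *ᵥ Pi.single i 1 = s • Pi.single i 1 := fun i =>
    (Submodule.mem_span_singleton.1 (hcon _)).imp fun s hs => hs.symm
  choose s hs using key
  refine h (s i₀) (Matrix.ext_of_mulVec_single fun i => ?_)
  rw [hs i, Matrix.smul_mulVec, Matrix.one_mulVec]
  congr 1
  by_cases hi : i = i₀
  · rw [hi]
  obtain ⟨t, ht⟩ := Submodule.mem_span_singleton.1 (hcon (Pi.single i 1 + Pi.single i₀ 1))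
  rw [Matrix.mulVec_add, hs, hs] at ht
  have e1 := congrFun ht i
  have e2 := congrFun ht i₀
  simp [hi, Ne.symm hi] at e1 e2
  rw [← e1, e2]

/-- A non-identity monomial map moves at least a 1/m part; in case of equality its displacement
space is a line or its permutation a transposition. -/
theorem mono_rank (hm : 3 ≤ m) [Nonempty J] {σ : Equiv.Perm J} {g : GL (J → Fin m) F}
    (hg : MonoOf σ g) (hne : g ≠ 1) :
    m ^ Fintype.card J ≤ m * Module.finrank F (LinearMap.range (dev g)) ∧
      (m * Module.finrank F (LinearMap.range (dev g)) ≤ m ^ Fintype.card J →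
        (σ = 1 ∧ IsLn (LinearMap.range (dev g))) ∨ σ.IsSwap) := by
  haveI : NeZero m := ⟨by omega⟩
  by_cases hσ : σ = 1
  swap
  · obtain ⟨h1, h2⟩ := rank_of_moved hm hg hσ
    refine ⟨h1, fun h3 => Or.inr ?_⟩
    by_contra hns
    exact absurd h3 (not_le.2 (h2 hns))
  subst hσ
  have hgK := fun i => hg.kron (by omega) i
  by_cases hmov : ∃ (i : J) (B : GL (Rest i m) F) (A : GL (Fin m) F),
      (tg i m F g : Matrix (Rest i m × Fin m) (Rest i m × Fin m) F) =
        (B : Matrix (Rest i m) (Rest i m) F) ⊗ₖ (A : Matrix (Fin m) (Fin m) F) ∧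
      ∃ w, (A : Matrix (Fin m) (Fin m) F) *ᵥ w ∉ Submodule.span F {w}
  · obtain ⟨i, B, A, hBA, w, hw⟩ := hmov
    have h1 := card_le_of_moved hBA hw
    rw [finrank_dev_tg] at h1
    have hle : m ^ Fintype.card J ≤ m * Module.finrank F (LinearMap.range (dev g)) := by
      rw [← card_rest i, Nat.mul_comm]
      exact Nat.mul_le_mul_left m h1
    refine ⟨hle, fun h3 => Or.inl ⟨rfl, ?_⟩⟩
    rw [← card_rest i, Nat.mul_comm (Fintype.card _) m] at h3
    have h4 := Nat.le_of_mul_le_mul_left h3 (by omega)
    obtain ⟨-, d, hd, hr⟩ := line_of_rank_le (by simpa using hm) hBA hw (by rw [finrank_dev_tg]; exact h4)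
    refine ⟨i, d, hd, ?_⟩
    rw [range_dev_tg] at hr
    rw [Ln, ← hr, ← Submodule.map_comp]
    simp
  push Not at hmov
  obtain ⟨A, hA⟩ := hg
  -- every factor is scalar
  have hsc : ∀ i, ∃ s : F, ∀ w, mv (A i) w = s • w := by
    intro i
    obtain ⟨B', A', hBA⟩ := hgK i
    have hA' : ∃ s : F, (A' : Matrix (Fin m) (Fin m) F) = s • 1 := by
      by_contra hcon
      push Not at hcon
      obtain ⟨w, hw⟩ := exists_moved_of_not_scalar hcon
      exact hw (hmov i B' A' hBA w)
    obtain ⟨s, hs⟩ := hA'
    by_contra hcon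
    push Not at hcon
    obtain ⟨w, hw⟩ : ∃ w, mv (A i) w ∉ Submodule.span F {w} := by
      refine exists_moved_of_not_scalar fun t ht => ?_
      obtain ⟨w, hw⟩ := hcon t
      exact hw (by show (A i : Matrix (Fin m) (Fin m) F) *ᵥ w = _; rw [ht, Matrix.smul_mulVec, Matrix.one_mulVec])
    set x : J → Fin m → F := fun j => if j = i then w else Pi.single 0 1 with hx
    have e1 : mv (tg i m F g) (push i (pten x)) = push i (mv g (pten x)) := mv_tg _ _ _
    rw [hA, push_pten, push_pten] at e1
    have e2 : mv (tg i m F g) (ten (pten fun j : {j // j ≠ i} => x j) (x i)) =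
        ten (mv B' (pten fun j : {j // j ≠ i} => x j)) (s • x i) := by
      show (tg i m F g : Matrix (Rest i m × Fin m) (Rest i m × Fin m) F) *ᵥ _ = _
      rw [hBA, kronecker_mulVec_ten, hs, Matrix.smul_mulVec, Matrix.one_mulVec]
    rw [e2, show x i = w from if_pos rfl] at e1
    obtain ⟨p, hp1, hp2⟩ := exists_dot hw
    have e3 := congrArg (ctr p) e1
    rw [ctr_ten, ctr_ten, dotProduct_smul, hp1 w (Submodule.mem_span_singleton_self w), smul_zero,
      zero_smul, Equiv.Perm.one_apply, show x i = w from if_pos rfl, hp2, one_smul] at e3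
    refine pten_ne_zero (fun j h0 => ?_) e3.symm
    have h1 : x j = 0 := mv_inj (A j) (h0.trans (mv_zero _).symm)
    rw [hx] at h1
    simp only [if_neg j.2] at h1
    exact absurd h1 (by simp)
  choose s hs using hsc
  have hgs : ∀ x, mv g x = (∏ j, s j) • x := by
    have e : mvLin g = (∏ j, s j) • LinearMap.id := eq_of_pten fun x => by
      rw [Matrix.toLin'_apply]
      show mv g (pten x) = (∏ j, s j) • pten x
      rw [hA]
      funext a
      simp only [pten, hs, Pi.smul_apply, smul_eq_mul, Equiv.Perm.one_apply]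
      rw [Finset.prod_mul_distrib]
    intro x
    have := LinearMap.congr_fun e x
    simpa [mv] using this
  have hS : ∏ j, s j ≠ 1 := fun h1 => hne (ext_mv fun x => by rw [hgs, h1, one_smul, mv_one])
  have htop : LinearMap.range (dev g) = ⊤ := by
    rw [LinearMap.range_eq_top]
    intro y
    exact ⟨((∏ j, s j) - 1)⁻¹ • y, by
      rw [dev_apply, hgs, smul_smul, ← sub_smul, ← sub_one_mul, mul_inv_cancel₀ (sub_ne_zero.2 hS), one_smul]⟩
  have hfin : Module.finrank F (LinearMap.range (dev g)) = m ^ Fintype.card J := by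
    rw [htop, finrank_top, Module.finrank_fintype_fun_eq_card, card_idx]
  refine ⟨by rw [hfin]; exact Nat.le_mul_of_pos_left _ (by omega), fun h3 => absurd h3 ?_⟩
  rw [hfin]
  have := Nat.pow_pos (n := Fintype.card J) (show 0 < m by omega)
  have : 2 * m ^ Fintype.card J ≤ m * m ^ Fintype.card J := Nat.mul_le_mul_right _ (by omega)
  omega

end Cfsg.Agent.WreathMax
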