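/-
A map sending every line to a line is monomial.
-/
import Cfsg.Agent.Lib.WreathMax.Rank

set_option autoImplicit false
set_option linter.unusedSectionVars false

namespace Cfsg.Agent.WreathMax

open scoped Matrix Kronecker
open Matrix Cfsg.Agent.Transvec Cfsg.Agent.TensorMax

variable {J : Type} [Fintype J] [DecidableEq J] {m : ℕ} {F : Type*} [Field F]

theorem update_mem_eq {i : J} {c : Fin m → F} {x : (J → Fin m) → F} (hx : x ∈ Ln i c)
    (a : J → Fin m) (k : Fin m) : x a * c k = x (Function.update a i k) * c (a i) := by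
  obtain ⟨u, hu⟩ := mem_line.1 (mem_Ln.1 hx)
  have key : ∀ b, x b = u (fun j : {j // j ≠ i} => b j) * c (b i) := by
    intro b
    have := congrFun hu (sp i m b)
    rw [sp_apply, ten_apply] at this
    rw [this, ← sp_apply, push_apply, Equiv.symm_apply_apply]
  have e : (fun j : {j // j ≠ i} => Function.update a i k j) = fun j : {j // j ≠ i} => a j :=
    funext fun j => Function.update_of_ne j.2 _ _
  rw [key, key, e, Function.update_self]
  ring

/-- The lines of c cut out the multiples of the pure tensor of c. -/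
theorem eq_smul_pten {c : J → Fin m → F} (hc : ∀ j, c j ≠ 0) {x : (J → Fin m) → F}
    (hx : ∀ j, x ∈ Ln j (c j)) : ∃ s : F, x = s • pten c := by
  choose a₀ ha₀ using fun j => Function.ne_iff.1 (hc j)
  have key : ∀ (S : Finset J) (a : J → Fin m), x a * ∏ j ∈ S, c j (a₀ j) =
      x (fun j => if j ∈ S then a₀ j else a j) * ∏ j ∈ S, c j (a j) := by
    intro S
    induction S using Finset.induction_on with
    | empty => intro a; simp
    | insert i S hi ih =>
      intro a
      rw [Finset.prod_insert hi, Finset.prod_insert hi]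
      have e1 := update_mem_eq (hx i) (fun j => if j ∈ S then a₀ j else a j) (a₀ i)
      have e2 : Function.update (fun j => if j ∈ S then a₀ j else a j) i (a₀ i) =
          fun j => if j ∈ insert i S then a₀ j else a j := by
        funext j
        rcases eq_or_ne j i with rfl | h
        · simp
        · simp [h]
      rw [e2, if_neg hi] at e1
      linear_combination (c i (a₀ i)) * ih a + (∏ j ∈ S, c j (a j)) * e1
  refine ⟨x a₀ / ∏ j, c j (a₀ j), funext fun a => ?_⟩
  have := key Finset.univ a
  simp only [Finset.mem_univ, if_true] at this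
  rw [Pi.smul_apply, smul_eq_mul, div_mul_eq_mul_div, eq_div_iff
    (Finset.prod_ne_zero_iff.2 fun j _ => ha₀ j)]
  exact this

theorem Ln_eq_of_meet {i : J} {c c' : Fin m → F} {x : (J → Fin m) → F} (hx0 : x ≠ 0)
    (h : x ∈ Ln i c) (h' : x ∈ Ln i c') : Ln i c = Ln i c' := by
  have := line_eq_of_mem (fun e => hx0 ((push i).injective (e.trans (map_zero _).symm)))
    (mem_Ln.1 h) (mem_Ln.1 h')
  rw [Ln, Ln, this]

theorem Ln_meet {i k : J} (h : i ≠ k) {c d : Fin m → F} (hc : c ≠ 0) (hd : d ≠ 0) :
    Ln i c ⊓ Ln k d ≠ ⊥ := by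
  set x : J → Fin m → F := fun j => if j = i then c else d with hx
  have hxi : x i = c := if_pos rfl
  have hxk : x k = d := if_neg h.symm
  intro hbot
  have hm : pten x ∈ Ln i c ⊓ Ln k d :=
    ⟨hxi ▸ pten_mem_Ln i x, hxk ▸ pten_mem_Ln k x⟩
  rw [hbot, Submodule.mem_bot] at hm
  exact pten_ne_zero (fun j => by rw [hx]; dsimp only; split <;> assumption) hm

theorem Ln_type_unique (hm : 2 ≤ m) {i k : J} {c d : Fin m → F} (hc : c ≠ 0) (hd : d ≠ 0)
    (h : Ln i c = Ln k d) : i = k := by
  by_contra hne
  obtain ⟨p, hp⟩ : ∃ p : Fin m → F, p ∉ Submodule.span F {d} := by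
    by_contra hcon
    push Not at hcon
    have e1 := finrank_span_le_card (R := F) ({d} : Set (Fin m → F))
    rw [Submodule.eq_top_iff'.2 hcon, finrank_top, Module.finrank_fintype_fun_eq_card] at e1
    simp at e1
    omega
  set x : J → Fin m → F := fun j => if j = i then c else p with hx
  have hxi : x i = c := if_pos rfl
  have hxk : x k = p := if_neg (Ne.symm hne)
  have h1 : pten x ∈ Ln k d := h ▸ hxi ▸ pten_mem_Ln i x
  obtain ⟨θ, hθ1, hθ2⟩ := exists_dot hp
  have h2 := ctr_line (hθ1 d (Submodule.mem_span_singleton_self d)) (mem_Ln.1 h1)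
  rw [push_pten, ctr_ten, hxk, hθ2, one_smul] at h2
  refine pten_ne_zero (fun j h0 => ?_) h2
  by_cases hj : (j : J) = i
  · exact hc (by rw [← h0, hx]; simp [hj])
  · exact hp (by
      have : (0 : Fin m → F) = p := by rw [← h0, hx]; simp [hj]
      rw [← this]; exact zero_mem _)

/-- A map sending every line to a line is monomial. -/
theorem mono_of_lines (hm : 2 ≤ m) [Nonempty J] {g : GL (J → Fin m) F}
    (h : ∀ (i : J) (c : Fin m → F), c ≠ 0 → IsLn ((Ln i c).map (mvLin g))) : Mono g := by
  classical
  haveI : NeZero m := ⟨by omega⟩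
  choose T C hC0 hTC using h
  set e₀ : Fin m → F := Pi.single 0 1 with he₀
  have he : e₀ ≠ 0 := by simp [e₀]
  have hmeet : ∀ {S S' : Submodule F ((J → Fin m) → F)}, S ⊓ S' ≠ ⊥ →
      S.map (mvLin g) ⊓ S'.map (mvLin g) ≠ ⊥ := by
    intro S S' hne hbot
    obtain ⟨x, hx, hx0⟩ := Submodule.exists_mem_ne_zero_of_ne_bot hne
    have : mv g x ∈ S.map (mvLin g) ⊓ S'.map (mvLin g) :=
      ⟨mem_map_gl.2 ⟨x, hx.1, rfl⟩, mem_map_gl.2 ⟨x, hx.2, rfl⟩⟩
    rw [hbot, Submodule.mem_bot] at this
    exact hx0 (mv_inj g (this.trans (mv_zero g).symm))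
  have hinjmap : ∀ {S S' : Submodule F ((J → Fin m) → F)},
      S.map (mvLin g) = S'.map (mvLin g) → S = S' := fun {S S'} e => by
    rw [← map_gl_inv g S, e, map_gl_inv]
  -- the type of the image does not depend on the vector
  have htype : ∀ i c hc, T i c hc = T i e₀ he := by
    intro i c hc
    by_contra hne
    have h1 := Ln_meet hne (hC0 i c hc) (hC0 i e₀ he)
    rw [← hTC, ← hTC] at h1
    obtain ⟨y, hy, hy0⟩ := Submodule.exists_mem_ne_zero_of_ne_bot h1
    obtain ⟨x, hx, rfl⟩ := mem_map_gl.1 hy.1
    obtain ⟨x', hx', e'⟩ := mem_map_gl.1 hy.2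
    obtain rfl := mv_inj g e'
    have e := Ln_eq_of_meet (fun h => hy0 (by rw [h, mv_zero])) hx hx'
    exact hne (Ln_type_unique hm (hC0 i c hc) (hC0 i e₀ he) (by rw [← hTC, ← hTC, e]))
  have hτi : Function.Injective fun i => T i e₀ he := by
    intro i k hik
    by_contra hne
    obtain ⟨y, hy, hy0⟩ :=
      Submodule.exists_mem_ne_zero_of_ne_bot (hmeet (Ln_meet hne he he))
    obtain ⟨hy1, hy2⟩ := hy
    rw [hTC i e₀ he] at hy1
    rw [hTC k e₀ he, ← show T i e₀ he = T k e₀ he from hik] at hy2
    have := Ln_eq_of_meet hy0 hy1 hy2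
    refine hne (Ln_type_unique hm he he (hinjmap ?_))
    rw [hTC i e₀ he, hTC k e₀ he, this, show T i e₀ he = T k e₀ he from hik]
  set τ : Equiv.Perm J := Equiv.ofBijective _ (Finite.injective_iff_bijective.1 hτi) with hτ
  have himg : ∀ i c hc, (Ln i c).map (mvLin g) = Ln (τ i) (C i c hc) := fun i c hc => by
    rw [hTC i c hc, htype]; rfl
  -- images of pure tensors
  have hpure : ∀ (x : J → Fin m → F) (hx : ∀ j, x j ≠ 0), ∃ s : F, s ≠ 0 ∧
      mv g (pten x) = s • pten fun q => C (τ.symm q) (x (τ.symm q)) (hx _) := by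
    intro x hx
    have hmem : ∀ q, mv g (pten x) ∈ Ln q (C (τ.symm q) (x (τ.symm q)) (hx _)) := fun q => by
      have h1 := himg (τ.symm q) _ (hx (τ.symm q))
      have h2 : mv g (pten x) ∈ Ln (τ (τ.symm q)) (C (τ.symm q) (x (τ.symm q)) (hx _)) := by
        rw [← h1]
        exact mem_map_gl.2 ⟨_, pten_mem_Ln (τ.symm q) x, rfl⟩
      rwa [Equiv.apply_symm_apply] at h2
    obtain ⟨s, hs⟩ := eq_smul_pten (fun q => hC0 _ _ _) hmem
    refine ⟨s, fun h0 => ?_, hs⟩
    rw [h0, zero_smul] at hs
    exact pten_ne_zero hx (mv_inj g (hs.trans (mv_zero g).symm))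
  -- linear representatives of the factor maps
  have hlin : ∀ i, ∃ L : (Fin m → F) →ₗ[F] Fin m → F, Function.Injective L ∧
      ∀ c (hc : c ≠ 0), ∃ r : F, C i c hc = r • L c := by
    intro i
    set x₀ : J → Fin m → F := fun _ => e₀
    set y₀ : J → Fin m → F := fun q => C (τ.symm q) e₀ he
    choose a₀ ha₀ using fun q => Function.ne_iff.1 (hC0 (τ.symm q) e₀ he)
    let L : (Fin m → F) →ₗ[F] Fin m → F :=
      { toFun := fun w k => mv g (pten (Function.update x₀ i w)) (Function.update a₀ (τ i) k)
        map_add' := fun w w' => funext fun k => by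
          have : pten (Function.update x₀ i (w + w')) =
              pten (Function.update x₀ i w) + pten (Function.update x₀ i w') := by
            apply (push i).injective
            rw [map_add, push_pten, push_pten, push_pten, Function.update_self, Function.update_self,
              Function.update_self, ten_add_right]
            congr 1 <;> congr 2 <;> funext j <;>
              rw [Function.update_of_ne j.2, Function.update_of_ne j.2]
          rw [this, mv_add]; rfl
        map_smul' := fun a w => funext fun k => by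
          rw [pten_update_smul, mv_smul]; rfl }
    have hkey : ∀ c (hc : c ≠ 0), ∃ r : F, r ≠ 0 ∧ L c = r • C i c hc := by
      intro c hc
      have hx : ∀ j, Function.update x₀ i c j ≠ 0 := fun j => by
        rcases eq_or_ne j i with rfl | h
        · simpa using hc
        · simpa [h, x₀] using he
      obtain ⟨s, hs0, hs⟩ := hpure _ hx
      refine ⟨s * ∏ q ∈ Finset.univ.erase (τ i), C (τ.symm q) e₀ he (a₀ q), mul_ne_zero hs0
        (Finset.prod_ne_zero_iff.2 fun q _ => ha₀ q), funext fun k => ?_⟩
      show mv g (pten (Function.update x₀ i c)) (Function.update a₀ (τ i) k) = _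
      rw [hs, Pi.smul_apply, Pi.smul_apply, smul_eq_mul, smul_eq_mul, pten,
        ← Finset.mul_prod_erase Finset.univ _ (Finset.mem_univ (τ i)), Function.update_self]
      have e1 : ∀ (l : J) (w : Fin m → F) (hl : l = i) (hw : w = c) (hw0 : w ≠ 0),
          C l w hw0 = C i c hc := by rintro l w rfl rfl _; rfl
      rw [e1 _ _ (τ.symm_apply_apply i) (by simp) _]
      rw [Finset.prod_congr rfl fun q hq => ?_]
      · ring
      have hq' : τ.symm q ≠ i := fun e => Finset.ne_of_mem_erase hq (by rw [← e]; simp)
      have e2 : ∀ (w : Fin m → F) (hw : w = e₀) (hw0 : w ≠ 0),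
          C (τ.symm q) w hw0 = C (τ.symm q) e₀ he := by rintro w rfl _; rfl
      rw [e2 _ (by simp [hq', x₀]), Function.update_of_ne (Finset.ne_of_mem_erase hq)]
    refine ⟨L, ?_, fun c hc => ?_⟩
    · rw [← LinearMap.ker_eq_bot, LinearMap.ker_eq_bot']
      intro c hLc
      by_contra hc
      obtain ⟨r, hr, e⟩ := hkey c hc
      rw [hLc, eq_comm, smul_eq_zero] at e
      exact e.elim hr (hC0 i c hc)
    · obtain ⟨r, hr, e⟩ := hkey c hc
      exact ⟨r⁻¹, by rw [e, smul_smul, inv_mul_cancel₀ hr, one_smul]⟩
  choose L hLinj hL using hlin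
  -- images of pure tensors up to a scalar
  have hsc : ∀ x : J → Fin m → F, (∀ j, x j ≠ 0) → ∃ s : F, s ≠ 0 ∧
      mv g (pten x) = s • pten fun q => L (τ.symm q) (x (τ.symm q)) := by
    intro x hx
    obtain ⟨s, hs0, hs⟩ := hpure x hx
    choose r hr using fun q => hL (τ.symm q) (x (τ.symm q)) (hx _)
    have e : (pten fun q => C (τ.symm q) (x (τ.symm q)) (hx _)) =
        (∏ q, r q) • pten fun q => L (τ.symm q) (x (τ.symm q)) := by
      funext a
      simp only [pten, hr, Pi.smul_apply, smul_eq_mul, Finset.prod_mul_distrib]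
    rw [e, smul_smul] at hs
    refine ⟨_, fun h0 => ?_, hs⟩
    rw [h0, zero_smul] at hs
    exact pten_ne_zero hx (mv_inj g (hs.trans (mv_zero g).symm))
  choose! s hs0 hs using hsc
  set img : (J → Fin m → F) → (J → Fin m) → F :=
    fun x => pten fun q => L (τ.symm q) (x (τ.symm q)) with himgdef
  have himg0 : ∀ x, (∀ j, x j ≠ 0) → img x ≠ 0 := fun x hx =>
    pten_ne_zero fun q h0 => hx _ (hLinj _ (h0.trans (map_zero _).symm))
  have hupd : ∀ (x : J → Fin m → F) (i : J) (w : Fin m → F),
      img (Function.update x i w) =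
        pten (Function.update (fun q => L (τ.symm q) (x (τ.symm q))) (τ i) (L i w)) := by
    intro x i w
    refine congrArg pten (funext fun q => ?_)
    rcases eq_or_ne q (τ i) with rfl | h
    · simp
    · have : τ.symm q ≠ i := fun e => h (by rw [← e]; simp)
      simp [h, this]
  -- the scalar is independent of one vector
  have hslot : ∀ (x : J → Fin m → F) (hx : ∀ j, x j ≠ 0) (i : J) (w : Fin m → F),
      w ∉ Submodule.span F {x i} → s (Function.update x i w) = s x := by
    intro x hx i w hw
    have hw0 : w ≠ 0 := fun h0 => hw (h0 ▸ zero_mem _)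
    have hsum0 : x i + w ≠ 0 := fun h0 => hw (by
      rw [eq_neg_of_add_eq_zero_right h0]; exact neg_mem (Submodule.mem_span_singleton_self _))
    have hx' : ∀ v : Fin m → F, v ≠ 0 → ∀ j, Function.update x i v j ≠ 0 := fun v hv j => by
      rcases eq_or_ne j i with rfl | h
      · simpa using hv
      · simpa [h] using hx j
    set y := fun q => L (τ.symm q) (x (τ.symm q)) with hy
    have e1 := hs _ (hx' _ hsum0)
    have e2 : pten (Function.update x i (x i + w)) = pten x + pten (Function.update x i w) := by
      apply (push i).injective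
      rw [map_add, push_pten, push_pten, push_pten, Function.update_self, Function.update_self,
        ten_add_right]
      congr 1 <;> congr 2 <;> funext j <;>
        simp [Function.update_of_ne j.2]
    rw [e2, mv_add, hs x hx, hs _ (hx' _ hw0)] at e1
    rw [show (pten fun q => L (τ.symm q) (x (τ.symm q))) = pten (Function.update y (τ i) (L i (x i))) by
      rw [show L i (x i) = y (τ i) by simp [hy], Function.update_eq_self]] at e1
    rw [show (pten fun q => L (τ.symm q) (Function.update x i (x i + w) (τ.symm q))) =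
        pten (Function.update y (τ i) (L i (x i + w))) from hupd x i _,
      show (pten fun q => L (τ.symm q) (Function.update x i w (τ.symm q))) =
        pten (Function.update y (τ i) (L i w)) from hupd x i _] at e1
    have hYrest : pten (fun q : {q // q ≠ τ i} => y q) ≠ 0 := pten_ne_zero fun q h0 =>
      hx _ (hLinj _ (h0.trans (map_zero _).symm))
    have e3 := congrArg (push (τ i)) e1
    rw [map_add, map_smul, map_smul, map_smul, push_pten, push_pten, push_pten,
      Function.update_self, Function.update_self, Function.update_self, map_add] at e3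
    have hrest : ∀ v, (pten fun q : {q // q ≠ τ i} => Function.update y (τ i) v q) =
        pten fun q : {q // q ≠ τ i} => y q := fun v =>
      congrArg pten (funext fun q => Function.update_of_ne q.2 _ _)
    rw [hrest, hrest, hrest, ← ten_smul_right, ← ten_smul_right, ← ten_smul_right, ← ten_add_right,
      smul_add] at e3
    obtain ⟨θ, hθ⟩ := exists_dot_one hYrest
    have e4 := congrArg (ctrL θ) e3
    rw [ctrL_ten, ctrL_ten, hθ, one_smul, one_smul] at e4
    set S := s (Function.update x i (x i + w))
    have hwL : L i w ∉ Submodule.span F {L i (x i)} := fun hm => by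
      obtain ⟨r, hr⟩ := Submodule.mem_span_singleton.1 hm
      rw [← map_smul] at hr
      exact hw (Submodule.mem_span_singleton.2 ⟨r, hLinj i hr⟩)
    have hcoef : ∀ (b b' : F), b • L i w = b' • L i (x i) → b = 0 := fun b b' h0 => by
      by_contra hb
      exact hwL (Submodule.mem_span_singleton.2 ⟨b⁻¹ * b', by
        rw [mul_smul, ← h0, smul_smul, inv_mul_cancel₀ hb, one_smul]⟩)
    have h1 : (s (Function.update x i w) - S) • L i w = (S - s x) • L i (x i) := by
      rw [sub_smul, sub_smul, sub_eq_sub_iff_add_eq_add, add_comm (s _ • L i w), e4]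
    have h2 := hcoef _ _ h1
    rw [h2, zero_smul, eq_comm, smul_eq_zero, sub_eq_zero] at h1
    have h3 : L i (x i) ≠ 0 := fun h0 => hx i (hLinj i (h0.trans (map_zero _).symm))
    rw [sub_eq_zero.1 h2, h1.resolve_right h3]
  have hslot' : ∀ (x : J → Fin m → F) (hx : ∀ j, x j ≠ 0) (i : J) (w : Fin m → F),
      w ≠ 0 → s (Function.update x i w) = s x := by
    intro x hx i w hw
    by_cases h : w ∈ Submodule.span F {x i}
    · obtain ⟨v, hv⟩ : ∃ v : Fin m → F, v ∉ Submodule.span F {x i} := by
        by_contra hcon
        push Not at hcon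
        have e1 := finrank_span_le_card (R := F) ({x i} : Set (Fin m → F))
        rw [Submodule.eq_top_iff'.2 hcon, finrank_top, Module.finrank_fintype_fun_eq_card] at e1
        simp at e1
        omega
      have hv0 : v ≠ 0 := fun h0 => hv (h0 ▸ zero_mem _)
      have hx' : ∀ j, Function.update x i v j ≠ 0 := fun j => by
        rcases eq_or_ne j i with rfl | hj
        · simpa using hv0
        · simpa [hj] using hx j
      have h1 := hslot (Function.update x i v) hx' i w (by
        rw [Function.update_self]
        intro hm'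
        obtain ⟨r, hr⟩ := Submodule.mem_span_singleton.1 hm'
        refine hv ?_
        have hr0 : r ≠ 0 := fun h0 => hw (by rw [← hr, h0, zero_smul])
        rw [show v = r⁻¹ • w by rw [← hr, smul_smul, inv_mul_cancel₀ hr0, one_smul]]
        exact Submodule.smul_mem _ _ h)
      rw [Function.update_idem] at h1
      rw [h1, hslot x hx i v hv]
    · exact hslot x hx i w h
  have hconst : ∀ x y : J → Fin m → F, (∀ j, x j ≠ 0) → (∀ j, y j ≠ 0) → s x = s y := by
    intro x y hx hy
    have : ∀ S : Finset J, s (fun j => if j ∈ S then y j else x j) = s x := by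
      intro S
      induction S using Finset.induction_on with
      | empty => simp
      | insert i S hi ih =>
        rw [← ih, ← hslot' (fun j => if j ∈ S then y j else x j)
          (fun j => by split <;> simp [hx, hy]) i (y i) (hy i)]
        congr 1
        funext j
        rcases eq_or_ne j i with rfl | h
        · simp
        · simp [h]
    simpa using (this Finset.univ).symm
  obtain ⟨q₀⟩ := ‹Nonempty J›
  set s₀ := s fun _ => e₀ with hs₀
  have hs00 : s₀ ≠ 0 := hs0 _ fun _ => he
  have hdet : ∀ (q : J), (LinearMap.toMatrix' ((if q = q₀ then s₀ else 1) • L (τ.symm q))).det ≠ 0 := by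
    intro q hd
    obtain ⟨v, hv0, hv⟩ := Matrix.exists_mulVec_eq_zero_iff.2 hd
    rw [LinearMap.toMatrix'_mulVec, LinearMap.smul_apply, smul_eq_zero] at hv
    refine hv.elim (fun h0 => ?_) fun h0 => hv0 (hLinj _ (h0.trans (map_zero _).symm))
    split at h0
    · exact hs00 h0
    · exact one_ne_zero h0
  refine ⟨τ.symm, fun q => Matrix.GeneralLinearGroup.mkOfDetNeZero _ (hdet q), fun x => ?_⟩
  by_cases hx : ∀ j, x j ≠ 0
  · rw [hs x hx, hconst x (fun _ => e₀) hx fun _ => he, ← hs₀]
    funext a
    simp only [pten, Pi.smul_apply, smul_eq_mul, mv,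
      Matrix.GeneralLinearGroup.val_mkOfDetNeZero, LinearMap.toMatrix'_mulVec,
      LinearMap.smul_apply]
    rw [← Finset.mul_prod_erase Finset.univ _ (Finset.mem_univ q₀),
      ← Finset.mul_prod_erase Finset.univ _ (Finset.mem_univ q₀), if_pos rfl, mul_assoc]
    congr 2
    exact Finset.prod_congr rfl fun q hq => by rw [if_neg (Finset.ne_of_mem_erase hq), one_mul]
  · push Not at hx
    obtain ⟨j, hj⟩ := hx
    have e1 : pten x = 0 := funext fun a =>
      Finset.prod_eq_zero (Finset.mem_univ j) (by rw [hj]; rfl)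
    rw [e1, mv_zero]
    refine funext fun a => (Finset.prod_eq_zero (Finset.mem_univ (τ j)) ?_).symm
    simp only [Equiv.symm_apply_apply, hj, mv_zero]
    rfl

end Cfsg.Agent.WreathMax
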