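/-
Elements x ↦ x + s E(x), E an elementary matrix in a set of factors.
-/
import Cfsg.Agent.Lib.WreathMax.Basic
import Cfsg.Agent.Lib.WreathMax.Kron

set_option autoImplicit false
set_option linter.unusedSectionVars false

namespace Cfsg.Agent.WreathMax

open scoped Matrix Kronecker
open Matrix Cfsg.Agent.Transvec Cfsg.Agent.TensorMax

/-- The commutator of x ↦ x + X x and x ↦ x + Y x when Y X = 0. -/
theorem comm_sh {ι : Type} [Fintype ι] [DecidableEq ι] {F : Type*} [Field F]
    {X Y Z : (ι → F) →ₗ[F] ι → F} (hX : ∀ x, X (X x) = 0) (hY : ∀ x, Y (Y x) = 0)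
    (hZ : ∀ x, Z (Z x) = 0) (hYX : ∀ x, Y (X x) = 0) (hXY : ∀ x, X (Y x) = Z x) :
    sh X hX * sh Y hY * (sh X hX)⁻¹ * (sh Y hY)⁻¹ = sh Z hZ := by
  refine ext_mv fun x => ?_
  rw [mv_mul, mv_mul, mv_mul, mv_sh, mv_sh, mv_sh_inv, mv_sh_inv, mv_sh]
  simp only [map_sub, map_add, hX, hY, hYX, ← hXY]
  simp only [map_zero, sub_zero, add_zero]
  abel

variable {J : Type} [Fintype J] [DecidableEq J] {m : ℕ} {F : Type*} [Field F]

/-- Replacing the coordinates in S. -/
def emb (S : Finset J) (b a : J → Fin m) : J → Fin m := fun j => if j ∈ S then b j else a j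

/-- The product of the elementary matrices (a j, b j) over j in S. -/
def es (S : Finset J) (a b : J → Fin m) :
    ((J → Fin m) → F) →ₗ[F] (J → Fin m) → F where
  toFun x i := if ∀ j ∈ S, i j = a j then x (emb S b i) else 0
  map_add' x y := funext fun i => by simp only [Pi.add_apply]; split <;> simp
  map_smul' r x := funext fun i => by
    simp only [Pi.smul_apply, RingHom.id_apply, smul_eq_mul]; split <;> simp

theorem es_apply (S : Finset J) (a b : J → Fin m) (x : (J → Fin m) → F) (i : J → Fin m) :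
    es S a b x i = if ∀ j ∈ S, i j = a j then x (emb S b i) else 0 := rfl

/-- The composition when the middle indices agree. -/
theorem es_comp (S T : Finset J) (a b c d : J → Fin m) (h : ∀ j ∈ S, j ∈ T → b j = c j)
    (x : (J → Fin m) → F) :
    es S a b (es T c d x) =
      es (S ∪ T) (fun j => if j ∈ S then a j else c j) (fun j => if j ∈ T then d j else b j) x := by
  funext i
  have hemb : emb T d (emb S b i) = emb (S ∪ T) (fun j => if j ∈ T then d j else b j) i := by
    funext j
    by_cases h1 : j ∈ T <;> by_cases h2 : j ∈ S <;> simp [emb, h1, h2]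
  simp only [es_apply, hemb]
  by_cases h1 : ∀ j ∈ S, i j = a j
  · rw [if_pos h1]
    refine if_congr ⟨fun h2 j hj => ?_, fun h2 j hj => ?_⟩ rfl rfl
    · by_cases hjS : j ∈ S
      · simp only [if_pos hjS]; exact h1 j hjS
      · have hjT : j ∈ T := (Finset.mem_union.1 hj).resolve_left hjS
        simp only [if_neg hjS]
        simpa [emb, hjS] using h2 j hjT
    · by_cases hjS : j ∈ S
      · simpa [emb, hjS] using h j hjS hj
      · have := h2 j (Finset.mem_union_right _ hj)
        simpa [emb, hjS] using this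
  · rw [if_neg h1, if_neg]
    intro h2
    refine h1 fun j hj => ?_
    simpa [hj] using h2 j (Finset.mem_union_left _ hj)

theorem es_comp_zero {S T : Finset J} {a b c d : J → Fin m} {j : J} (hS : j ∈ S) (hT : j ∈ T)
    (h : b j ≠ c j) (x : (J → Fin m) → F) : es S a b (es T c d x) = 0 := by
  funext i
  rw [es_apply]
  split
  · rw [es_apply, if_neg, Pi.zero_apply]
    intro h2
    exact h (by simpa [emb, hS] using h2 j hT)
  · rfl

/-- At least one index differs. -/
def Diff (S : Finset J) (a b : J → Fin m) : Prop := ∃ j ∈ S, a j ≠ b j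

theorem smul_es_sq {S : Finset J} {a b : J → Fin m} (h : Diff S a b) (s : F)
    (x : (J → Fin m) → F) : (s • es S a b) ((s • es S a b) x) = 0 := by
  obtain ⟨j, hj, hne⟩ := h
  rw [LinearMap.smul_apply, LinearMap.smul_apply, map_smul, es_comp_zero hj hj hne.symm, smul_zero,
    smul_zero]

/-- x ↦ x + s E(x). -/
noncomputable def eGL (S : Finset J) (a b : J → Fin m) (h : Diff S a b) (s : F) :
    GL (J → Fin m) F :=
  sh (s • es S a b) (smul_es_sq h s)

theorem mv_eGL (S : Finset J) (a b : J → Fin m) (h : Diff S a b) (s : F) (x : (J → Fin m) → F) :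
    mv (eGL S a b h s) x = x + s • es S a b x := by
  rw [eGL, mv_sh]; rfl

theorem mv_eGL_inv (S : Finset J) (a b : J → Fin m) (h : Diff S a b) (s : F)
    (x : (J → Fin m) → F) : mv (eGL S a b h s)⁻¹ x = x - s • es S a b x := by
  rw [eGL, mv_sh_inv]; rfl

/-- All indices differ. -/
def Off (S : Finset J) (a b : J → Fin m) : Prop := ∀ j ∈ S, a j ≠ b j

theorem diff_of_off {S : Finset J} (hS : S.Nonempty) {a b : J → Fin m} (h : Off S a b) :
    Diff S a b := by
  obtain ⟨j, hj⟩ := hS
  exact ⟨j, hj, h j hj⟩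

/-- The commutator of two elementary elements. -/
theorem eGL_comm {S T : Finset J} {a b c d : J → Fin m} (h1 : Diff S a b) (h2 : Diff T c d)
    (hmid : ∀ j ∈ S, j ∈ T → b j = c j) {j₀ : J} (hS : j₀ ∈ S) (hT : j₀ ∈ T) (h0 : d j₀ ≠ a j₀)
    (h3 : Diff (S ∪ T) (fun j => if j ∈ S then a j else c j) (fun j => if j ∈ T then d j else b j))
    (s r : F) :
    eGL S a b h1 s * eGL T c d h2 r * (eGL S a b h1 s)⁻¹ * (eGL T c d h2 r)⁻¹ =
      eGL (S ∪ T) (fun j => if j ∈ S then a j else c j) (fun j => if j ∈ T then d j else b j) h3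
        (s * r) := by
  refine comm_sh _ _ _ (fun x => ?_) fun x => ?_
  · rw [LinearMap.smul_apply, LinearMap.smul_apply, map_smul, es_comp_zero hT hS h0, smul_zero,
      smul_zero]
  · rw [LinearMap.smul_apply, LinearMap.smul_apply, map_smul, es_comp S T a b c d hmid, smul_smul,
      LinearMap.smul_apply]

theorem eGL_congr {S S' : Finset J} {a b a' b' : J → Fin m} (h : Diff S a b) (h' : Diff S' a' b')
    (e : S = S') (ha : ∀ j ∈ S, a j = a' j) (hb : ∀ j ∈ S, b j = b' j) (s : F) :
    eGL S a b h s = eGL S' a' b' h' s := by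
  subst e
  refine ext_mv fun x => ?_
  rw [mv_eGL, mv_eGL]
  congr 1
  congr 1
  funext i
  rw [es_apply, es_apply]
  have he : emb S b i = emb S b' i := funext fun j => by
    by_cases hj : j ∈ S <;> simp [emb, hj]
    exact hb j hj
  rw [he]
  exact if_congr ⟨fun h j hj => (h j hj).trans (ha j hj), fun h j hj => (h j hj).trans (ha j hj).symm⟩
    rfl rfl

/-- A single factor gives a transvection of that factor. -/
theorem eGL_singleton (i : J) (a b : J → Fin m) (h : Diff {i} a b) (s : F) :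
    ∃ (c φ : Fin m → F) (hc : φ ⬝ᵥ c = 0), eGL {i} a b h s = fac i (tw c φ hc) := by
  obtain ⟨j, hj, hne⟩ := id h
  obtain rfl := Finset.mem_singleton.1 hj
  refine ⟨s • Pi.single (a j) 1, Pi.single (b j) 1, by simp [hne.symm], ?_⟩
  apply (tg j m F).injective
  rw [tg_fac_tw]
  refine ext_mv fun y => ?_
  rw [mv_tg', mv_eGL, map_add, LinearEquiv.apply_symm_apply, map_smul, mv_tT]
  congr 1
  funext ⟨r, k⟩
  rw [Pi.smul_apply, smul_eq_mul, push_apply, es_apply, ten_apply, ctr_apply]
  have e1 : emb {j} b ((sp j m).symm (r, k)) = (sp j m).symm (r, b j) := funext fun l => by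
    rcases eq_or_ne l j with rfl | hl
    · simp [emb, sp_symm_self]
    · simp [emb, hl, sp_symm_other]
  by_cases hk : k = a j
  · subst hk
    rw [if_pos fun l hl => by rw [Finset.mem_singleton.1 hl, sp_symm_self], e1, push_symm_apply,
      Equiv.apply_symm_apply]
    simp [Pi.single_apply]
    ring
  · rw [if_neg fun hl => hk (by simpa [sp_symm_self] using hl j (Finset.mem_singleton_self j))]
    simp [Pi.single_apply, hk]

/-- The group contains the transvections of each factor. -/
def FacMem (M : Subgroup (GL (J → Fin m) F)) : Prop :=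
  ∀ (i : J) (c φ : Fin m → F) (h : φ ⬝ᵥ c = 0), fac i (tw c φ h) ∈ M

/-- The group contains an element elementary in at least two factors. -/
def EX (M : Subgroup (GL (J → Fin m) F)) : Prop :=
  ∃ (S : Finset J) (a b : J → Fin m) (h : Diff S a b) (s : F),
    2 ≤ S.card ∧ Off S a b ∧ s ≠ 0 ∧ eGL S a b h s ∈ M

theorem eGL_singleton_mem {M : Subgroup (GL (J → Fin m) F)} (hG : FacMem M) (i : J)
    (a b : J → Fin m) (h : Diff {i} a b) (s : F) : eGL {i} a b h s ∈ M := by
  obtain ⟨c, φ, hc, e⟩ := eGL_singleton i a b h s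
  rw [e]
  exact hG i c φ hc

theorem tT_mem {M : Subgroup (GL (J → Fin m) F)} (hG : FacMem M) (i : J) (c φ : Fin m → F)
    (h : φ ⬝ᵥ c = 0) : tT (Rest i m) c φ h ∈ M.map (tg i m F).toMonoidHom :=
  ⟨fac i (tw c φ h), hG i c φ h, tg_fac_tw i c φ h⟩

theorem exists_move {M : Subgroup (GL (J → Fin m) F)} (hG : FacMem M) (hm : 3 ≤ m) (i : J)
    {c d : Fin m → F} (hc : c ≠ 0) (hd : d ≠ 0) :
    ∃ A : GL (Fin m) F, fac i A ∈ M ∧ mv A c = d := by
  classical
  obtain ⟨p, hp⟩ := exists_avoid c d (by simpa using hm)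
  have hp0 : p ≠ 0 := fun h0 => hp (h0 ▸ zero_mem _)
  have step : ∀ u v : Fin m → F, u ∉ Submodule.span F {v - u} →
      ∃ A : GL (Fin m) F, fac i A ∈ M ∧ mv A u = v := by
    intro u v huv
    obtain ⟨η, h1, h2⟩ := exists_dot huv
    have hη : η ⬝ᵥ (v - u) = 0 := h1 _ (Submodule.mem_span_singleton_self _)
    exact ⟨tw (v - u) η hη, hG i _ _ hη, by rw [mv_tw, h2, one_smul, add_sub_cancel]⟩
  have key : ∀ u v : Fin m → F, v ∉ Submodule.span F {u} → u ≠ 0 → u ∉ Submodule.span F {v - u} := by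
    intro u v hv hu hm'
    obtain ⟨t, ht⟩ := Submodule.mem_span_singleton.1 hm'
    rcases eq_or_ne t 0 with rfl | ht0
    · rw [zero_smul] at ht; exact hu ht.symm
    · refine hv (Submodule.mem_span_singleton.2 ⟨t⁻¹ + 1, ?_⟩)
      rw [add_smul, one_smul]
      nth_rewrite 1 [← ht]
      rw [smul_smul, inv_mul_cancel₀ ht0, one_smul, sub_add_cancel]
  obtain ⟨A, hA, hAc⟩ := step c p (key c p (fun h => hp
    (Submodule.span_mono (Set.singleton_subset_iff.2 (Set.mem_insert _ _)) h)) hc)
  obtain ⟨B, hB, hBd⟩ := step p d (key p d (fun h => by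
    obtain ⟨t, ht⟩ := Submodule.mem_span_singleton.1 h
    have ht0 : t ≠ 0 := fun h0 => hd (by rw [← ht, h0, zero_smul])
    refine hp ?_
    rw [show p = t⁻¹ • d by rw [← ht, smul_smul, inv_mul_cancel₀ ht0, one_smul]]
    exact Submodule.smul_mem _ _ (Submodule.subset_span (Set.mem_insert_of_mem _ rfl))) hp0)
  exact ⟨B * A, by rw [fac_mul]; exact M.mul_mem hB hA, by rw [mv_mul, hAc, hBd]⟩

end Cfsg.Agent.WreathMax
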