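/-
One elementary element in several factors and the permutations of the factors give the special
linear group.
-/
import Cfsg.Agent.Lib.WreathMax.Elem

set_option autoImplicit false
set_option linter.unusedSectionVars false

namespace Cfsg.Agent.WreathMax

open scoped Matrix
open Matrix Cfsg.Agent.Transvec Cfsg.Agent.TensorMax

variable {J : Type} [Fintype J] [DecidableEq J] {m : ℕ} {F : Type*} [Field F]

/-- The permutation of the factors. -/
def pm (σ : Equiv.Perm J) : GL (J → Fin m) F where
  val := Matrix.of fun i k => if k = i ∘ σ then 1 else 0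
  inv := Matrix.of fun i k => if k = i ∘ σ.symm then 1 else 0
  val_inv := by
    ext i k
    rw [Matrix.mul_apply, Finset.sum_eq_single (i ∘ σ)]
    · simp [Function.comp_assoc, Matrix.one_apply, eq_comm]
    · intro l _ hl; simp [hl]
    · simp
  inv_val := by
    ext i k
    rw [Matrix.mul_apply, Finset.sum_eq_single (i ∘ σ.symm)]
    · simp [Function.comp_assoc, Matrix.one_apply, eq_comm]
    · intro l _ hl; simp [hl]
    · simp

theorem mv_pm (σ : Equiv.Perm J) (x : (J → Fin m) → F) (i : J → Fin m) :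
    mv (pm σ) x i = x (i ∘ σ) := by
  show ((Matrix.of fun i k : J → Fin m => if k = i ∘ σ then (1 : F) else 0) *ᵥ x) i = _
  simp [Matrix.mulVec, dotProduct]

theorem monoOf_pm (σ : Equiv.Perm J) : MonoOf σ⁻¹ (pm σ : GL (J → Fin m) F) := by
  refine ⟨fun _ => 1, fun x => funext fun i => ?_⟩
  rw [mv_pm]
  simp only [pten, mv_one]
  exact Fintype.prod_equiv σ _ _ fun j => by simp

theorem pm_conj (σ : Equiv.Perm J) (S : Finset J) (a b : J → Fin m) (h : Diff S a b) (s : F)
    (h' : Diff (S.map σ.toEmbedding) (a ∘ σ.symm) (b ∘ σ.symm)) :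
    pm σ * eGL S a b h s * (pm σ)⁻¹ =
      eGL (S.map σ.toEmbedding) (a ∘ σ.symm) (b ∘ σ.symm) h' s := by
  refine ext_mv fun x => ?_
  obtain ⟨y, rfl⟩ : ∃ y, x = mv (pm σ) y := ⟨mv (pm σ)⁻¹ x, (mv_mv_inv _ x).symm⟩
  rw [mv_mul, mv_mul, mv_inv_mv, mv_eGL, mv_eGL, mv_add, mv_smul]
  congr 2
  funext i
  rw [mv_pm, es_apply, es_apply, mv_pm]
  have e : emb (S.map σ.toEmbedding) (b ∘ σ.symm) i ∘ σ = emb S b (i ∘ σ) := funext fun j => by
    by_cases hj : j ∈ S <;> simp [emb, hj]
  rw [e]
  refine if_congr ⟨fun h1 j hj => ?_, fun h1 j hj => ?_⟩ rfl rfl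
  · obtain ⟨j', hj', rfl⟩ := Finset.mem_map.1 hj
    simpa using h1 j' hj'
  · simpa using h1 (σ j) (Finset.mem_map.2 ⟨j, hj, rfl⟩)

/-- All elementary elements on S lie in M. -/
def EXS (M : Subgroup (GL (J → Fin m) F)) (S : Finset J) : Prop :=
  ∀ (a b : J → Fin m) (h : Diff S a b) (s : F), Off S a b → eGL S a b h s ∈ M

theorem exists_third (hm : 3 ≤ m) (x y : Fin m) : ∃ z : Fin m, z ≠ x ∧ z ≠ y := by
  by_contra hcon
  push Not at hcon
  have : (Finset.univ : Finset (Fin m)) ⊆ {x, y} := fun z _ => by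
    by_cases h : z = x
    · simp [h]
    · simp [hcon z h]
  have := (Finset.card_le_card this).trans Finset.card_le_two
  simp at this
  omega

variable {M : Subgroup (GL (J → Fin m) F)}

theorem comm_mem_eGL {S T : Finset J} {a b c d : J → Fin m} {h1 : Diff S a b} {h2 : Diff T c d}
    {s r : F} (hX : eGL S a b h1 s ∈ M) (hY : eGL T c d h2 r ∈ M)
    (hmid : ∀ j ∈ S, j ∈ T → b j = c j) {j₀ : J} (hS : j₀ ∈ S) (hT : j₀ ∈ T) (h0 : d j₀ ≠ a j₀)
    {U : Finset J} {a' b' : J → Fin m} (hU : S ∪ T = U)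
    (ha : ∀ j ∈ U, (if j ∈ S then a j else c j) = a' j)
    (hb : ∀ j ∈ U, (if j ∈ T then d j else b j) = b' j) (h3 : Diff U a' b') :
    eGL U a' b' h3 (s * r) ∈ M := by
  subst hU
  have h3' : Diff (S ∪ T) (fun j => if j ∈ S then a j else c j)
      (fun j => if j ∈ T then d j else b j) :=
    ⟨j₀, Finset.mem_union_left _ hS, by simp only [if_pos hS, if_pos hT]; exact h0.symm⟩
  rw [eGL_congr h3 h3' rfl (fun j hj => (ha j hj).symm) (fun j hj => (hb j hj).symm),
    ← eGL_comm h1 h2 hmid hS hT h0 h3' s r]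
  exact M.mul_mem (M.mul_mem (M.mul_mem hX hY) (M.inv_mem hX)) (M.inv_mem hY)

theorem eGL_mem_congr {S : Finset J} {a b a' b' : J → Fin m} (h : Diff S a b) (h' : Diff S a' b')
    (ha : ∀ j ∈ S, a j = a' j) (hb : ∀ j ∈ S, b j = b' j) (s : F) (hM : eGL S a b h s ∈ M) :
    eGL S a' b' h' s ∈ M := eGL_congr h h' rfl ha hb s ▸ hM

theorem exs_of_mem (hm : 3 ≤ m) (hG : FacMem M) {S : Finset J} {a b : J → Fin m} (h : Diff S a b)
    {s : F} (hoff : Off S a b) (hs : s ≠ 0) (hmem : eGL S a b h s ∈ M) : EXS M S := by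
  classical
  -- one step at a time
  have stepB : ∀ (a b : J → Fin m) (h : Diff S a b) (s : F), Off S a b → eGL S a b h s ∈ M →
      ∀ j ∈ S, ∀ v, v ≠ a j → v ≠ b j → ∀ (r : F) (h' : Diff S a (Function.update b j v)),
        eGL S a (Function.update b j v) h' (s * r) ∈ M := by
    intro a b h s _ hM j hj v hva hvb r h'
    have hY : Diff {j} b (Function.update b j v) :=
      ⟨j, Finset.mem_singleton_self j, by simpa using hvb.symm⟩
    refine comm_mem_eGL hM (eGL_singleton_mem hG j _ _ hY r) (fun _ _ _ => rfl) hj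
      (Finset.mem_singleton_self j) (by simpa using hva)
      (Finset.union_eq_left.2 (Finset.singleton_subset_iff.2 hj)) (fun l hl => if_pos hl)
      (fun l hl => ?_) h'
    rcases eq_or_ne l j with rfl | hlj <;> simp [*]
  have stepA : ∀ (a b : J → Fin m) (h : Diff S a b) (s : F), Off S a b → eGL S a b h s ∈ M →
      ∀ j ∈ S, ∀ v, v ≠ b j → v ≠ a j → ∀ (h' : Diff S (Function.update a j v) b),
        eGL S (Function.update a j v) b h' s ∈ M := by
    intro a b h s _ hM j hj v hvb hva h'
    have hY : Diff {j} (Function.update a j v) a :=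
      ⟨j, Finset.mem_singleton_self j, by simpa using hva⟩
    have := comm_mem_eGL (eGL_singleton_mem hG j _ _ hY (1 : F)) hM
      (fun l hl _ => rfl) (Finset.mem_singleton_self j) hj (by simpa using hvb.symm)
      (Finset.union_eq_right.2 (Finset.singleton_subset_iff.2 hj))
      (a' := Function.update a j v) (b' := b) (fun l hl => ?_) (fun l hl => if_pos hl) h'
    · rwa [one_mul] at this
    rcases eq_or_ne l j with rfl | hlj <;> simp [*]
  let P : (J → Fin m) → (J → Fin m) → Prop := fun a b =>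
    Off S a b ∧ ∃ (h : Diff S a b) (s : F), s ≠ 0 ∧ eGL S a b h s ∈ M
  have hne : S.Nonempty := let ⟨j, hj, _⟩ := h; ⟨j, hj⟩
  have goB : ∀ a b, P a b → ∀ j ∈ S, ∀ v, v ≠ a j → P a (Function.update b j v) := by
    rintro a b ⟨hoff, h, s, hs, hM⟩ j hj v hv
    rcases eq_or_ne v (b j) with rfl | hvb
    · rw [Function.update_eq_self]; exact ⟨hoff, h, s, hs, hM⟩
    have hoff' : Off S a (Function.update b j v) := fun l hl => by
      rcases eq_or_ne l j with rfl | hlj
      · simpa using hv.symm
      · simpa [hlj] using hoff l hl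
    exact ⟨hoff', diff_of_off hne hoff', s * 1, by simpa using hs,
      stepB a b h s hoff hM j hj v hv hvb 1 _⟩
  have goA : ∀ a b, P a b → ∀ j ∈ S, ∀ v, v ≠ b j → P (Function.update a j v) b := by
    rintro a b ⟨hoff, h, s, hs, hM⟩ j hj v hv
    rcases eq_or_ne v (a j) with rfl | hva
    · rw [Function.update_eq_self]; exact ⟨hoff, h, s, hs, hM⟩
    have hoff' : Off S (Function.update a j v) b := fun l hl => by
      rcases eq_or_ne l j with rfl | hlj
      · simpa using hv
      · simpa [hlj] using hoff l hl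
    exact ⟨hoff', diff_of_off hne hoff', s, hs, stepA a b h s hoff hM j hj v hv hva _⟩
  intro a' b' h' s' hoff'
  have hP : ∀ T : Finset J, T ⊆ S →
      P (fun j => if j ∈ T then a' j else a j) (fun j => if j ∈ T then b' j else b j) := by
    intro T
    induction T using Finset.induction_on with
    | empty => intro _; simpa using ⟨hoff, h, s, hs, hmem⟩
    | insert j T hj ih =>
      intro hsub
      have hjS : j ∈ S := hsub (Finset.mem_insert_self _ _)
      have h0 := ih fun l hl => hsub (Finset.mem_insert_of_mem hl)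
      obtain ⟨z, hz1, hz2⟩ := exists_third hm (a j) (a' j)
      have h1 := goB _ _ h0 j hjS z (by simpa [hj] using hz1)
      have h2 := goA _ _ h1 j hjS (a' j) (by simpa using hz2.symm)
      have h3 := goB _ _ h2 j hjS (b' j) (by simpa using (hoff' j hjS).symm)
      convert h3 using 1 <;> funext l <;> rcases eq_or_ne l j with rfl | hlj <;> simp [*]
  obtain ⟨j, hj⟩ := hne
  obtain ⟨z, hz1, hz2⟩ := exists_third hm (a' j) (b' j)
  have h4 : P (fun l => if l ∈ S then a' l else a l) (fun l => if l ∈ S then b' l else b l) :=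
    hP S Finset.Subset.rfl
  obtain ⟨hoff4, h5, t, ht, hM5⟩ := goB _ _ h4 j hj z (by simpa [hj] using hz1)
  have h6 := stepB _ _ h5 t hoff4 hM5 j hj (b' j) (by simpa [hj] using (hoff' j hj).symm)
    (by simpa using hz2.symm) (t⁻¹ * s') (by
      refine ⟨j, hj, ?_⟩
      simpa [hj] using hoff' j hj)
  rw [← mul_assoc, mul_inv_cancel₀ ht, one_mul] at h6
  refine eGL_mem_congr _ h' (fun l hl => if_pos hl) (fun l hl => ?_) s' h6
  rcases eq_or_ne l j with rfl | hlj <;> simp [*]

theorem exs_union (hm : 3 ≤ m) {S T : Finset J} (hS : EXS M S) (hT : EXS M T) {j₀ : J}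
    (h1 : j₀ ∈ S) (h2 : j₀ ∈ T) : EXS M (S ∪ T) := by
  intro a' b' h s hoff
  choose z hz1 hz2 using fun j => exists_third hm (a' j) (b' j)
  have hSoff : Off S a' (fun j => if j ∈ T then z j else b' j) := fun j hj => by
    by_cases hjT : j ∈ T
    · simpa [hjT] using (hz1 j).symm
    · simpa [hjT] using hoff j (Finset.mem_union_left _ hj)
  have hToff : Off T (fun j => if j ∈ S then z j else a' j) b' := fun j hj => by
    by_cases hjS : j ∈ S
    · simpa [hjS] using hz2 j
    · simpa [hjS] using hoff j (Finset.mem_union_right _ hj)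
  have := comm_mem_eGL (hS _ _ (diff_of_off ⟨j₀, h1⟩ hSoff) s hSoff)
    (hT _ _ (diff_of_off ⟨j₀, h2⟩ hToff) 1 hToff) (fun j hj hjT => by simp [hj, hjT]) h1 h2
    (hoff j₀ (Finset.mem_union_left _ h1)).symm rfl (a' := a') (b' := b')
    (fun j hj => by by_cases hjS : j ∈ S <;> simp [hjS]) (fun j hj => by
      by_cases hjT : j ∈ T <;> simp [hjT]) h
  rwa [mul_one] at this

/-- The permutations needed for growth. -/
def PermMem (M : Subgroup (GL (J → Fin m) F)) : Prop :=
  ∀ j k l : J, j ≠ k → j ≠ l → k ≠ l → pm (Equiv.swap j l * Equiv.swap j k) ∈ M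

theorem exs_univ (hm : 3 ≤ m) (hP : PermMem M) {S : Finset J} (hS2 : 2 ≤ S.card)
    (hS : EXS M S) : EXS M Finset.univ := by
  induction hn : Fintype.card J - S.card using Nat.strong_induction_on generalizing S with
  | _ n ih =>
  by_cases hu : S = Finset.univ
  · exact hu ▸ hS
  obtain ⟨k, hk⟩ : ∃ k, k ∉ S := by
    by_contra hcon
    push Not at hcon
    exact hu (Finset.eq_univ_iff_forall.2 hcon)
  obtain ⟨j, hj, l, hl, hjl⟩ := Finset.one_lt_card.1 (by omega : 1 < S.card)
  have hjk : j ≠ k := fun e => hk (e ▸ hj)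
  have hlk : l ≠ k := fun e => hk (e ▸ hl)
  set σ := Equiv.swap j l * Equiv.swap j k with hσ
  have hT : EXS M (S.map σ.toEmbedding) := by
    intro a b h s hoff
    have hoff' : Off S (a ∘ σ) (b ∘ σ) := fun q hq => hoff _ (Finset.mem_map.2 ⟨q, hq, rfl⟩)
    have hd := diff_of_off ⟨j, hj⟩ hoff'
    have hd' : Diff (S.map σ.toEmbedding) ((a ∘ σ) ∘ σ.symm) ((b ∘ σ) ∘ σ.symm) := by
      simpa [Function.comp_assoc] using h
    have hp := hP j k l hjk hjl hlk.symm
    have := M.mul_mem (M.mul_mem hp (hS _ _ hd s hoff')) (M.inv_mem hp)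
    rw [pm_conj σ S _ _ hd s hd'] at this
    exact eGL_mem_congr hd' h (fun q _ => by simp) (fun q _ => by simp) s this
  have hσj : σ j = k := by
    rw [hσ, Equiv.Perm.mul_apply, Equiv.swap_apply_left,
      Equiv.swap_apply_of_ne_of_ne hjk.symm hlk.symm]
  have hσl : σ l = j := by
    rw [hσ, Equiv.Perm.mul_apply, Equiv.swap_apply_of_ne_of_ne hjl.symm hlk, Equiv.swap_apply_right]
  have hkT : k ∈ S ∪ S.map σ.toEmbedding :=
    Finset.mem_union_right _ (Finset.mem_map.2 ⟨j, hj, hσj⟩)
  have hlt : S.card < (S ∪ S.map σ.toEmbedding).card :=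
    Finset.card_lt_card (Finset.ssubset_iff_of_subset Finset.subset_union_left |>.2 ⟨k, hkT, hk⟩)
  exact ih _ (by have := Finset.card_le_univ (S ∪ S.map σ.toEmbedding); omega)
    (le_trans hS2 hlt.le) (exs_union hm hS hT hj (Finset.mem_map.2 ⟨l, hl, hσl⟩)) rfl

/-- Every transvection between coordinate vectors, hence the special linear group. -/
theorem sl_le_of_ex (hm : 3 ≤ m) [Nonempty J] (hG : FacMem M) (hP : PermMem M) (h : EX M) :
    Geo.specialLinear (J → Fin m) F ≤ M := by
  classical
  obtain ⟨S, a, b, hd, s, hS2, hoff, hs, hmem⟩ := h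
  have hU := exs_univ hm hP hS2 (exs_of_mem hm hG hd hoff hs hmem)
  have hall : ∀ (a b : J → Fin m) (h : Diff Finset.univ a b) (s : F),
      eGL Finset.univ a b h s ∈ M := by
    intro a b h s
    obtain ⟨j, -, hne⟩ := id h
    choose c hc1 hc2 using fun j => exists_third hm (a j) (b j)
    have := comm_mem_eGL (hU a c (diff_of_off Finset.univ_nonempty fun j _ => (hc1 j).symm) s
        fun j _ => (hc1 j).symm)
      (hU c b (diff_of_off Finset.univ_nonempty fun j _ => hc2 j) 1 fun j _ => hc2 j)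
      (fun _ _ _ => rfl) (Finset.mem_univ j) (Finset.mem_univ j) hne.symm (Finset.union_self _)
      (a' := a) (b' := b) (fun q _ => if_pos (Finset.mem_univ q))
      (fun q _ => if_pos (Finset.mem_univ q)) h
    rwa [mul_one] at this
  have hes : ∀ (a b : J → Fin m) (x : (J → Fin m) → F),
      es Finset.univ a b x = x b • (Pi.single a 1 : (J → Fin m) → F) := fun a b x => by
    funext i
    rw [es_apply, Pi.smul_apply, smul_eq_mul]
    rcases eq_or_ne i a with rfl | h
    · rw [if_pos fun j _ => rfl, Pi.single_eq_same, mul_one]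
      exact congrArg x (funext fun j => if_pos (Finset.mem_univ j))
    · rw [if_neg fun h' => h (funext fun j => h' j (Finset.mem_univ j)), Pi.single_eq_of_ne h,
        mul_zero]
  have hcent : ∀ a : J → Fin m, (Pi.single a 1 : (J → Fin m) → F) ∈ centres M := by
    intro a φ hφ
    have key : ∀ T : Finset (J → Fin m), a ∉ T →
        ∃ g ∈ M, ∀ x, mv g x = x + (∑ b ∈ T, x b * φ (Pi.single b 1)) • (Pi.single a 1 : _ → F) := by
      intro T
      induction T using Finset.induction_on with
      | empty => intro _; exact ⟨1, M.one_mem, fun x => by simp [mv_one]⟩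
      | insert b T hb ih =>
        intro ha
        simp only [Finset.mem_insert, not_or] at ha
        obtain ⟨g, hg, hgx⟩ := ih ha.2
        have hd' : Diff Finset.univ a b := by
          obtain ⟨j, hj⟩ := Function.ne_iff.1 ha.1
          exact ⟨j, Finset.mem_univ j, hj⟩
        refine ⟨g * eGL Finset.univ a b hd' (φ (Pi.single b 1)), M.mul_mem hg (hall _ _ _ _),
          fun x => ?_⟩
        rw [mv_mul, hgx, mv_eGL, hes, smul_smul, Finset.sum_insert hb]
        have e : ∀ l ∈ T, (x + (φ (Pi.single b 1) * x b) • (Pi.single a 1 : _ → F)) l *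
            φ (Pi.single l 1) = x l * φ (Pi.single l 1) := fun l hl => by
          simp [Pi.single_eq_of_ne (fun e : l = a => ha.2 (e ▸ hl))]
        rw [Finset.sum_congr rfl e, add_smul, mul_comm (x b)]
        abel
    obtain ⟨g, hg, hgx⟩ := key (Finset.univ.erase a) (Finset.notMem_erase a _)
    rw [show tv (Pi.single a 1) φ hφ = g from ext_mv fun x => ?_]
    · exact hg
    rw [mv_tv, hgx]
    congr 2
    conv_lhs => rw [pi_eq_sum_univ' x, map_sum, ← Finset.add_sum_erase _ _ (Finset.mem_univ a)]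
    rw [map_smul, hφ, smul_zero, zero_add]
    exact Finset.sum_congr rfl fun l _ => by rw [map_smul, smul_eq_mul]
  refine specialLinear_le fun v φ h => ?_
  have hv : v ∈ centreSpace M := by
    rw [pi_eq_sum_univ' v]
    exact Submodule.sum_mem _ fun l _ => Submodule.smul_mem _ _ (hcent l)
  exact hv φ h

end Cfsg.Agent.WreathMax
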