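/-
Elements of a group with small radicals that map one line to a line or move everything into a line.
-/
import Cfsg.Agent.Lib.WreathMax.Kron

set_option autoImplicit false
set_option linter.unusedSectionVars false

namespace Cfsg.Agent.WreathMax

open scoped Matrix Kronecker
open Matrix Cfsg.Agent.Transvec Cfsg.Agent.TensorMax

variable {α β : Type} [Fintype α] [DecidableEq α] [Fintype β] [DecidableEq β] {F : Type*} [Field F]

/-- The hypotheses on a group in one splitting. -/
structure SplitHyp (M : Subgroup (GL (α × β) F)) : Prop where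
  hb : 3 ≤ Fintype.card β
  hT : ∀ (c φ : β → F) (h : φ ⬝ᵥ c = 0), tT α c φ h ∈ M
  hS : ScalarRad M
  hMR : ∀ k ∈ M, ∀ (B : GL α F) (A : GL β F),
    (k : Matrix (α × β) (α × β) F) = (B : Matrix α α F) ⊗ₖ (A : Matrix β β F) →
      ∀ ν : F, (∃ u, ν • mv B u ≠ u) →
        Fintype.card α ≤ Fintype.card β *
          Module.finrank F (LinearMap.range (ν • mvLin B - LinearMap.id))

variable [Nonempty α] {M : Subgroup (GL (α × β) F)}

theorem nonempty_of (H : SplitHyp M) : Nonempty β :=
  Fintype.card_pos_iff.1 (by have := H.hb; omega)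

/-- An element mapping one line to a line is a Kronecker product. -/
theorem kron_of_line_map (H : SplitHyp M) {g : GL (α × β) F} (hg : g ∈ M) {c c' : β → F}
    (hc : c ≠ 0) (hc' : c' ≠ 0) (hmap : (line α c).map (mvLin g) = line α c') : IsKron g := by
  haveI := nonempty_of H
  refine isKron_of_lines fun c₁ hc₁ => ?_
  obtain ⟨φ, hφ0, hφ, hφ₁⟩ := exists_ann c c₁ H.hb
  refine residual_line H.hT H.hS hg hφ₁ hφ0 hc₁ hc' fun u => ?_
  obtain ⟨y, hy, e⟩ := mem_map_mv.1 (hmap.symm ▸ ten_mem_line u c' :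
    ten u c' ∈ (line α c).map (mvLin g))
  rw [disp_apply, ← e, mv_inv_mv, ctr_line hφ hy, ten_zero_left, mv_zero]

theorem kron_of_stab (H : SplitHyp M) {k : GL (α × β) F} (hk : k ∈ M) {c : β → F} (hc : c ≠ 0)
    (hst : ∀ x ∈ line α c, mv k x ∈ line α c) : IsKron k := by
  refine kron_of_line_map H hk hc hc (Submodule.eq_of_le_of_finrank_eq ?_ ?_)
  · intro y hy
    obtain ⟨x, hx, rfl⟩ := mem_map_gl.1 hy
    exact hst x hx
  · exact finrank_map_gl k _

theorem mv_ten_of_eq {k : GL (α × β) F} {B : GL α F} {A : GL β F}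
    (h : (k : Matrix (α × β) (α × β) F) = (B : Matrix α α F) ⊗ₖ (A : Matrix β β F))
    (u : α → F) (w : β → F) : mv k (ten u w) = ten (mv B u) (mv A w) := by
  show (k : Matrix (α × β) (α × β) F) *ᵥ _ = _
  rw [h, kronecker_mulVec_ten]

theorem stab_of_trivQ {k : GL (α × β) F} {c : β → F} (h : ∀ x, dev k x ∈ line α c) :
    ∀ x ∈ line α c, mv k x ∈ line α c := fun x hx => by
  have := Submodule.add_mem _ (h x) hx
  rwa [dev_apply, sub_add_cancel] at this

/-- Trivial action modulo a line forces x ↦ x + ψ(x) c on the second factor. -/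
theorem exists_psi (H : SplitHyp M) {k : GL (α × β) F} (hk : k ∈ M) {c : β → F} (hc : c ≠ 0)
    (hq : ∀ x, dev k x ∈ line α c) : ∃ ψ : β → F, ∀ x, mv k x = x + ten (ctr ψ x) c := by
  obtain ⟨B, A, hBA⟩ := kron_of_stab H hk hc (stab_of_trivQ hq)
  obtain ⟨θ, hθ⟩ := exists_dot_one hc
  obtain ⟨p, hp⟩ := exists_avoid c c H.hb
  obtain ⟨φ, hφc, hφp⟩ := exists_dot hp
  replace hφc : φ ⬝ᵥ c = 0 := hφc _ (Submodule.subset_span (Set.mem_insert _ _))
  set s : F := φ ⬝ᵥ mv A p with hs
  have hB : ∀ u, s • mv B u = u := fun u => by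
    have := ctr_line hφc (hq (ten u p))
    rwa [dev_apply, mv_ten_of_eq hBA, map_sub, ctr_ten, ctr_ten, hφp, one_smul, sub_eq_zero] at this
  have hs0 : s ≠ 0 := fun h0 => by
    obtain ⟨i₀⟩ := ‹Nonempty α›
    have := congrFun (hB (Pi.single i₀ 1)) i₀
    simp [h0] at this
  have hBu : ∀ u, mv B u = s⁻¹ • u := fun u => by
    conv_rhs => rw [← hB u, smul_smul, inv_mul_cancel₀ hs0, one_smul]
  -- the second factor after rescaling
  have hA : ∀ w, s⁻¹ • mv A w - w = (θ ⬝ᵥ (s⁻¹ • mv A w - w)) • c := by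
    intro w
    obtain ⟨i₀⟩ := ‹Nonempty α›
    set u₀ : α → F := Pi.single i₀ 1
    have hu₀ : u₀ ≠ 0 := by simp [u₀]
    have hm : ten u₀ (s⁻¹ • mv A w - w) ∈ line α c := by
      have e := hq (ten u₀ w)
      rw [dev_apply, mv_ten_of_eq hBA, hBu, ten_smul_left, ← ten_smul_right] at e
      rw [show ten u₀ (s⁻¹ • mv A w - w) = ten u₀ (s⁻¹ • mv A w) - ten u₀ w from map_sub (lam u₀) _ _]
      exact e
    obtain ⟨v, hv⟩ := mem_line.1 hm
    obtain ⟨κ, hκ⟩ := exists_dot_one hu₀
    have e := congrArg (ctrL κ) hv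
    rw [ctrL_ten, ctrL_ten, hκ, one_smul] at e
    rw [← e, dotProduct_smul, hθ, smul_eq_mul, mul_one]
  let f : (β → F) →ₗ[F] F :=
    { toFun := fun w => θ ⬝ᵥ (s⁻¹ • mv A w - w)
      map_add' := fun w w' => by
        simp [mv_add, dotProduct_add, dotProduct_sub]; ring
      map_smul' := fun a w => by
        simp [mv_smul, dotProduct_smul, dotProduct_sub]; ring }
  obtain ⟨ψ, hψ⟩ := exists_vec f
  refine ⟨ψ, fun x => ?_⟩
  have e : mvLin k = LinearMap.id + (rho c).comp (ctr ψ) := ext_ten fun u w => by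
    rw [Matrix.toLin'_apply]
    show mv k (ten u w) = _
    have h1 : θ ⬝ᵥ (s⁻¹ • mv A w - w) = ψ ⬝ᵥ w := (hψ w).symm
    rw [mv_ten_of_eq hBA, hBu, LinearMap.add_apply, LinearMap.id_apply, LinearMap.comp_apply,
      rho_apply, ctr_ten, ten_smul_left, ← ten_smul_right, ← h1, ten_smul_left, ← ten_smul_right,
      ← ten_add_right, ← hA w, add_sub_cancel]
  have := LinearMap.congr_fun e x
  simpa [mv] using this

/-- A small element fixing a line pointwise has a line as displacement space. -/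
theorem line_of_fix (H : SplitHyp M) {k : GL (α × β) F} (hk : k ∈ M) (hk1 : k ≠ 1) {c : β → F}
    (hc : c ≠ 0) (hfix : ∀ x ∈ line α c, mv k x = x)
    (hr : Module.finrank F (LinearMap.range (dev k)) ≤ Fintype.card α) :
    ∃ d, d ≠ 0 ∧ LinearMap.range (dev k) = line α d := by
  obtain ⟨B, A, hBA⟩ := kron_of_stab H hk hc fun x hx => by rw [hfix x hx]; exact hx
  by_cases hmov : ∃ w, (A : Matrix β β F) *ᵥ w ∉ Submodule.span F {w}
  · obtain ⟨w, hw⟩ := hmov
    exact (line_of_rank_le H.hb hBA hw hr).2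
  exfalso
  push Not at hmov
  obtain ⟨s, hs⟩ : ∃ s : F, (A : Matrix β β F) = s • 1 := by
    by_contra hcon
    push Not at hcon
    obtain ⟨w, hw⟩ : ∃ w, (A : Matrix β β F) *ᵥ w ∉ Submodule.span F {w} := by
      by_contra h2
      push Not at h2
      rcases isEmpty_or_nonempty β with he | ⟨⟨i₀⟩⟩
      · exact hc (funext fun i => isEmptyElim i)
      have key : ∀ i, ∃ t, (A : Matrix β β F) *ᵥ Pi.single i 1 = t • Pi.single i 1 := fun i =>
        (Submodule.mem_span_singleton.1 (h2 _)).imp fun t ht => ht.symm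
      choose t ht using key
      refine hcon (t i₀) (Matrix.ext_of_mulVec_single fun i => ?_)
      rw [ht i, Matrix.smul_mulVec, Matrix.one_mulVec]
      congr 1
      by_cases hi : i = i₀
      · rw [hi]
      obtain ⟨r, hr⟩ := Submodule.mem_span_singleton.1 (h2 (Pi.single i 1 + Pi.single i₀ 1))
      rw [Matrix.mulVec_add, ht, ht] at hr
      have e1 := congrFun hr i
      have e2 := congrFun hr i₀
      simp [hi, Ne.symm hi] at e1 e2
      rw [← e1, e2]
    exact hw (hmov w)
  refine hk1 (ext_mv fun x => ?_)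
  have hB : ∀ u, s • mv B u = u := fun u => by
    have e := hfix _ (ten_mem_line u c)
    rw [mv_ten_of_eq hBA, show mv A c = s • c by
      show (A : Matrix β β F) *ᵥ c = _; rw [hs, Matrix.smul_mulVec, Matrix.one_mulVec],
      ten_smul_right, ← ten_smul_left] at e
    exact rho_injective hc e
  have e : mvLin k = LinearMap.id := ext_ten fun u w => by
    rw [Matrix.toLin'_apply]
    show mv k (ten u w) = ten u w
    rw [mv_ten_of_eq hBA, show mv A w = s • w by
      show (A : Matrix β β F) *ᵥ w = _; rw [hs, Matrix.smul_mulVec, Matrix.one_mulVec],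
      ten_smul_right, ← ten_smul_left, hB]
  have := LinearMap.congr_fun e x
  simpa [mv, mv_one] using this

end Cfsg.Agent.WreathMax
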