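/-
An element stabilising the line R with displacement in R + S and non-trivial action modulo R
forces a large intersection of S with a contraction kernel.
-/
import Cfsg.Agent.Lib.WreathMax.Fix

set_option autoImplicit false
set_option linter.unusedSectionVars false

namespace Cfsg.Agent.WreathMax

open scoped Matrix Kronecker
open Matrix Cfsg.Agent.Transvec Cfsg.Agent.TensorMax

/-- An odd-dimensional endomorphism with a quadratic equation has a large eigenspace. -/
theorem exists_eig {F V : Type*} [Field F] [AddCommGroup V] [Module F V] [FiniteDimensional F V]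
    (hodd : Odd (Module.finrank F V)) (B : V →ₗ[F] V) (a b : F)
    (h : ∀ u, a • B (B u) + b • B u = u) :
    ∃ s : F, Module.finrank F V ≤
      2 * Module.finrank F (LinearMap.ker (B - s • LinearMap.id)) := by
  rcases eq_or_ne a 0 with rfl | ha
  · refine ⟨b⁻¹, ?_⟩
    have hz : B - b⁻¹ • LinearMap.id = 0 := LinearMap.ext fun u => by
      have e := h u
      rw [zero_smul, zero_add] at e
      rcases eq_or_ne b 0 with rfl | hb
      · simp only [zero_smul] at e
        rw [← e]; simp
      · simp only [LinearMap.sub_apply, LinearMap.smul_apply, LinearMap.id_apply, LinearMap.zero_apply]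
        conv_lhs => arg 2; rw [← e, smul_smul, inv_mul_cancel₀ hb, one_smul]
        rw [sub_self]
    rw [hz, LinearMap.ker_zero, finrank_top]
    omega
  by_cases hroot : ∃ s : F, a * s * s + b * s - 1 = 0
  · obtain ⟨s, hs⟩ := hroot
    set s' : F := -(b / a) - s
    have hcomp : ∀ u, (B - s • LinearMap.id : V →ₗ[F] V) ((B - s' • LinearMap.id : V →ₗ[F] V) u) = 0 := by
      intro u
      have e : B (B u) = a⁻¹ • u - (a⁻¹ * b) • B u := by
        conv_rhs => arg 1; rw [← h u]
        rw [smul_add, smul_smul, smul_smul, inv_mul_cancel₀ ha, one_smul, add_sub_cancel_right]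
      simp only [LinearMap.sub_apply, LinearMap.smul_apply, LinearMap.id_apply, map_sub, map_smul, e, s']
      match_scalars
      · field_simp
        linear_combination -hs
      · field_simp
        ring
    have h1 : LinearMap.range (B - s' • LinearMap.id) ≤ LinearMap.ker (B - s • LinearMap.id) := by
      rintro _ ⟨u, rfl⟩; exact hcomp u
    have h2 := Submodule.finrank_mono h1
    have h3 := LinearMap.finrank_range_add_finrank_ker (B - s' • LinearMap.id)
    rcases le_total (Module.finrank F (LinearMap.ker (B - s' • LinearMap.id)))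
      (Module.finrank F (LinearMap.ker (B - s • LinearMap.id))) with h4 | h4
    · exact ⟨s, by omega⟩
    · exact ⟨s', by omega⟩
  exfalso
  push Not at hroot
  -- without eigenvalue an invariant subspace grows two dimensions at a time
  have key : ∀ n, ∀ W : Submodule F V, (∀ u ∈ W, B u ∈ W) → Even (Module.finrank F W) →
      Module.finrank F V ≤ Module.finrank F W + n → False := by
    intro n
    induction n using Nat.strong_induction_on with
    | _ n ih =>
      intro W hW heven hle
      by_cases htop : W = ⊤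
      · rw [htop, finrank_top] at heven
        exact Nat.not_even_iff_odd.2 hodd heven
      obtain ⟨v, hv⟩ : ∃ v, v ∉ W := by
        by_contra hcon
        push Not at hcon
        exact htop (Submodule.eq_top_iff'.2 hcon)
      have hBv : B v ∉ W ⊔ Submodule.span F {v} := by
        intro hm
        obtain ⟨w, hw, y, hy, e⟩ := Submodule.mem_sup.1 hm
        obtain ⟨s, rfl⟩ := Submodule.mem_span_singleton.1 hy
        apply hv
        have e1 : B (B v) = B w + s • (w + s • v) := by
          conv_lhs => rw [← e, map_add, map_smul, ← e]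
        have e2 : (a * s * s + b * s - 1) • v = -(a • (B w + s • w) + b • w) := by
          have h0 := h v
          rw [e1, ← e] at h0
          rw [eq_neg_iff_add_eq_zero]
          have h1 := sub_eq_zero.2 h0
          rw [← h1]
          match_scalars <;> ring
        have hm2 : (a * s * s + b * s - 1) • v ∈ W := by
          rw [e2]
          exact W.neg_mem (W.add_mem (W.smul_mem _ (W.add_mem (hW w hw) (W.smul_mem _ hw)))
            (W.smul_mem _ hw))
        have := W.smul_mem (a * s * s + b * s - 1)⁻¹ hm2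
        rwa [smul_smul, inv_mul_cancel₀ (hroot s), one_smul] at this
      set W' := W ⊔ Submodule.span F {v} ⊔ Submodule.span F {B v} with hW'
      have hd : Module.finrank F W' = Module.finrank F W + 2 := by
        rw [hW', Submodule.finrank_sup_span_singleton hBv, Submodule.finrank_sup_span_singleton hv]
      have hd' := Submodule.finrank_le W'
      refine ih (n - 2) (by omega) W' (fun u hu => ?_) (by rw [hd]; exact heven.add even_two) (by omega)
      obtain ⟨x, hx, y, hy, rfl⟩ := Submodule.mem_sup.1 hu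
      obtain ⟨w, hw, z, hz, rfl⟩ := Submodule.mem_sup.1 hx
      obtain ⟨r, rfl⟩ := Submodule.mem_span_singleton.1 hy
      obtain ⟨t, rfl⟩ := Submodule.mem_span_singleton.1 hz
      have hBB : B (B v) = a⁻¹ • v - (a⁻¹ * b) • B v := by
        conv_rhs => arg 1; rw [← h v]
        rw [smul_add, smul_smul, smul_smul, inv_mul_cancel₀ ha, one_smul, add_sub_cancel_right]
      have hvW : v ∈ W' :=
        Submodule.mem_sup_left (Submodule.mem_sup_right (Submodule.mem_span_singleton_self v))
      have hBW : B v ∈ W' := Submodule.mem_sup_right (Submodule.mem_span_singleton_self _)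
      rw [map_add, map_add, map_smul, map_smul, hBB]
      exact W'.add_mem (W'.add_mem (Submodule.mem_sup_left (Submodule.mem_sup_left (hW w hw)))
        (W'.smul_mem _ hBW)) (W'.smul_mem _ (W'.sub_mem (W'.smul_mem _ hvW) (W'.smul_mem _ hBW)))
  exact key _ ⊥ (fun u hu => by rw [(Submodule.mem_bot F).1 hu, map_zero]; exact zero_mem _)
    (by rw [finrank_bot]; exact ⟨0, rfl⟩) (by rw [finrank_bot, zero_add])

variable {α β : Type} [Fintype α] [DecidableEq α] [Fintype β] [DecidableEq β] {F : Type*} [Field F]

theorem mem_of_ten {T : Submodule F (α × β → F)} {f : (α × β → F) →ₗ[F] α × β → F}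
    (h : ∀ u w, f (ten u w) ∈ T) (x : α × β → F) : f x ∈ T := by
  rw [eq_sum_ten x, map_sum]
  exact Submodule.sum_mem _ fun k _ => h _ _

/-- A line together with P ⊗ E inside T. -/
theorem card_add_le_finrank {c θ : β → F} (hθ : θ ⬝ᵥ c = 1) {E : Submodule F (β → F)}
    (hE : ∀ e ∈ E, θ ⬝ᵥ e = 0) {P : Submodule F (α → F)} {T : Submodule F (α × β → F)}
    (hline : line α c ≤ T) (hten : ∀ p ∈ P, ∀ e ∈ E, ten p e ∈ T) :
    Fintype.card α + Module.finrank F E * Module.finrank F P ≤ Module.finrank F T := by
  set b := Module.finBasis F E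
  let f : (α → F) × (Fin (Module.finrank F E) → P) →ₗ[F] T :=
    { toFun := fun y => ⟨ten y.1 c + ∑ l, ten (y.2 l : α → F) (b l : β → F),
        T.add_mem (hline (ten_mem_line _ _)) (T.sum_mem fun l _ => hten _ (y.2 l).2 _ (b l).2)⟩
      map_add' := fun y z => Subtype.ext (by
        simp [ten_add_left, Finset.sum_add_distrib]; abel)
      map_smul' := fun s y => Subtype.ext (by
        simp [ten_smul_left, Finset.smul_sum, smul_add]) }
  have hf : Function.Injective f := by
    rw [← LinearMap.ker_eq_bot, LinearMap.ker_eq_bot']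
    rintro ⟨u, p⟩ hy
    have e0 : ten u c + ∑ l, ten (p l : α → F) (b l : β → F) = 0 := congrArg Subtype.val hy
    have hu : u = 0 := by
      have e1 := congrArg (ctr θ) e0
      rw [map_add, map_sum, map_zero, ctr_ten, hθ, one_smul,
        Finset.sum_eq_zero fun l _ => by rw [ctr_ten, hE _ (b l).2, zero_smul], add_zero] at e1
      exact e1
    rw [hu, ten_zero_left, zero_add] at e0
    refine Prod.ext hu (funext fun l => Subtype.ext (funext fun i => ?_))
    have e2 : ∑ l, (p l : α → F) i • (b l : β → F) = 0 := funext fun k => by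
      simpa [ten, Finset.sum_apply] using congrFun e0 (i, k)
    have hli : LinearIndependent F fun l => (b l : β → F) :=
      b.linearIndependent.map' E.subtype E.ker_subtype
    exact Fintype.linearIndependent_iff.1 hli (fun l => (p l : α → F) i) e2 l
  have := LinearMap.finrank_le_finrank_of_injective hf
  rwa [Module.finrank_prod, Module.finrank_fintype_fun_eq_card, Module.finrank_pi_fintype,
    Finset.sum_const, Finset.card_univ, Fintype.card_fin, smul_eq_mul] at this

variable [Nonempty α] {M : Subgroup (GL (α × β) F)}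

/-- An element acting as a scalar on the second factor modulo the line. -/
theorem scal_bound (H : SplitHyp M) {k : GL (α × β) F} (hk : k ∈ M) {c : β → F} (hc : c ≠ 0)
    {S : Submodule F (α × β → F)} (hS : Module.finrank F S = Fintype.card α)
    (hW : ∀ x, dev k x ∈ line α c ⊔ S) {B : GL α F} {A : GL β F}
    (hBA : (k : Matrix (α × β) (α × β) F) = (B : Matrix α α F) ⊗ₖ (A : Matrix β β F))
    {ν : F} (hν : ∀ w, mv A w - ν • w ∈ Submodule.span F {c})
    (hnt : ¬ ∀ x, dev k x ∈ line α c) :
    Fintype.card β * Module.finrank F ↥(line α c ⊓ S) ≤ Fintype.card α ∧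
      ∀ φ : β → F, φ ⬝ᵥ c = 0 →
        Fintype.card β * Module.finrank F ↥(line α c ⊓ S) +
            (Fintype.card β - 2) * Fintype.card α ≤
          Fintype.card β * Module.finrank F ↥(S ⊓ LinearMap.ker (ctr φ)) := by
  set a := Fintype.card α
  set b := Fintype.card β
  set W₀ := line α c ⊔ S with hW₀
  set d := Module.finrank F ↥(line α c ⊓ S)
  set P := LinearMap.range (ν • mvLin B - LinearMap.id)
  set r := Module.finrank F P
  have hdev : ∀ u w, dev k (ten u w) =
      ten (ν • mv B u - u) w + ten (mv B u) (mv A w - ν • w) := by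
    intro u w
    rw [dev_apply, mv_ten_of_eq hBA, ten_sub_left, ten_smul_left, ← ten_smul_right,
      show ten (mv B u) (mv A w - ν • w) = ten (mv B u) (mv A w) - ten (mv B u) (ν • w) from
        map_sub (lam (mv B u)) _ _]
    abel
  have hlast : ∀ u w, ten (mv B u) (mv A w - ν • w) ∈ line α c := fun u w => by
    obtain ⟨t, ht⟩ := Submodule.mem_span_singleton.1 (hν w)
    rw [← ht, ten_smul_right, ← ten_smul_left]
    exact ten_mem_line _ _
  have hP : ∀ p ∈ P, ∀ w, ten p w ∈ W₀ := by
    rintro _ ⟨u, rfl⟩ w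
    have h := W₀.sub_mem (hW (ten u w)) (Submodule.mem_sup_left (hlast u w))
    rw [hdev, add_sub_cancel_right] at h
    simpa [mv] using h
  have hr : a ≤ b * r := by
    refine H.hMR k hk B A hBA ν ?_
    by_contra hcon
    push Not at hcon
    refine hnt (mem_of_ten fun u w => ?_)
    rw [hdev, hcon, sub_self, ten_zero_left, zero_add]
    exact hlast u w
  have hW₀d : Module.finrank F W₀ + d = a + a := by
    rw [hW₀, Submodule.finrank_sup_add_finrank_inf_eq, finrank_line hc, hS]
  obtain ⟨θ, hθ⟩ := exists_dot_one hc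
  have hθ0 : θ ≠ 0 := fun h0 => by rw [h0, zero_dotProduct] at hθ; exact zero_ne_one hθ
  have hperp : ∀ e ∈ perp θ, θ ⬝ᵥ e = 0 := fun e he => by rw [dotProduct_comm]; exact he
  have hb1 : a + Module.finrank F (perp θ) * r ≤ Module.finrank F W₀ :=
    card_add_le_finrank hθ hperp le_sup_left fun p hp e _ => hP p hp e
  have hpd : Module.finrank F (perp θ) + 1 = b := finrank_perp hθ0
  have hb3 : 3 ≤ b := H.hb
  refine ⟨?_, fun φ hφ => ?_⟩
  · have h2 : (b - 1) * a ≤ (b - 1) * (b * r) := Nat.mul_le_mul_left _ hr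
    have h3 : Module.finrank F (perp θ) = b - 1 := by omega
    rw [h3] at hb1
    have h4 : (b - 1) * r + d ≤ a := by
      omega
    obtain ⟨b', hb'⟩ : ∃ b', b = b' + 1 := ⟨b - 1, by omega⟩
    rw [hb', Nat.add_sub_cancel] at h2 h4
    rw [hb']
    nlinarith
  · have hE : ∀ e ∈ perp θ ⊓ perp φ, θ ⬝ᵥ e = 0 := fun e he => hperp e he.1
    have hb2 : a + Module.finrank F ↥(perp θ ⊓ perp φ) * r ≤
        Module.finrank F ↥(W₀ ⊓ LinearMap.ker (ctr φ)) := card_add_le_finrank hθ hE
      (le_inf le_sup_left fun x hx => ctr_line hφ hx) fun p hp e he => by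
        refine ⟨hP p hp e, ?_⟩
        show ctr φ (ten p e) = 0
        rw [ctr_ten, show φ ⬝ᵥ e = 0 by rw [dotProduct_comm]; exact he.2, zero_smul]
    have hEd : b - 2 ≤ Module.finrank F ↥(perp θ ⊓ perp φ) := by
      have e1 := Submodule.finrank_sup_add_finrank_inf_eq (perp θ) (perp φ)
      have e2 := Submodule.finrank_le (perp θ ⊔ perp φ)
      rw [Module.finrank_fintype_fun_eq_card] at e2
      by_cases hφ0 : φ = 0
      · have : perp φ = ⊤ := Submodule.eq_top_iff'.2 fun x => by
          rw [mem_perp, hφ0, dotProduct_zero]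
        rw [this, inf_top_eq] at *
        omega
      · have := finrank_perp hφ0
        omega
    have e1 := Submodule.finrank_sup_add_finrank_inf_eq S (W₀ ⊓ LinearMap.ker (ctr φ))
    have e2 : Module.finrank F ↥(S ⊔ W₀ ⊓ LinearMap.ker (ctr φ)) ≤ Module.finrank F W₀ :=
      Submodule.finrank_mono (sup_le le_sup_right inf_le_left)
    have e3 : Module.finrank F ↥(S ⊓ (W₀ ⊓ LinearMap.ker (ctr φ))) ≤
        Module.finrank F ↥(S ⊓ LinearMap.ker (ctr φ)) :=
      Submodule.finrank_mono (inf_le_inf_left _ inf_le_right)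
    have h5 : (b - 2) * r ≤ Module.finrank F ↥(perp θ ⊓ perp φ) * r := Nat.mul_le_mul_right r hEd
    have h6 : d + (b - 2) * r ≤ Module.finrank F ↥(S ⊓ LinearMap.ker (ctr φ)) := by omega
    have h7 : (b - 2) * a ≤ (b - 2) * (b * r) := Nat.mul_le_mul_left _ hr
    have h8 := Nat.mul_le_mul_left b h6
    rw [Nat.mul_add, Nat.mul_left_comm b (b - 2) r] at h8
    omega

/-- An element acting non-trivially on the second factor modulo the line. -/
theorem nonscalar_bound (H : SplitHyp M) (hodd : Fintype.card β = 3 → Odd (Fintype.card α))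
    {k : GL (α × β) F} {c : β → F} (hc : c ≠ 0)
    {S : Submodule F (α × β → F)} (hS : Module.finrank F S = Fintype.card α)
    (hW : ∀ x, dev k x ∈ line α c ⊔ S) {B : GL α F} {A : GL β F}
    (hBA : (k : Matrix (α × β) (α × β) F) = (B : Matrix α α F) ⊗ₖ (A : Matrix β β F))
    {w : β → F} (hw : mv A w ∉ Submodule.span F ({c, w} : Set (β → F)))
    (hwc : w ∉ Submodule.span F {c}) :
    line α c ⊓ S = ⊥ ∧ ∃ φ : β → F, φ ≠ 0 ∧ φ ⬝ᵥ c = 0 ∧
      Fintype.card α ≤ 2 * Module.finrank F ↥(S ⊓ LinearMap.ker (ctr φ)) := by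
  set a := Fintype.card α
  set W₀ := line α c ⊔ S with hW₀
  set w' := mv A w with hw'
  set g : (α → F) →ₗ[F] α × β → F := (dev k).comp (rho w) with hg
  have hgu : ∀ u, g u = ten (mv B u) w' - ten u w := fun u => by
    rw [hg, LinearMap.comp_apply, rho_apply, dev_apply, mv_ten_of_eq hBA]
  let f : (α → F) × (α → F) →ₗ[F] α × β → F := (g.coprod (rho c))
  have hf : Function.Injective f := by
    rw [← LinearMap.ker_eq_bot, LinearMap.ker_eq_bot']
    rintro ⟨u, v⟩ huv
    simp only [f, LinearMap.coprod_apply, hgu, rho_apply] at huv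
    obtain ⟨p, hp1, hp2⟩ := exists_dot hw
    have hpc : p ⬝ᵥ c = 0 := hp1 _ (Submodule.subset_span (Set.mem_insert _ _))
    have hpw : p ⬝ᵥ w = 0 := hp1 _ (Submodule.subset_span (Set.mem_insert_of_mem _ rfl))
    have e1 := congrArg (ctr p) huv
    rw [map_add, map_sub, map_zero, ctr_ten, ctr_ten, ctr_ten, hp2, hpw, hpc, one_smul, zero_smul,
      zero_smul, sub_zero, add_zero] at e1
    have hu : u = 0 := mv_inj B (e1.trans (mv_zero _).symm)
    rw [hu, mv_zero, ten_zero_left, ten_zero_left, sub_zero, zero_add] at huv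
    exact Prod.ext hu (rho_injective hc (huv.trans (ten_zero_left c).symm))
  have hfr : LinearMap.range f ≤ W₀ := by
    rintro _ ⟨⟨u, v⟩, rfl⟩
    simp only [f, LinearMap.coprod_apply, hg, LinearMap.comp_apply]
    exact W₀.add_mem (hW _) (Submodule.mem_sup_left (ten_mem_line _ _))
  have hfd : Module.finrank F (LinearMap.range f) = a + a := by
    rw [LinearMap.finrank_range_of_inj hf, Module.finrank_prod, Module.finrank_fintype_fun_eq_card]
  have hWd := Submodule.finrank_sup_add_finrank_inf_eq (line α c) S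
  rw [finrank_line hc, hS, ← hW₀] at hWd
  have hle := Submodule.finrank_mono hfr
  have hd0 : Module.finrank F ↥(line α c ⊓ S) = 0 := by omega
  have hbot : line α c ⊓ S = ⊥ := Submodule.finrank_eq_zero.1 hd0
  have hWeq : LinearMap.range f = W₀ := Submodule.eq_of_le_of_finrank_le hfr (by omega)
  refine ⟨hbot, ?_⟩
  -- it suffices to find a functional with a large kernel on the image of g
  have hfin : ∀ φ : β → F, φ ⬝ᵥ c = 0 → a ≤ 2 * Module.finrank F (LinearMap.ker ((ctr φ).comp g)) →
      a ≤ 2 * Module.finrank F ↥(S ⊓ LinearMap.ker (ctr φ)) := by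
    intro φ hφ hk2
    set K := LinearMap.ker ((ctr φ).comp g)
    let f' : K × (α → F) →ₗ[F] α × β → F := f.comp (LinearMap.prodMap K.subtype LinearMap.id)
    have hf' : Function.Injective f' := by
      intro x y hxy
      have := hf (show f (x.1, x.2) = f (y.1, y.2) from hxy)
      exact Prod.ext (Subtype.ext (congrArg Prod.fst this)) (Prod.mk.inj this).2
    have hsub : LinearMap.range f' ≤ W₀ ⊓ LinearMap.ker (ctr φ) := by
      rintro _ ⟨⟨u, v⟩, rfl⟩
      refine ⟨hfr (LinearMap.mem_range_self _ _), ?_⟩
      show ctr φ (g (u : α → F) + rho c v) = 0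
      rw [map_add, rho_apply, ctr_ten, hφ, zero_smul, add_zero]
      exact u.2
    have e0 := Submodule.finrank_mono hsub
    rw [LinearMap.finrank_range_of_inj hf', Module.finrank_prod,
      Module.finrank_fintype_fun_eq_card] at e0
    have e1 := Submodule.finrank_sup_add_finrank_inf_eq S (W₀ ⊓ LinearMap.ker (ctr φ))
    have e2 : Module.finrank F ↥(S ⊔ W₀ ⊓ LinearMap.ker (ctr φ)) ≤ Module.finrank F W₀ :=
      Submodule.finrank_mono (sup_le le_sup_right inf_le_left)
    have e3 : Module.finrank F ↥(S ⊓ (W₀ ⊓ LinearMap.ker (ctr φ))) ≤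
        Module.finrank F ↥(S ⊓ LinearMap.ker (ctr φ)) :=
      Submodule.finrank_mono (inf_le_inf_left _ inf_le_right)
    omega
  -- a functional killing c, w and the image of w
  by_cases h4 : ∃ p, p ∉ Submodule.span F ({c, w, w'} : Set (β → F))
  · obtain ⟨p, hp⟩ := h4
    obtain ⟨φ, h1, h2⟩ := exists_dot hp
    have hφc : φ ⬝ᵥ c = 0 := h1 _ (Submodule.subset_span (by simp))
    refine ⟨φ, fun h0 => by rw [h0, zero_dotProduct] at h2; exact zero_ne_one h2, hφc,
      hfin φ hφc ?_⟩
    have : LinearMap.ker ((ctr φ).comp g) = ⊤ := by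
      rw [LinearMap.ker_eq_top]
      refine LinearMap.ext fun u => ?_
      rw [LinearMap.comp_apply, hgu, map_sub, ctr_ten, ctr_ten,
        h1 w (Submodule.subset_span (by simp)), h1 w' (Submodule.subset_span (by simp)), zero_smul,
        zero_smul, sub_zero, LinearMap.zero_apply]
    rw [this, finrank_top, Module.finrank_fintype_fun_eq_card]
    omega
  push Not at h4
  have hb3 : Fintype.card β = 3 := by
    classical
    have e1 := finrank_span_le_card (R := F) ({c, w, w'} : Set (β → F))
    rw [Submodule.eq_top_iff'.2 h4, finrank_top, Module.finrank_fintype_fun_eq_card] at e1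
    have : ({c, w, w'} : Set (β → F)).toFinset.card ≤ 3 := by
      rw [Set.toFinset_insert, Set.toFinset_insert, Set.toFinset_singleton]
      exact Finset.card_le_three
    have := H.hb
    omega
  -- functionals reading the coordinates at w and at w'
  obtain ⟨p, hp1, hp2⟩ := exists_dot hw
  have hpc : p ⬝ᵥ c = 0 := hp1 _ (Submodule.subset_span (Set.mem_insert _ _))
  have hpw : p ⬝ᵥ w = 0 := hp1 _ (Submodule.subset_span (Set.mem_insert_of_mem _ rfl))
  obtain ⟨θ, hθ1, hθ2⟩ := exists_dot hwc
  have hθc : θ ⬝ᵥ c = 0 := hθ1 _ (Submodule.mem_span_singleton_self c)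
  set q := θ - (θ ⬝ᵥ w') • p with hq
  have hqc : q ⬝ᵥ c = 0 := by rw [hq, sub_dotProduct, smul_dotProduct, hθc, hpc, smul_zero, sub_zero]
  have hqw : q ⬝ᵥ w = 1 := by rw [hq, sub_dotProduct, smul_dotProduct, hθ2, hpw, smul_zero, sub_zero]
  have hqw' : q ⬝ᵥ w' = 0 := by
    rw [hq, sub_dotProduct, smul_dotProduct, hp2, smul_eq_mul, mul_one, sub_self]
  have hquad : ∀ u, (q ⬝ᵥ mv A w') • mvLin B (mvLin B u) + (p ⬝ᵥ mv A w') • mvLin B u = u := by
    intro u
    obtain ⟨⟨z, v⟩, hz⟩ : dev k (ten u w') ∈ LinearMap.range f := hWeq ▸ hW _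
    simp only [f, LinearMap.coprod_apply, hgu, rho_apply, dev_apply, mv_ten_of_eq hBA] at hz
    have e1 := congrArg (ctr q) hz
    rw [map_add, map_sub, map_sub, ctr_ten, ctr_ten, ctr_ten, ctr_ten, ctr_ten, hqw', hqw, hqc] at e1
    have e2 := congrArg (ctr p) hz
    rw [map_add, map_sub, map_sub, ctr_ten, ctr_ten, ctr_ten, ctr_ten, ctr_ten, hp2, hpw, hpc] at e2
    simp only [zero_smul, one_smul, zero_sub, sub_zero, add_zero] at e1 e2
    show (q ⬝ᵥ mv A w') • mvLin B (mvLin B u) + (p ⬝ᵥ mv A w') • mvLin B u = u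
    simp only [Matrix.toLin'_apply]
    show (q ⬝ᵥ mv A w') • mv B (mv B u) + (p ⬝ᵥ mv A w') • mv B u = u
    rw [← mv_smul, ← e1, mv_neg, e2]
    abel
  obtain ⟨s, hs⟩ := exists_eig (hodd := by
    rw [Module.finrank_fintype_fun_eq_card]; exact hodd hb3) (mvLin B) _ _ hquad
  rw [Module.finrank_fintype_fun_eq_card] at hs
  have hsc : (p + s • q) ⬝ᵥ c = 0 := by
    rw [add_dotProduct, smul_dotProduct, hpc, hqc, smul_zero, add_zero]
  refine ⟨p + s • q, fun h0 => ?_, hsc, hfin _ hsc ?_⟩
  · have e : (p + s • q) ⬝ᵥ w' = 0 := by rw [h0, zero_dotProduct]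
    rw [add_dotProduct, smul_dotProduct, hp2, hqw', smul_zero, add_zero] at e
    exact one_ne_zero e
  · have : LinearMap.ker ((ctr (p + s • q)).comp g) = LinearMap.ker (mvLin B - s • LinearMap.id) := by
      refine congrArg LinearMap.ker (LinearMap.ext fun u => ?_)
      rw [LinearMap.comp_apply, hgu, map_sub, ctr_ten, ctr_ten]
      simp only [add_dotProduct, smul_dotProduct, hp2, hqw', hpw, hqw, smul_eq_mul, mul_zero,
        mul_one, add_zero, zero_add, one_smul, LinearMap.sub_apply, LinearMap.smul_apply,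
        LinearMap.id_apply, Matrix.toLin'_apply]
    rw [this]
    exact hs

end Cfsg.Agent.WreathMax
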