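/-
The transfer at an element all of whose powers fix only the base coset.
-/
import Mathlib

set_option autoImplicit false

namespace Cfsg.Agent.WreathMax

open MulAction

theorem transfer_eq_self {G : Type*} [Group G] [Finite G] {H : Subgroup G} {A : Type*} [CommGroup A]
    (π : H →* A) (k : H)
    (hfix : ∀ (l : ℕ) (h : G), h⁻¹ * (k : G) ^ l * h ∈ H → h ∈ H ∨ (k : G) ^ l = 1) :
    MonoidHom.transfer π (k : G) = π k := by
  classical
  haveI : Fintype (Quotient (orbitRel (Subgroup.zpowers (k : G)) (G ⧸ H))) := Fintype.ofFinite _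
  rw [MonoidHom.transfer_eq_prod_quotient_orbitRel_zpowers_quot]
  set b : G ⧸ H := ((1 : G) : G ⧸ H)
  have hb : ∀ z : Subgroup.zpowers (k : G), z • b = b := by
    rintro ⟨_, n, rfl⟩
    show (((k : G) ^ n * 1 : G) : G ⧸ H) = ((1 : G) : G ⧸ H)
    rw [mul_one, QuotientGroup.eq, mul_one]
    exact H.inv_mem (H.zpow_mem k.2 n)
  set q₀ : Quotient (orbitRel (Subgroup.zpowers (k : G)) (G ⧸ H)) := Quotient.mk'' b
  have hout : q₀.out = b := by
    have h := Quotient.exact' (Quotient.out_eq' q₀ : Quotient.mk'' q₀.out = Quotient.mk'' b)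
    obtain ⟨z, hz⟩ := (orbitRel_apply.1 h : q₀.out ∈ orbit (Subgroup.zpowers (k : G)) b)
    rw [← hz, ← hb z]
    exact congrArg _ (hb z)
  have hmem : q₀.out.out ∈ H := by
    have h : ((q₀.out.out : G) : G ⧸ H) = ((1 : G) : G ⧸ H) :=
      (QuotientGroup.out_eq' q₀.out).trans hout
    rw [QuotientGroup.eq, mul_one] at h
    simpa using H.inv_mem h
  rw [Fintype.prod_eq_single q₀]
  · have hper : Function.minimalPeriod ((k : G) • ·) q₀.out = 1 := by
      rw [Function.minimalPeriod_eq_one_iff_isFixedPt]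
      show (k : G) • q₀.out = q₀.out
      rw [hout]
      exact hb ⟨_, Subgroup.mem_zpowers _⟩
    set h₀ : H := ⟨q₀.out.out, hmem⟩
    refine (congrArg π (Subtype.ext ?_ : _ = h₀⁻¹ * k * h₀)).trans ?_
    · show q₀.out.out⁻¹ * (k : G) ^ Function.minimalPeriod ((k : G) • ·) q₀.out * q₀.out.out = _
      rw [hper, pow_one]
      rfl
    · rw [map_mul, map_mul, map_inv, mul_comm, mul_inv_cancel_left]
  · intro q hq
    have hnot : q.out.out ∉ H := fun hm => hq (by
      have e : q.out = b := by
        rw [← QuotientGroup.out_eq' q.out, QuotientGroup.eq, mul_one]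
        exact H.inv_mem hm
      rw [← Quotient.out_eq' q, e])
    rcases hfix _ q.out.out (QuotientGroup.out_conj_pow_minimalPeriod_mem H (k : G) q.out) with h | h
    · exact absurd h hnot
    · exact (congrArg π (Subtype.ext (by simp [h]) : _ = (1 : H))).trans (map_one π)

end Cfsg.Agent.WreathMax
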