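/-
The group generated by the radical of a line R and unipotent elements with displacement in S
contains an element stabilising R and acting non-trivially modulo R.
-/
import Cfsg.Agent.Lib.WreathMax.Fix
import Cfsg.Agent.Lib.WreathMax.Transfer
import Cfsg.Agent.Lib.Solvable.FixedPointFree

set_option autoImplicit false
set_option linter.unusedSectionVars false

namespace Cfsg.Agent.WreathMax

open scoped Matrix Kronecker
open Matrix Cfsg.Agent.Transvec Cfsg.Agent.TensorMax

variable {α β : Type} [Fintype α] [DecidableEq α] [Fintype β] [DecidableEq β] {F : Type*} [Field F]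

theorem dev_mul (g h : GL (α × β) F) (x : α × β → F) :
    dev (g * h) x = dev g (mv h x) + dev h x := by
  rw [dev_apply, dev_apply, dev_apply, mv_mul]; abel

theorem range_dev_tT [Nonempty α] (c φ : β → F) (h : φ ⬝ᵥ c = 0) (hφ : φ ≠ 0) :
    LinearMap.range (dev (tT α c φ h)) = line α c := by
  refine le_antisymm ?_ ?_
  · rintro _ ⟨x, rfl⟩
    rw [dev_apply, mv_tT, add_sub_cancel_left]
    exact ten_mem_line _ _
  · intro y hy
    obtain ⟨u, rfl⟩ := mem_line.1 hy
    obtain ⟨x, hx⟩ := ctr_surjective (α := α) hφ u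
    exact ⟨x, by rw [dev_apply, mv_tT, hx, add_sub_cancel_left]⟩

/-- The elements of the radical of a line acting as factor transvections. -/
def Aset (α : Type) [Fintype α] [DecidableEq α] (c : β → F) : Set (GL (α × β) F) :=
  {g | ∃ (φ : β → F) (h : φ ⬝ᵥ c = 0), tT α c φ h = g}

/-- The subgroup generated by the radical of a line and a further set. -/
def gen (α : Type) [Fintype α] [DecidableEq α] (c : β → F) (Bs : Set (GL (α × β) F)) :
    Subgroup (GL (α × β) F) :=
  Subgroup.closure (Aset α c ∪ Bs)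

theorem tT_mem_gen (c : β → F) (Bs : Set (GL (α × β) F)) (φ : β → F) (h : φ ⬝ᵥ c = 0) :
    tT α c φ h ∈ gen α c Bs :=
  Subgroup.subset_closure (Or.inl ⟨φ, h, rfl⟩)

variable {M : Subgroup (GL (α × β) F)} {c : β → F} {S : Submodule F (α × β → F)}
  {Bs : Set (GL (α × β) F)}

theorem gen_le (H : SplitHyp M) (hBM : Bs ⊆ M) : gen α c Bs ≤ M := by
  rw [gen, Subgroup.closure_le]
  rintro g (⟨φ, h, rfl⟩ | hg)
  · exact H.hT _ _ _
  · exact hBM hg

theorem gen_dev (hBdev : ∀ y ∈ Bs, ∀ x, dev y x ∈ S) {g : GL (α × β) F} (hg : g ∈ gen α c Bs)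
    (x : α × β → F) : dev g x ∈ line α c ⊔ S := by
  induction hg using Subgroup.closure_induction generalizing x with
  | mem g hg =>
    rcases hg with ⟨φ, h, rfl⟩ | hg
    · refine Submodule.mem_sup_left ?_
      rw [dev_apply, mv_tT, add_sub_cancel_left]
      exact ten_mem_line _ _
    · exact Submodule.mem_sup_right (hBdev g hg x)
  | one => rw [dev_apply, mv_one, sub_self]; exact zero_mem _
  | mul a b _ _ iha ihb => rw [dev_mul]; exact add_mem (iha _) (ihb _)
  | inv a _ iha =>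
    have := iha (mv a⁻¹ x)
    rw [dev_apply, mv_mv_inv] at this
    rw [dev_apply, ← neg_sub]
    exact neg_mem this

theorem gen_fix (hBfix : ∀ y ∈ Bs, ∀ x ∈ line α c ⊓ S, mv y x = x) {g : GL (α × β) F}
    (hg : g ∈ gen α c Bs) : ∀ x ∈ line α c ⊓ S, mv g x = x := by
  induction hg using Subgroup.closure_induction with
  | mem g hg =>
    intro x hx
    rcases hg with ⟨φ, h, rfl⟩ | hg
    · rw [mv_tT, ctr_line h hx.1, ten_zero_left, add_zero]
    · exact hBfix g hg x hx
  | one => intro x _; rw [mv_one]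
  | mul a b _ _ iha ihb => intro x hx; rw [mv_mul, ihb x hx, iha x hx]
  | inv a _ iha => intro x hx; nth_rewrite 1 [← iha x hx]; rw [mv_inv_mv]

theorem image_line_of_kill [Nonempty α] (H : SplitHyp M) {g : GL (α × β) F} (hg : g ∈ M)
    (hc : c ≠ 0) {φ : β → F} (hφ : φ ≠ 0) (hker : ∀ x ∈ (line α c).map (mvLin g), ctr φ x = 0) :
    ∃ c', c' ≠ 0 ∧ (line α c).map (mvLin g) = line α c' := by
  haveI := nonempty_of H
  obtain ⟨e, he0, he, -⟩ := exists_ann φ φ H.hb
  have hφe : φ ⬝ᵥ e = 0 := by rw [dotProduct_comm]; exact he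
  set t := tT α e φ hφe
  set k := g⁻¹ * t * g
  have hk : k ∈ M := M.mul_mem (M.mul_mem (M.inv_mem hg) (H.hT _ _ _)) hg
  have hrange : LinearMap.range (dev k) = (line α e).map (mvLin g⁻¹) := by
    have := range_dev_conj g⁻¹ t
    rw [inv_inv, range_dev_tT e φ hφe hφ] at this
    exact this
  have hfix : ∀ x ∈ line α c, mv k x = x := fun x hx => by
    rw [show mv k x = mv g⁻¹ (mv t (mv g x)) by simp only [k, mv_mul], mv_tT,
      hker _ (mem_map_gl.2 ⟨x, hx, rfl⟩), ten_zero_left, add_zero, mv_inv_mv]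
  have hk1 : k ≠ 1 := fun h => by
    rw [dev_eq_zero.2 h, LinearMap.range_zero] at hrange
    have := congrArg (fun W : Submodule F (α × β → F) => Module.finrank F W) hrange
    simp only [finrank_bot, finrank_map_gl, finrank_line he0] at this
    exact absurd this.symm Fintype.card_ne_zero
  obtain ⟨d, hd, hd'⟩ := line_of_fix H hk hk1 hc hfix
    (le_of_eq (by rw [hrange, finrank_map_gl, finrank_line he0]))
  rw [hrange] at hd'
  have hmap : (line α d).map (mvLin g) = line α e := by rw [← hd', map_gl_inv']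
  obtain ⟨B, A, hBA⟩ := kron_of_line_map H hg hd he0 hmap
  have hAc : mv A c ≠ 0 := fun h0 => hc (mv_inj A (h0.trans (mv_zero _).symm))
  refine ⟨mv A c, hAc, Submodule.eq_of_le_of_finrank_eq ?_ ?_⟩
  · intro y hy
    obtain ⟨x, hx, rfl⟩ := mem_map_gl.1 hy
    obtain ⟨u, rfl⟩ := mem_line.1 hx
    rw [mv_ten_of_eq hBA]
    exact ten_mem_line _ _
  · rw [finrank_map_gl, finrank_line hc, finrank_line hAc]

theorem exists_extra [Nonempty α] [Fintype F] (H : SplitHyp M) (hc : c ≠ 0)
    (hS : Module.finrank F S = Fintype.card α) {p : ℕ} [Fact p.Prime] [CharP F p] (hBM : Bs ⊆ M)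
    (hBp : ∀ y ∈ Bs, y ^ p = 1) (hBdev : ∀ y ∈ Bs, ∀ x, dev y x ∈ S)
    (hBfix : ∀ y ∈ Bs, ∀ x ∈ line α c ⊓ S, mv y x = x)
    (hBout : ∃ y ∈ Bs, ∃ x, dev y x ∉ line α c)
    (hNF : ∀ φ : β → F, φ ≠ 0 → ∃ x ∈ S, ctr φ x ≠ 0)
    (hSep : line α c ⊓ S = ⊥ → ∀ h ∈ gen α c Bs, (line α c).map (mvLin h) ≠ line α c →
      (line α c).map (mvLin h) ⊓ line α c ≠ ⊥ →
      ∃ k ∈ gen α c Bs, (∀ x ∈ line α c, mv k x ∈ line α c) ∧ ¬ ∀ x, dev k x ∈ line α c) :
    ∃ k ∈ gen α c Bs, (∀ x ∈ line α c, mv k x ∈ line α c) ∧ ¬ ∀ x, dev k x ∈ line α c := by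
  classical
  haveI := nonempty_of H
  by_contra hcon
  push Not at hcon
  set R := line α c with hR
  set Gn := gen α c Bs with hGn
  let St : Subgroup (GL (α × β) F) :=
    { carrier := {g | R.map (mvLin g) = R}
      one_mem' := map_gl_one R
      mul_mem' := fun {a b} ha hb => by
        show R.map (mvLin (a * b)) = R
        rw [← map_gl_mul, show R.map (mvLin b) = R from hb, show R.map (mvLin a) = R from ha]
      inv_mem' := fun {a} ha => by
        show R.map (mvLin a⁻¹) = R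
        conv_lhs => rw [← show R.map (mvLin a) = R from ha]
        rw [map_gl_inv] }
  set H0 : Subgroup Gn := St.comap Gn.subtype with hH0
  have hstab : ∀ k : H0, ∀ x ∈ R, mv ((k : Gn) : GL (α × β) F) x ∈ R := by
    intro k x hx
    have hk : R.map (mvLin ((k : Gn) : GL (α × β) F)) = R := k.2
    rw [← hk]
    exact mem_map_gl.2 ⟨x, hx, rfl⟩
  have hpsi : ∀ k : H0, ∃ ψ : β → F,
      ∀ x, mv ((k : Gn) : GL (α × β) F) x = x + ten (ctr ψ x) c := fun k =>
    exists_psi H (gen_le H hBM (k : Gn).2) hc (hcon _ (k : Gn).2 (hstab k))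
  choose Ψ hΨ using hpsi
  obtain ⟨i₀⟩ := ‹Nonempty α›
  set u₀ : α → F := Pi.single i₀ 1
  have hu₀ : u₀ ⬝ᵥ u₀ = 1 := by simp [u₀]
  obtain ⟨θ, hθ⟩ := exists_dot_one hc
  have hinj : ∀ ψ ψ' : β → F,
      (∀ x : α × β → F, ten (ctr ψ x) c = ten (ctr ψ' x) c) → ψ = ψ' := by
    intro ψ ψ' h
    funext j
    have e := congrArg (ctrL u₀) (h (ten u₀ (Pi.single j 1)))
    rw [ctrL_ten, ctrL_ten, ctr_ten, ctr_ten, dotProduct_smul, dotProduct_smul, hu₀] at e
    have e' := congrArg (θ ⬝ᵥ ·) e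
    simpa [dotProduct_smul, hθ] using e'
  have hΨmul : ∀ a b : H0, Ψ (a * b) = Ψ a + Ψ b + (Ψ a ⬝ᵥ c) • Ψ b := by
    intro a b
    refine hinj _ _ fun x => ?_
    have e : mv (((a * b : H0) : Gn) : GL (α × β) F) x =
        mv ((a : Gn) : GL (α × β) F) (mv ((b : Gn) : GL (α × β) F) x) := mv_mul _ _ x
    rw [hΨ, hΨ, hΨ, map_add, ctr_ten] at e
    rw [ctr_add_vec, ctr_add_vec, ctr_smul_vec, LinearMap.add_apply, LinearMap.add_apply,
      LinearMap.smul_apply, ten_add_left, ten_add_left]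
    rw [ten_add_left, add_assoc x, add_right_inj] at e
    rw [e]
    abel
  have hΨ1 : Ψ (1 : H0) = 0 := hinj _ _ fun x => by
    have e : mv (((1 : H0) : Gn) : GL (α × β) F) x = x := mv_one x
    rw [hΨ, add_eq_left] at e
    rw [e, ctr_zero_vec, LinearMap.zero_apply, ten_zero_left]
  let ρ₀ : H0 →* F :=
    { toFun := fun k => 1 + Ψ k ⬝ᵥ c
      map_one' := by rw [hΨ1, zero_dotProduct, add_zero]
      map_mul' := fun a b => by
        rw [hΨmul, add_dotProduct, add_dotProduct, smul_dotProduct, smul_eq_mul]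
        ring }
  let ρ : H0 →* Fˣ := ρ₀.toHomUnits
  haveI : Finite Gn := Finite.of_fintype _
  -- images of R by outside elements
  have hsep : R ⊓ S = ⊥ → ∀ h : Gn, h ∉ H0 →
      (R.map (mvLin (h : GL (α × β) F))) ⊓ R = ⊥ := fun hd h hh => by
    by_contra hne
    obtain ⟨k, hk, hks, x, hx⟩ : ∃ k ∈ Gn, (∀ x ∈ R, mv k x ∈ R) ∧ ∃ x, dev k x ∉ R := by
      obtain ⟨k, h1, h2, h3⟩ := hSep hd h h.2 hh hne
      push Not at h3
      exact ⟨k, h1, h2, h3⟩
    exact hx (hcon k hk hks x)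
  have hρ1 : ∀ k : H0, Ψ k ⬝ᵥ c = 0 := by
    intro k
    by_cases hd : R ⊓ S = ⊥
    swap
    · obtain ⟨z, hz, hz0⟩ := Submodule.exists_mem_ne_zero_of_ne_bot hd
      have e := gen_fix hBfix (k : Gn).2 z hz
      rw [hΨ, add_eq_left] at e
      obtain ⟨u, rfl⟩ := mem_line.1 hz.1
      rw [ctr_ten] at e
      by_contra hne
      exact ten_ne_zero (smul_ne_zero hne fun h0 => hz0 (by rw [h0, ten_zero_left])) hc e
    have hτ : MonoidHom.transfer ρ (k : Gn) = ρ k := by
      refine transfer_eq_self ρ k fun l h hh => ?_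
      by_contra hcon'
      push Not at hcon'
      obtain ⟨hnh, hne⟩ := hcon'
      set K : H0 := k ^ l with hK
      have hKe : ((K : Gn) : GL (α × β) F) = (((k : Gn) ^ l : Gn) : GL (α × β) F) := by
        rw [hK, SubmonoidClass.coe_pow]
      set hR' := R.map (mvLin (h : GL (α × β) F)) with hhR
      have hbot : hR' ⊓ R = ⊥ := hsep hd h hnh
      have hker : ∀ y ∈ hR', ctr (Ψ K) y = 0 := by
        intro y hy
        obtain ⟨x, hx, rfl⟩ := mem_map_gl.1 hy
        have hx' := hstab ⟨h⁻¹ * (k : Gn) ^ l * h, hh⟩ x hx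
        have hm : mv ((K : Gn) : GL (α × β) F) (mv (h : GL (α × β) F) x) ∈ hR' := by
          refine mem_map_gl.2 ⟨_, hx', ?_⟩
          rw [hKe]
          show mv (h : GL (α × β) F) (mv ((h : GL (α × β) F)⁻¹ * (((k : Gn) ^ l : Gn) : GL (α × β) F) *
            (h : GL (α × β) F)) x) = _
          rw [mv_mul, mv_mul, mv_mv_inv]
        rw [hΨ] at hm
        have h2 : ten (ctr (Ψ K) (mv (h : GL (α × β) F) x)) c ∈ hR' ⊓ R := by
          refine ⟨?_, ten_mem_line _ _⟩
          have := sub_mem hm (mem_map_gl.2 ⟨x, hx, rfl⟩ : mv (h : GL (α × β) F) x ∈ hR')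
          rwa [add_sub_cancel_left] at this
        rw [hbot, Submodule.mem_bot] at h2
        exact rho_injective hc (by rw [rho_apply, h2, rho_apply, ten_zero_left])
      by_cases hψ : Ψ K = 0
      · refine hne (Subtype.ext (ext_mv fun x => ?_))
        rw [← hKe, hΨ, hψ, ctr_zero_vec, LinearMap.zero_apply, ten_zero_left, add_zero]
        exact (mv_one x).symm
      obtain ⟨c', hc', hline⟩ := image_line_of_kill H (gen_le H hBM h.2) hc hψ hker
      -- S is killed by a functional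
      obtain ⟨φ, hφ0, hφc, hφc'⟩ := exists_ann c c' H.hb
      obtain ⟨x, hxS, hx⟩ := hNF φ hφ0
      have hle : hR' ≤ R ⊔ S := by
        intro y hy
        obtain ⟨z, hz, rfl⟩ := mem_map_gl.1 hy
        have := Submodule.add_mem _ (gen_dev hBdev h.2 z) (Submodule.mem_sup_left hz)
        rwa [dev_apply, sub_add_cancel] at this
      have e1 := Submodule.finrank_sup_add_finrank_inf_eq hR' R
      rw [hbot, finrank_bot, add_zero, hhR, finrank_map_gl, ← hhR] at e1
      have e2 := Submodule.finrank_sup_add_finrank_inf_eq R S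
      rw [hd, finrank_bot, add_zero, hS] at e2
      have e3 : hR' ⊔ R = R ⊔ S := Submodule.eq_of_le_of_finrank_le (sup_le hle le_sup_left) (by
        rw [e1, e2, finrank_line hc])
      apply hx
      obtain ⟨y, hy, z, hz, rfl⟩ :=
        Submodule.mem_sup.1 (e3.symm ▸ Submodule.mem_sup_right hxS : x ∈ hR' ⊔ R)
      rw [map_add, ctr_line (c := c') hφc' (hline ▸ hy), ctr_line hφc hz, add_zero]
    have hall : Gn ≤ (MonoidHom.transfer ρ).ker.map Gn.subtype := by
      conv_lhs => rw [hGn, gen]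
      rw [Subgroup.closure_le]
      intro y hy
      have hyG : y ∈ Gn := Subgroup.subset_closure hy
      have hyp : y ^ p = 1 := by
        rcases hy with ⟨φ, h, rfl⟩ | hy
        · refine ext_mv fun x => ?_
          rw [tT, sh_pow, mv_one, CharP.cast_eq_zero, zero_smul, add_zero]
        · exact hBp y hy
      refine ⟨⟨y, hyG⟩, ?_, rfl⟩
      rw [SetLike.mem_coe, MonoidHom.mem_ker]
      have e : (MonoidHom.transfer ρ ⟨y, hyG⟩ : F) ^ p = 1 := by
        rw [← Units.val_pow_eq_pow_val, ← map_pow, show (⟨y, hyG⟩ : Gn) ^ p = 1 from Subtype.ext hyp,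
          map_one, Units.val_one]
      have e2 : ((MonoidHom.transfer ρ ⟨y, hyG⟩ : F) - 1) ^ p = 0 := by
        rw [sub_pow_char, one_pow, e, sub_self]
      exact Units.ext (sub_eq_zero.1 (pow_eq_zero_iff'.1 e2).1)
    obtain ⟨k', hk', e⟩ := hall (k : Gn).2
    rw [show k' = (k : Gn) from Subtype.ext e, SetLike.mem_coe, MonoidHom.mem_ker, hτ] at hk'
    have e4 : (1 + Ψ k ⬝ᵥ c : F) = 1 := congrArg Units.val hk'
    simpa using e4
  -- the stabiliser is the radical
  have hadd : ∀ a b : H0, Ψ (a * b) = Ψ a + Ψ b := fun a b => by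
    rw [hΨmul, hρ1, zero_smul, add_zero]
  let π : H0 →* Multiplicative (β → F) :=
    { toFun := fun k => Multiplicative.ofAdd (Ψ k)
      map_one' := by rw [hΨ1]; rfl
      map_mul' := fun a b => by rw [hadd]; rfl }
  have hπinj : Function.Injective π := fun a b hab => by
    refine Subtype.ext (Subtype.ext (ext_mv fun x => ?_))
    rw [hΨ, hΨ, show Ψ a = Ψ b from hab]
  haveI : IsMulCommutative H0 := .of_setLike_mul_comm fun a ha b hb => by
    have h1 : π (⟨a, ha⟩ * ⟨b, hb⟩) = π (⟨b, hb⟩ * ⟨a, ha⟩) := by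
      rw [map_mul, map_mul, mul_comm]
    exact congrArg Subtype.val (hπinj h1)
  have hrange : ∀ k : H0, k ≠ 1 →
      LinearMap.range (dev ((k : Gn) : GL (α × β) F)) = R := by
    intro k hk
    have hψ : Ψ k ≠ 0 := fun h0 => hk (hπinj (by
      show Multiplicative.ofAdd (Ψ k) = π 1
      rw [h0, map_one]; rfl))
    have e : ((k : Gn) : GL (α × β) F) = tT α c (Ψ k) (hρ1 k) := ext_mv fun x => by
      rw [hΨ, mv_tT]
    rw [e, range_dev_tT c _ _ hψ]
  set τ := MonoidHom.transfer π with hτdef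
  have hτ : ∀ k : H0, τ (k : Gn) = π k := by
    intro k
    refine transfer_eq_self π k fun l h hh => ?_
    by_contra hcon'
    push Not at hcon'
    obtain ⟨hnh, hne⟩ := hcon'
    set K : H0 := k ^ l with hK
    set K' : H0 := ⟨h⁻¹ * (k : Gn) ^ l * h, hh⟩ with hK'
    have hKne : K ≠ 1 := fun h0 => hne (by
      have := congrArg Subtype.val h0
      simpa [hK, SubmonoidClass.coe_pow] using this)
    have hK'ne : K' ≠ 1 := fun h0 => hne (by
      have e : h⁻¹ * (k : Gn) ^ l * h = 1 := congrArg Subtype.val h0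
      rwa [mul_eq_one_iff_eq_inv, inv_mul_eq_iff_eq_mul, mul_inv_cancel] at e)
    have e : ((K : Gn) : GL (α × β) F) =
        (h : GL (α × β) F) * ((K' : Gn) : GL (α × β) F) * (h : GL (α × β) F)⁻¹ := by
      simp [hK, hK', mul_assoc]
    have e2 := hrange K hKne
    rw [e, range_dev_conj, hrange K' hK'ne] at e2
    exact hnh e2
  set K := τ.ker with hKdef
  have hKH : ∀ k : H0, (k : Gn) ∈ K → k = 1 := fun k hk => hπinj (by
    rw [map_one, ← hτ]
    exact MonoidHom.mem_ker.1 hk)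
  by_cases hKbot : K = ⊥
  · obtain ⟨y, hy, x, hx⟩ := hBout
    have hyG : y ∈ Gn := Subgroup.subset_closure (Or.inr hy)
    obtain ⟨k, hk⟩ : τ ⟨y, hyG⟩ ∈ π.range := by
      haveI : Fintype (Quotient (MulAction.orbitRel (Subgroup.zpowers (⟨y, hyG⟩ : Gn)) (Gn ⧸ H0))) :=
        Fintype.ofFinite _
      rw [hτdef, MonoidHom.transfer_eq_prod_quotient_orbitRel_zpowers_quot]
      exact Subgroup.prod_mem _ fun q _ => ⟨_, rfl⟩
    have he : (⟨y, hyG⟩ : Gn) = k := (MonoidHom.ker_eq_bot_iff τ).1 hKbot (by rw [hτ, hk])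
    refine hx (hcon y hyG (fun z hz => ?_) x)
    rw [show y = ((k : Gn) : GL (α × β) F) from congrArg Subtype.val he]
    exact hstab k z hz
  haveI : K.Normal := τ.normal_ker
  have hcyc : IsCyclic H0 := FpfStruct.abelian_cyclic (K := K) hKbot
    (le_top.trans (Subgroup.normalizer_eq_top K).ge) fun a ha hane => by
      rw [eq_bot_iff]
      rintro g ⟨hg, hgc⟩
      have hcomm : g * a = a * g := (Subgroup.mem_centralizer_singleton_iff.mp hgc).symm ▸ rfl
      have hgH : g ∈ H0 := by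
        have e := hrange ⟨a, ha⟩ fun h0 => hane (congrArg Subtype.val h0)
        have e' : (g : GL (α × β) F) * (a : GL (α × β) F) * (g : GL (α × β) F)⁻¹ = (a : GL (α × β) F) := by
          rw [← Subgroup.coe_mul, hcomm, Subgroup.coe_mul, mul_inv_cancel_right]
        have e2 := range_dev_conj (g : GL (α × β) F) (a : GL (α × β) F)
        rw [e', e] at e2
        exact e2.symm
      rw [Subgroup.mem_bot]
      exact congrArg Subtype.val (hKH ⟨g, hgH⟩ hg)
  -- the radical is not cyclic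
  obtain ⟨g₀, hg₀⟩ := hcyc.exists_generator
  have hsub : perp c ≤ Submodule.span F ({Ψ g₀} : Set (β → F)) := by
    intro φ hφm
    have hφ : φ ⬝ᵥ c = 0 := hφm
    have hmem : (⟨tT α c φ hφ, tT_mem_gen c Bs φ hφ⟩ : Gn) ∈ H0 := by
      show R.map (mvLin (tT α c φ hφ)) = R
      refine Submodule.eq_of_le_of_finrank_eq ?_ (finrank_map_gl _ _)
      intro y hy
      obtain ⟨x, hx, rfl⟩ := mem_map_gl.1 hy
      rw [mv_tT, ctr_line hφ hx, ten_zero_left, add_zero]
      exact hx
    obtain ⟨n, hn⟩ := Subgroup.mem_zpowers_iff.1 (hg₀ ⟨_, hmem⟩)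
    have e1 : Ψ ⟨_, hmem⟩ = φ := hinj _ _ fun x => by
      have e : mv (tT α c φ hφ) x = x + ten (ctr (Ψ ⟨_, hmem⟩) x) c := hΨ ⟨_, hmem⟩ x
      rw [mv_tT, add_right_inj] at e
      exact e.symm
    have e2 : π ⟨_, hmem⟩ = π g₀ ^ n := by rw [← map_zpow, hn]
    have e3 : Ψ ⟨_, hmem⟩ = n • Ψ g₀ := congrArg Multiplicative.toAdd e2
    rw [← e1, e3, ← Int.cast_smul_eq_zsmul F]
    exact Submodule.smul_mem _ _ (Submodule.mem_span_singleton_self _)
  have e1 := (Submodule.finrank_mono hsub).trans (finrank_span_le_card _)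
  have e2 := finrank_perp hc
  have := H.hb
  simp at e1
  omega

end Cfsg.Agent.WreathMax
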