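/-
A line meeting the image of a line: the image is a line.  Every element of the group sends lines
to lines.
-/
import Cfsg.Agent.Lib.WreathMax.Bound
import Cfsg.Agent.Lib.WreathMax.Core
import Cfsg.Agent.Lib.WreathMax.Lines
import Cfsg.Agent.Lib.WreathMax.Elem

set_option autoImplicit false
set_option linter.unusedSectionVars false

namespace Cfsg.Agent.WreathMax

open scoped Matrix Kronecker
open Matrix Cfsg.Agent.Transvec Cfsg.Agent.TensorMax

variable {J : Type} [Fintype J] [DecidableEq J] {m : ℕ} {F : Type*} [Field F]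

/-- The hypotheses on the group. -/
structure Good (M : Subgroup (GL (J → Fin m) F)) : Prop where
  hm : 3 ≤ m
  nontriv : Nontrivial J
  hG : FacMem M
  split : ∀ i, SplitHyp (M.map (tg i m F).toMonoidHom)
  ind : ∀ g ∈ M, ∀ (i : J) (c : Fin m → F), c ≠ 0 → (Ln i c).map (mvLin g) = Ln i c → Mono g

theorem fac_comm {i j : J} (h : i ≠ j) (A B : GL (Fin m) F) :
    fac i A * fac j B = fac j B * fac i A := by
  refine ext_pten fun x => ?_
  rw [mv_mul, mv_mul, mv_fac, mv_fac, mv_fac, mv_fac, Function.update_of_ne h,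
    Function.update_of_ne h.symm, Function.update_comm h]

theorem range_dev_fac [NeZero m] (i : J) (c φ : Fin m → F) (h : φ ⬝ᵥ c = 0) (hφ : φ ≠ 0) :
    LinearMap.range (dev (fac i (tw c φ h))) = Ln i c := by
  have e := range_dev_tT (α := Rest i m) c φ h hφ
  rw [← tg_fac_tw, range_dev_tg] at e
  rw [Ln, ← e, ← Submodule.map_comp]
  simp

theorem fac_tw_add (i : J) (c φ ψ : Fin m → F) (h : φ ⬝ᵥ c = 0) (h' : ψ ⬝ᵥ c = 0)
    (h'' : (φ + ψ) ⬝ᵥ c = 0) :
    fac i (tw c φ h) * fac i (tw c ψ h') = fac i (tw c (φ + ψ) h'') := by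
  rw [← fac_mul]
  congr 1
  refine ext_mv fun w => ?_
  rw [mv_mul, mv_tw, mv_tw, mv_tw, dotProduct_add, dotProduct_smul, h, smul_zero, add_zero,
    add_dotProduct, add_smul]
  abel

theorem map_Ln_fac_other [NeZero m] {i j : J} (h : i ≠ j) (A : GL (Fin m) F) {c : Fin m → F}
    (hc : c ≠ 0) (hm : 2 ≤ m) : (Ln i c).map (mvLin (fac j A)) = Ln i c := by
  obtain ⟨φ, hφm, hφ0⟩ : ∃ φ ∈ perp c, φ ≠ 0 := by
    refine Submodule.exists_mem_ne_zero_of_ne_bot fun h => ?_
    have := finrank_perp hc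
    rw [h, finrank_bot, Fintype.card_fin] at this
    omega
  have hφ : φ ⬝ᵥ c = 0 := hφm
  have e := range_dev_conj (fac j A) (fac i (tw c φ hφ))
  rw [← fac_comm h, mul_inv_cancel_right, range_dev_fac i c φ hφ hφ0] at e
  exact e.symm

variable {M : Subgroup (GL (J → Fin m) F)}

theorem card_rest_pos [NeZero m] (i : J) : 0 < Fintype.card (Rest i m) := Fintype.card_pos

theorem card_rest_eq (hm : 0 < m) (i l : J) : Fintype.card (Rest i m) = Fintype.card (Rest l m) :=
  Nat.eq_of_mul_eq_mul_right hm ((card_rest i).trans (card_rest l).symm)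

theorem Good.neZero (H : Good M) : NeZero m := ⟨by have := H.hm; omega⟩

/-- A small element fixing a line pointwise has a line as displacement space. -/
theorem range_line (H : Good M) {k : GL (J → Fin m) F} (hk : k ∈ M) (hk1 : k ≠ 1) {i : J}
    {e : Fin m → F} (he : e ≠ 0) (hfix : ∀ x ∈ Ln i e, mv k x = x)
    (hr : Module.finrank F (LinearMap.range (dev k)) ≤ Fintype.card (Rest i m)) :
    ∃ d, d ≠ 0 ∧ LinearMap.range (dev k) = Ln i d := by
  haveI := H.neZero
  obtain ⟨d, hd, e1⟩ := line_of_fix (H.split i) (Subgroup.mem_map_of_mem _ hk)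
    (fun h => hk1 ((tg i m F).injective (h.trans (map_one _).symm))) he
    (fun x hx => by
      rw [show (tg i m F).toMonoidHom k = tg i m F k from rfl, mv_tg', hfix _ (by rwa [mem_Ln, LinearEquiv.apply_symm_apply]), LinearEquiv.apply_symm_apply])
    (by rw [show (tg i m F).toMonoidHom k = tg i m F k from rfl, finrank_dev_tg]; exact hr)
  refine ⟨d, hd, ?_⟩
  rw [show (tg i m F).toMonoidHom k = tg i m F k from rfl, range_dev_tg] at e1
  rw [Ln, ← e1, ← Submodule.map_comp]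
  simp

theorem fix_of_ctr (i : J) (c φ : Fin m → F) (h : φ ⬝ᵥ c = 0) {x : (J → Fin m) → F}
    (hx : ctr φ (push i x) = 0) : mv (fac i (tw c φ h)) x = x := by
  apply (push i).injective
  rw [← mv_tg, tg_fac_tw, mv_tT, hx, ten_zero_left, add_zero]

theorem ctr_of_mem_Ln {i : J} {c φ : Fin m → F} (h : φ ⬝ᵥ c = 0) {x : (J → Fin m) → F}
    (hx : x ∈ Ln i c) : ctr φ (push i x) = 0 := ctr_line h (mem_Ln.1 hx)

/-- A line mapped to a line gives that for every line of that type. -/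
theorem line_to_line (H : Good M) {g : GL (J → Fin m) F} (hg : g ∈ M) {l i : J} {d e : Fin m → F}
    (hd : d ≠ 0) (he : e ≠ 0) (hmap : (Ln l d).map (mvLin g) = Ln i e) {c : Fin m → F}
    (hc : c ≠ 0) : ∃ c', c' ≠ 0 ∧ (Ln l c).map (mvLin g) = Ln i c' := by
  haveI := H.neZero
  obtain ⟨φ, hφ0, hφd, hφc⟩ := exists_ann d c (by simpa using H.hm)
  set t := fac l (tw c φ hφc)
  set k := g * t * g⁻¹
  have hr : LinearMap.range (dev k) = (Ln l c).map (mvLin g) := by
    rw [range_dev_conj, range_dev_fac l c φ hφc hφ0]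
  have hfix : ∀ x ∈ Ln i e, mv k x = x := by
    intro x hx
    obtain ⟨y, hy, rfl⟩ := mem_map_gl.1 (hmap.symm ▸ hx : x ∈ (Ln l d).map (mvLin g))
    rw [show k = g * t * g⁻¹ from rfl, mv_mul, mv_mul, mv_inv_mv,
      fix_of_ctr l c φ hφc (ctr_of_mem_Ln hφd hy)]
  have hk1 : k ≠ 1 := fun h => by
    rw [dev_eq_zero.2 h, LinearMap.range_zero] at hr
    have := congrArg (fun W : Submodule F _ => Module.finrank F W) hr
    simp only [finrank_bot, finrank_map_gl, finrank_Ln l hc] at this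
    have := card_rest_pos (m := m) l
    omega
  obtain ⟨d', hd', e'⟩ := range_line H (M.mul_mem (M.mul_mem hg (H.hG _ _ _ _)) (M.inv_mem hg))
    hk1 he hfix (by
      rw [hr, finrank_map_gl, finrank_Ln l hc, card_rest_eq (by have := H.hm; omega) i l])
  exact ⟨d', hd', hr.symm.trans e'⟩

/-- An image of a line killed by a contraction is a line. -/
theorem kill_line (H : Good M) {g : GL (J → Fin m) F} (hg : g ∈ M) {i l : J} {c : Fin m → F}
    (hc : c ≠ 0) {φ : Fin m → F} (hφ : φ ≠ 0)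
    (hker : ∀ x ∈ (Ln l c).map (mvLin g), ctr φ (push i x) = 0) :
    ∃ c', c' ≠ 0 ∧ (Ln l c).map (mvLin g) = Ln i c' := by
  haveI := H.neZero
  obtain ⟨e, he0, he, -⟩ := exists_ann φ φ (by simpa using H.hm)
  have hφe : φ ⬝ᵥ e = 0 := by rw [dotProduct_comm]; exact he
  set t := fac i (tw e φ hφe)
  set k := g⁻¹ * t * g
  have hr : LinearMap.range (dev k) = (Ln i e).map (mvLin g⁻¹) := by
    have := range_dev_conj g⁻¹ t
    rw [inv_inv, range_dev_fac i e φ hφe hφ] at this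
    exact this
  have hfix : ∀ x ∈ Ln l c, mv k x = x := fun x hx => by
    rw [show k = g⁻¹ * t * g from rfl, mv_mul, mv_mul,
      fix_of_ctr i e φ hφe (hker _ (mem_map_gl.2 ⟨x, hx, rfl⟩)), mv_inv_mv]
  have hk1 : k ≠ 1 := fun h => by
    rw [dev_eq_zero.2 h, LinearMap.range_zero] at hr
    have := congrArg (fun W : Submodule F _ => Module.finrank F W) hr
    simp only [finrank_bot, finrank_map_gl, finrank_Ln i he0] at this
    have := card_rest_pos (m := m) i
    omega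
  obtain ⟨d, hd, e'⟩ := range_line H (M.mul_mem (M.mul_mem (M.inv_mem hg) (H.hG _ _ _ _)) hg)
    hk1 hc hfix (by
      rw [hr, finrank_map_gl, finrank_Ln i he0, card_rest_eq (by have := H.hm; omega) i l])
  exact line_to_line H hg hd he0 (by rw [← e', hr, map_gl_inv']) hc

theorem exists_quot_split {κ : Type} [Fintype κ] [DecidableEq κ] (A : Matrix κ κ F) {c : κ → F}
    (hc : c ≠ 0) (hAc : A *ᵥ c ∈ Submodule.span F {c}) :
    (∃ ν : F, ∀ w, A *ᵥ w - ν • w ∈ Submodule.span F {c}) ∨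
      ∃ w, A *ᵥ w ∉ Submodule.span F ({c, w} : Set (κ → F)) ∧ w ∉ Submodule.span F {c} := by
  by_cases h : ∃ w, A *ᵥ w ∉ Submodule.span F ({c, w} : Set (κ → F)) ∧ w ∉ Submodule.span F {c}
  · exact Or.inr h
  push Not at h
  left
  have hin : ∀ w, A *ᵥ w ∈ Submodule.span F ({c, w} : Set (κ → F)) := fun w => by
    by_cases hw : w ∈ Submodule.span F {c}
    · obtain ⟨t, rfl⟩ := Submodule.mem_span_singleton.1 hw
      rw [Matrix.mulVec_smul]
      exact Submodule.smul_mem _ _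
        (Submodule.span_mono (Set.singleton_subset_iff.2 (Set.mem_insert _ _)) hAc)
    · by_contra h'
      exact hw (h w h')
  by_cases htop : ∀ w, w ∈ Submodule.span F {c}
  · exact ⟨0, fun w => by rw [zero_smul, sub_zero]; exact htop _⟩
  push Not at htop
  obtain ⟨w₀, hw₀⟩ := htop
  obtain ⟨γ, ν, hν⟩ := Submodule.mem_span_pair.1 (hin w₀)
  obtain ⟨lam₀, hlam⟩ := Submodule.mem_span_singleton.1 hAc
  refine ⟨ν, fun w => ?_⟩
  by_cases hw : w ∈ Submodule.span F ({c, w₀} : Set (κ → F))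
  · obtain ⟨x, y, rfl⟩ := Submodule.mem_span_pair.1 hw
    rw [Matrix.mulVec_add, Matrix.mulVec_smul, Matrix.mulVec_smul, ← hν, ← hlam]
    exact Submodule.mem_span_singleton.2 ⟨x * lam₀ + y * γ - ν * x, by module⟩
  obtain ⟨δ, t, ht⟩ := Submodule.mem_span_pair.1 (hin w)
  obtain ⟨ε, r, hr⟩ := Submodule.mem_span_pair.1 (hin (w + w₀))
  rw [Matrix.mulVec_add, ← ht, ← hν] at hr
  have hrt : r = t := by
    by_contra hne
    refine hw (Submodule.mem_span_pair.2
      ⟨(r - t)⁻¹ * (δ + γ - ε), (r - t)⁻¹ * (ν - r), ?_⟩)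
    have e : (r - t) • w = (δ + γ - ε) • c + (ν - r) • w₀ := by
      linear_combination (norm := module) hr
    rw [mul_smul, mul_smul, ← smul_add, ← e, smul_smul, inv_mul_cancel₀ (sub_ne_zero.2 hne), one_smul]
  have hrν : r = ν := by
    by_contra hne
    refine hw₀ (Submodule.mem_span_singleton.2 ⟨(r - ν)⁻¹ * (δ + γ - ε), ?_⟩)
    have e : (r - ν) • w₀ = (δ + γ - ε) • c := by
      rw [hrt]
      rw [hrt] at hr
      linear_combination (norm := module) hr
    rw [mul_smul, ← e, smul_smul, inv_mul_cancel₀ (sub_ne_zero.2 hne), one_smul]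
  refine Submodule.mem_span_singleton.2 ⟨δ, ?_⟩
  rw [← ht, ← hrν, hrt]
  abel

/-- The scalar alternative. -/
def Scal (i : J) (c : Fin m → F) (S : Submodule F ((J → Fin m) → F)) : Prop :=
  m * Module.finrank F ↥(Ln i c ⊓ S) ≤ Fintype.card (Rest i m) ∧
    ∀ φ : Fin m → F, φ ⬝ᵥ c = 0 →
      m * Module.finrank F ↥(Ln i c ⊓ S) + (m - 2) * Fintype.card (Rest i m) ≤
        m * Module.finrank F ↥(S ⊓ LinearMap.ker ((ctr φ).comp (push i).toLinearMap))

theorem finrank_push (i : J) (S : Submodule F ((J → Fin m) → F)) :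
    Module.finrank F (S.map (push i).toLinearMap) = Module.finrank F S :=
  ((push i).submoduleMap S).finrank_eq.symm

theorem finrank_ker_push (i : J) (φ : Fin m → F) (S : Submodule F ((J → Fin m) → F)) :
    Module.finrank F ↥(S.map (push i).toLinearMap ⊓ LinearMap.ker (ctr φ)) =
      Module.finrank F ↥(S ⊓ LinearMap.ker ((ctr φ).comp (push i).toLinearMap)) := by
  rw [← finrank_push i (S ⊓ LinearMap.ker ((ctr φ).comp (push i).toLinearMap))]
  refine congrArg (fun W : Submodule F _ => Module.finrank F W) ?_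
  ext y
  simp only [Submodule.mem_inf, Submodule.mem_map, LinearMap.mem_ker, LinearMap.comp_apply]
  constructor
  · rintro ⟨⟨x, hx, rfl⟩, h⟩; exact ⟨x, ⟨hx, h⟩, rfl⟩
  · rintro ⟨x, ⟨hx, h⟩, rfl⟩; exact ⟨⟨x, hx, rfl⟩, h⟩

theorem finrank_inf_push (i : J) (S T : Submodule F ((J → Fin m) → F)) :
    Module.finrank F ↥(S.map (push i).toLinearMap ⊓ T.map (push i).toLinearMap) =
      Module.finrank F ↥(S ⊓ T) := by
  rw [← Submodule.map_inf _ (push i).injective, finrank_push]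

/-- The scalar alternative from an element. -/
theorem scal_of_elem (H : Good M) {k : GL (J → Fin m) F} (hk : k ∈ M) {i : J} {c : Fin m → F}
    (hc : c ≠ 0) {S : Submodule F ((J → Fin m) → F)}
    (hS : Module.finrank F S = Fintype.card (Rest i m))
    (hW : ∀ x, dev k x ∈ Ln i c ⊔ S) {B : GL (Rest i m) F} {A : GL (Fin m) F}
    (hBA : (tg i m F k : Matrix (Rest i m × Fin m) (Rest i m × Fin m) F) =
      (B : Matrix (Rest i m) (Rest i m) F) ⊗ₖ (A : Matrix (Fin m) (Fin m) F))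
    {ν : F} (hν : ∀ w, mv A w - ν • w ∈ Submodule.span F {c})
    (hnt : ¬ ∀ x, dev k x ∈ Ln i c) : Scal i c S := by
  haveI := H.neZero
  have hW' : ∀ x, dev (tg i m F k) x ∈ line (Rest i m) c ⊔ S.map (push i).toLinearMap := by
    intro x
    rw [← map_push_Ln, ← Submodule.map_sup]
    refine ⟨dev k ((push i).symm x), hW _, ?_⟩
    rw [dev_apply, dev_apply, mv_tg']
    simp
  have hnt' : ¬ ∀ x, dev (tg i m F k) x ∈ line (Rest i m) c := fun h => hnt fun x => by
    rw [mem_Ln]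
    have := h (push i x)
    rwa [dev_apply, mv_tg, ← map_sub, ← dev_apply] at this
  obtain ⟨h1, h2⟩ := scal_bound (H.split i) (k := tg i m F k) (Subgroup.mem_map_of_mem _ hk) hc
    (S := S.map (push i).toLinearMap) (by rw [finrank_push, hS]) hW' hBA hν hnt'
  rw [← map_push_Ln, finrank_inf_push, Fintype.card_fin] at h1
  refine ⟨h1, fun φ hφ => ?_⟩
  have h3 := h2 φ hφ
  rwa [← map_push_Ln, finrank_inf_push, Fintype.card_fin, finrank_ker_push] at h3

/-- The group generated by the radicals of Ln i c and of the image of Ln l c₂. -/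
abbrev Bset (g : GL (J → Fin m) F) (i l : J) (c₂ : Fin m → F) :
    Set (GL (Rest i m × Fin m) F) :=
  {y | ∃ (φ : Fin m → F) (h : φ ⬝ᵥ c₂ = 0), tg i m F (g * fac l (tw c₂ φ h) * g⁻¹) = y}

/-- The alternatives for a line and the image of a line. -/
theorem dich [Fintype F] (H : Good M) {g : GL (J → Fin m) F} (hg : g ∈ M) {i l : J}
    {c c₂ : Fin m → F} (hc : c ≠ 0) (hc₂ : c₂ ≠ 0)
    (hne : (Ln l c₂).map (mvLin g) ≠ Ln i c)
    (hnl : ∀ c', c' ≠ 0 → (Ln l c₂).map (mvLin g) ≠ Ln i c')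
    (hSep : Ln i c ⊓ (Ln l c₂).map (mvLin g) = ⊥ → ∀ h ∈ M,
      tg i m F h ∈ gen (Rest i m) c (Bset g i l c₂) →
      (Ln i c).map (mvLin h) ≠ Ln i c → (Ln i c).map (mvLin h) ⊓ Ln i c ≠ ⊥ →
      ∃ (j : J) (A : GL (Fin m) F), j ≠ i ∧ tg i m F (fac j A) ∈ gen (Rest i m) c (Bset g i l c₂) ∧
        ¬ ∀ x, dev (fac j A) x ∈ Ln i c) :
    Scal i c ((Ln l c₂).map (mvLin g)) ∨
      (Ln i c ⊓ (Ln l c₂).map (mvLin g) = ⊥ ∧ ∃ φ : Fin m → F, φ ≠ 0 ∧ φ ⬝ᵥ c = 0 ∧
        Fintype.card (Rest i m) ≤ 2 * Module.finrank F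
          ↥((Ln l c₂).map (mvLin g) ⊓ LinearMap.ker ((ctr φ).comp (push i).toLinearMap))) := by
  classical
  haveI := H.neZero
  set S := (Ln l c₂).map (mvLin g) with hSdef
  set S' := S.map (push i).toLinearMap with hS'
  have hmpos : 0 < m := by have := H.hm; omega
  have hSdim : Module.finrank F S = Fintype.card (Rest i m) := by
    rw [hSdef, finrank_map_gl, finrank_Ln l hc₂, card_rest_eq hmpos l i]
  obtain ⟨p, hp⟩ := CharP.exists F
  haveI : Fact p.Prime := ⟨(CharP.char_is_prime_or_zero F p).resolve_right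
    (CharP.char_ne_zero_of_finite F p)⟩
  set Bs := Bset g i l c₂ with hBs
  set Mi := M.map (tg i m F).toMonoidHom
  have hBM : Bs ⊆ Mi := by
    rintro _ ⟨φ, h, rfl⟩
    exact Subgroup.mem_map_of_mem _ (M.mul_mem (M.mul_mem hg (H.hG _ _ _ _)) (M.inv_mem hg))
  have hBp : ∀ y ∈ Bs, y ^ p = 1 := by
    rintro _ ⟨φ, h, rfl⟩
    have e : fac l (tw c₂ φ h) ^ p = 1 := by
      apply (tg l m F).injective
      rw [map_pow, tg_fac_tw, map_one]
      refine ext_mv fun x => ?_
      rw [tT, sh_pow, mv_one, CharP.cast_eq_zero, zero_smul, add_zero]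
    rw [← map_pow, conj_pow, e, mul_one, mul_inv_cancel, map_one]
  have hBdev : ∀ y ∈ Bs, ∀ x, dev y x ∈ S' := by
    rintro _ ⟨φ, h, rfl⟩ x
    refine ⟨dev (g * fac l (tw c₂ φ h) * g⁻¹) ((push i).symm x), ?_, ?_⟩
    · have : dev (g * fac l (tw c₂ φ h) * g⁻¹) ((push i).symm x) ∈
          LinearMap.range (dev (g * fac l (tw c₂ φ h) * g⁻¹)) := LinearMap.mem_range_self _ _
      rw [range_dev_conj] at this
      refine Submodule.map_mono ?_ this
      rintro _ ⟨z, rfl⟩
      rw [mem_Ln, dev_apply, map_sub, ← mv_tg, tg_fac_tw, mv_tT, add_sub_cancel_left]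
      exact ten_mem_line _ _
    · rw [dev_apply, dev_apply, mv_tg']
      simp
  have hBfix : ∀ y ∈ Bs, ∀ x ∈ line (Rest i m) c ⊓ S', mv y x = x := by
    rintro _ ⟨φ, h, rfl⟩ x ⟨-, hx⟩
    obtain ⟨z, hz, rfl⟩ := hx
    obtain ⟨w, hw, rfl⟩ := mem_map_gl.1 hz
    show mv (tg i m F _) (push i (mv g w)) = push i (mv g w)
    rw [mv_tg, mv_mul, mv_mul, mv_inv_mv, fix_of_ctr l c₂ φ h (ctr_of_mem_Ln h hw)]
  have hBout : ∃ y ∈ Bs, ∃ x, dev y x ∉ line (Rest i m) c := by
    obtain ⟨φ, hφ0, hφ, -⟩ := exists_ann c₂ c₂ (by simpa using H.hm)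
    refine ⟨_, ⟨φ, hφ, rfl⟩, ?_⟩
    by_contra hcon
    push Not at hcon
    apply hne
    refine Submodule.eq_of_le_of_finrank_eq ?_ (by rw [hSdim, finrank_Ln i hc])
    intro y hy
    rw [hSdef, ← range_dev_fac l c₂ φ hφ hφ0, ← range_dev_conj] at hy
    obtain ⟨x, rfl⟩ := hy
    rw [mem_Ln]
    have := hcon (push i x)
    rwa [dev_apply, mv_tg, ← map_sub, ← dev_apply] at this
  have hNF : ∀ φ : Fin m → F, φ ≠ 0 → ∃ x ∈ S', ctr φ x ≠ 0 := by
    intro φ hφ
    by_contra hcon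
    push Not at hcon
    obtain ⟨c', hc', e⟩ := kill_line H hg hc₂ hφ fun x hx => hcon _ ⟨x, hx, rfl⟩
    exact hnl c' hc' e
  have hSep' : line (Rest i m) c ⊓ S' = ⊥ → ∀ h ∈ gen (Rest i m) c Bs,
      (line (Rest i m) c).map (mvLin h) ≠ line (Rest i m) c →
      (line (Rest i m) c).map (mvLin h) ⊓ line (Rest i m) c ≠ ⊥ →
      ∃ k ∈ gen (Rest i m) c Bs, (∀ x ∈ line (Rest i m) c, mv k x ∈ line (Rest i m) c) ∧
        ¬ ∀ x, dev k x ∈ line (Rest i m) c := by
    intro hd h hh hne' hmeet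
    obtain ⟨h₀, hh₀, rfl⟩ := gen_le (H.split i) hBM hh
    have e : (line (Rest i m) c).map (mvLin (tg i m F h₀)) =
        ((Ln i c).map (mvLin h₀)).map (push i).toLinearMap := by
      rw [map_push_map, map_push_Ln]
    obtain ⟨j, A, hji, hmem, x, hx⟩ : ∃ (j : J) (A : GL (Fin m) F), j ≠ i ∧
        tg i m F (fac j A) ∈ gen (Rest i m) c Bs ∧ ∃ x, dev (fac j A) x ∉ Ln i c := by
      obtain ⟨j, A, h1, h2, h3⟩ := hSep (by
          rw [← map_push_Ln, hS', ← Submodule.map_inf _ (push i).injective] at hd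
          exact Submodule.map_eq_bot_iff.1 hd) h₀ hh₀ hh
        (fun e' => hne' (by
          show (line (Rest i m) c).map (mvLin (tg i m F h₀)) = _
          rw [e, e', map_push_Ln]))
        (fun e' => hmeet (by
          show (line (Rest i m) c).map (mvLin (tg i m F h₀)) ⊓ _ = ⊥
          rw [e, ← map_push_Ln, ← Submodule.map_inf _ (push i).injective, e', Submodule.map_bot]))
      push Not at h3
      exact ⟨j, A, h1, h2, h3⟩
    refine ⟨_, hmem, fun y hy => ?_, fun hall => hx ?_⟩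
    · have e2 := congrArg (fun W : Submodule F _ => W.map (push i).toLinearMap)
        (map_Ln_fac_other hji.symm A hc (by have := H.hm; omega))
      simp only [map_push_map, map_push_Ln] at e2
      rw [← e2]
      exact mem_map_gl.2 ⟨y, hy, rfl⟩
    · rw [mem_Ln]
      have := hall (push i x)
      rwa [dev_apply, mv_tg, ← map_sub, ← dev_apply] at this
  obtain ⟨k, hk, hkst, hknt⟩ := exists_extra (H.split i) hc
    (S := S') (by rw [hS', finrank_push, hSdim]) hBM hBp hBdev hBfix hBout hNF hSep'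
  have hkM := gen_le (H.split i) hBM hk
  have hkW := gen_dev hBdev hk
  obtain ⟨B, A, hBA⟩ := kron_of_stab (H.split i) hkM hc hkst
  have hAc : (A : Matrix (Fin m) (Fin m) F) *ᵥ c ∈ Submodule.span F {c} := by
    set u : Rest i m → F := fun _ => 1
    have hu : u ≠ 0 := fun h0 => by simpa [u] using congrFun h0 (fun _ => 0)
    have hBu : mv B u ≠ 0 := fun h0 => hu (mv_inj B (h0.trans (mv_zero _).symm))
    obtain ⟨v, hv⟩ := mem_line.1 (hkst _ (ten_mem_line u c))
    rw [mv_ten_of_eq hBA] at hv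
    obtain ⟨κ, hκ⟩ := exists_dot_one hBu
    have e := congrArg (ctrL κ) hv
    rw [ctrL_ten, ctrL_ten, hκ, one_smul] at e
    exact Submodule.mem_span_singleton.2 ⟨_, e⟩
  rcases exists_quot_split (A : Matrix (Fin m) (Fin m) F) hc hAc with ⟨ν, hν⟩ | ⟨w, hw, hwc⟩
  · left
    obtain ⟨k₀, hk₀, rfl⟩ := hkM
    refine scal_of_elem H hk₀ hc hSdim (fun x => ?_) hBA hν (fun h => hknt fun y => ?_)
    · have h1 := hkW (push i x)
      rw [← map_push_Ln, hS', ← Submodule.map_sup] at h1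
      obtain ⟨z, hz, e⟩ := h1
      have e' : push i z = push i (dev k₀ x) := by
        refine e.trans ?_
        show dev (tg i m F k₀) (push i x) = _
        rw [dev_apply, dev_apply, mv_tg, map_sub]
      rwa [← (push i).injective e']
    · show dev (tg i m F k₀) y ∈ _
      have := mem_Ln.1 (h ((push i).symm y))
      rwa [dev_apply, map_sub, ← mv_tg, LinearEquiv.apply_symm_apply, ← dev_apply] at this
  · right
    have hodd : Fintype.card (Fin m) = 3 → Odd (Fintype.card (Rest i m)) := fun h3 => by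
      rw [Fintype.card_fin] at h3
      have h' : Odd (Fintype.card (Rest i m) * m) := by
        rw [card_rest, h3]; exact Odd.pow (by decide)
      exact (Nat.odd_mul.1 h').1
    obtain ⟨h1, φ, hφ0, hφ, h2⟩ := nonscalar_bound (H.split i) hodd hc
      (by rw [hS', finrank_push, hSdim]) hkW hBA hw hwc
    rw [hS', finrank_ker_push] at h2
    rw [← map_push_Ln, hS', ← Submodule.map_inf _ (push i).injective] at h1
    exact ⟨Submodule.map_eq_bot_iff.1 h1, φ, hφ0, hφ, h2⟩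

/-- The fixed part of the image of a line under a radical element. -/
theorem le_meet (g : GL (J → Fin m) F) (i l : J) (c c₂ φ : Fin m → F) (h : φ ⬝ᵥ c = 0) :
    Module.finrank F ↥((Ln l c₂).map (mvLin g) ⊓
        LinearMap.ker ((ctr φ).comp (push i).toLinearMap)) ≤
      Module.finrank F ↥((Ln l c₂).map (mvLin (g⁻¹ * fac i (tw c φ h) * g)) ⊓ Ln l c₂) := by
  rw [← finrank_map_gl g⁻¹]
  refine Submodule.finrank_mono ?_
  intro y hy
  obtain ⟨x, hx, rfl⟩ := mem_map_gl.1 hy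
  obtain ⟨z, hz, rfl⟩ := mem_map_gl.1 hx.1
  have hk : ctr φ (push i (mv g z)) = 0 := hx.2
  rw [mv_inv_mv]
  exact ⟨mem_map_gl.2 ⟨z, hz, by rw [mv_mul, mv_mul, fix_of_ctr i c φ h hk, mv_inv_mv]⟩, hz⟩

/-- An intersection larger than the intersection of lines of different types. -/
theorem meet_large [Fintype F] (H : Good M) {g : GL (J → Fin m) F} (hg : g ∈ M) {i l : J}
    {c c₂ : Fin m → F} (hc : c ≠ 0) (hc₂ : c₂ ≠ 0)
    (hd : Fintype.card (Rest i m) <
      m * Module.finrank F ↥(Ln i c ⊓ (Ln l c₂).map (mvLin g))) :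
    (Ln l c₂).map (mvLin g) = Ln i c := by
  by_contra hne
  have hbot : Ln i c ⊓ (Ln l c₂).map (mvLin g) ≠ ⊥ := fun h => by
    rw [h, finrank_bot] at hd; omega
  rcases dich H hg hc hc₂ hne (fun c' hc' e => by
      obtain ⟨y, hy, hy0⟩ := Submodule.exists_mem_ne_zero_of_ne_bot hbot
      obtain ⟨h1, h2⟩ := hy
      rw [e] at h2
      exact hne (e.trans (Ln_eq_of_meet hy0 h2 h1)))
    (fun h => absurd h hbot) with h | h
  · exact absurd h.1 (not_le.2 hd)
  · exact hbot h.1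

theorem isSwap_mul {σ τ : Equiv.Perm J} (hσ : σ.IsSwap) (hτ : τ.IsSwap) : ¬ (τ * σ).IsSwap := by
  intro h
  obtain ⟨a, b, hab, rfl⟩ := hσ
  obtain ⟨c, d, hcd, rfl⟩ := hτ
  obtain ⟨x, y, hxy, e⟩ := h
  have := congrArg Equiv.Perm.sign e
  rw [map_mul, Equiv.Perm.sign_swap hab, Equiv.Perm.sign_swap hcd, Equiv.Perm.sign_swap hxy] at this
  simp at this

/-- A monomial conjugate of a whole radical has a line as displacement space. -/
theorem line_of_mono_group (H : Good M) (g : GL (J → Fin m) F) {i : J} {c : Fin m → F}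
    (hc : c ≠ 0) (hmono : ∀ (φ : Fin m → F) (h : φ ⬝ᵥ c = 0), φ ≠ 0 →
      Mono (g⁻¹ * fac i (tw c φ h) * g)) :
    IsLn ((Ln i c).map (mvLin g⁻¹)) := by
  haveI := H.neZero
  haveI := H.nontriv
  obtain ⟨φ₁, hφ₁m, hφ₁⟩ : ∃ φ ∈ perp c, φ ≠ 0 := by
    refine Submodule.exists_mem_ne_zero_of_ne_bot fun h => ?_
    have := finrank_perp hc
    rw [h, finrank_bot, Fintype.card_fin] at this
    have := H.hm
    omega
  obtain ⟨φ₂, hφ₂m, hφ₂⟩ : ∃ φ ∈ perp c, φ ∉ Submodule.span F {φ₁} := by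
    by_contra hcon
    push Not at hcon
    have e1 := Submodule.finrank_mono (show perp c ≤ Submodule.span F {φ₁} from hcon)
    rw [finrank_span_singleton hφ₁] at e1
    have := finrank_perp hc
    rw [Fintype.card_fin] at this
    have := H.hm
    omega
  have h₁ : φ₁ ⬝ᵥ c = 0 := hφ₁m
  have h₂ : φ₂ ⬝ᵥ c = 0 := hφ₂m
  have hφ₂0 : φ₂ ≠ 0 := fun h => hφ₂ (h ▸ zero_mem _)
  have h₁₂ : (φ₁ + φ₂) ⬝ᵥ c = 0 := by rw [add_dotProduct, h₁, h₂, add_zero]
  have hφ₁₂ : φ₁ + φ₂ ≠ 0 := fun h => hφ₂ (by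
    rw [eq_neg_of_add_eq_zero_right h]
    exact neg_mem (Submodule.mem_span_singleton_self _))
  have key : ∀ (φ : Fin m → F) (h : φ ⬝ᵥ c = 0), φ ≠ 0 → ∀ σ : Equiv.Perm J,
      MonoOf σ (g⁻¹ * fac i (tw c φ h) * g) →
        IsLn ((Ln i c).map (mvLin g⁻¹)) ∨ σ.IsSwap := by
    intro φ h hφ σ hσ
    have hr := range_dev_conj g⁻¹ (fac i (tw c φ h))
    rw [inv_inv, range_dev_fac i c φ h hφ] at hr
    have hdim : Module.finrank F (LinearMap.range (dev (g⁻¹ * fac i (tw c φ h) * g))) =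
        Fintype.card (Rest i m) := by rw [hr, finrank_map_gl, finrank_Ln i hc]
    have hne : g⁻¹ * fac i (tw c φ h) * g ≠ 1 := fun e => by
      rw [dev_eq_zero.2 e, LinearMap.range_zero, finrank_bot] at hdim
      have := card_rest_pos (m := m) i
      omega
    rcases (mono_rank H.hm hσ hne).2 (by rw [hdim, Nat.mul_comm, card_rest]) with ⟨-, h'⟩ | h'
    · exact Or.inl (hr ▸ h')
    · exact Or.inr h'
  obtain ⟨σ, hσ⟩ := hmono φ₁ h₁ hφ₁
  obtain ⟨τ, hτ⟩ := hmono φ₂ h₂ hφ₂0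
  rcases key φ₁ h₁ hφ₁ σ hσ with h | hs
  · exact h
  rcases key φ₂ h₂ hφ₂0 τ hτ with h | ht
  · exact h
  have hprod : MonoOf (τ * σ) (g⁻¹ * fac i (tw c (φ₁ + φ₂) h₁₂) * g) := by
    have := MonoOf.mul hσ hτ
    rwa [show g⁻¹ * fac i (tw c φ₁ h₁) * g * (g⁻¹ * fac i (tw c φ₂ h₂) * g) =
      g⁻¹ * (fac i (tw c φ₁ h₁) * fac i (tw c φ₂ h₂)) * g by group,
      fac_tw_add i c φ₁ φ₂ h₁ h₂ h₁₂] at this
  exact (key _ h₁₂ hφ₁₂ _ hprod).resolve_right (isSwap_mul hs ht)

/-- A line meeting an image of a line. -/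
theorem meet_inv [Fintype F] (H : Good M) {g : GL (J → Fin m) F} (hg : g ∈ M) {i l : J}
    {c c₂ : Fin m → F} (hc : c ≠ 0) (hc₂ : c₂ ≠ 0)
    (hd : Ln i c ⊓ (Ln l c₂).map (mvLin g) ≠ ⊥) : IsLn ((Ln i c).map (mvLin g⁻¹)) := by
  haveI := H.neZero
  by_cases hne : (Ln l c₂).map (mvLin g) = Ln i c
  · rw [← hne, map_gl_inv]
    exact ⟨l, c₂, hc₂, rfl⟩
  rcases dich H hg hc hc₂ hne (fun c' hc' e => by
      obtain ⟨y, hy, hy0⟩ := Submodule.exists_mem_ne_zero_of_ne_bot hd
      obtain ⟨h1, h2⟩ := hy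
      rw [e] at h2
      exact hne (e.trans (Ln_eq_of_meet hy0 h2 h1)))
    (fun h => absurd h hd) with h | h
  swap
  · exact absurd h.1 hd
  refine line_of_mono_group H g hc fun φ hφ _ => ?_
  have hk : g⁻¹ * fac i (tw c φ hφ) * g ∈ M :=
    M.mul_mem (M.mul_mem (M.inv_mem hg) (H.hG _ _ _ _)) hg
  refine H.ind _ hk l c₂ hc₂ (meet_large H hk hc₂ hc₂ ?_)
  have h1 := h.2 φ hφ
  have h2 := le_meet g i l c c₂ φ hφ
  have h3 : 1 ≤ Module.finrank F ↥(Ln i c ⊓ (Ln l c₂).map (mvLin g)) :=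
    Submodule.one_le_finrank_iff.2 hd
  rw [card_rest_eq (by have := H.hm; omega) l i, inf_comm]
  have h4 : Fintype.card (Rest i m) ≤ (m - 2) * Fintype.card (Rest i m) :=
    Nat.le_mul_of_pos_left _ (by have := H.hm; omega)
  have h5 := Nat.mul_le_mul_left m h3
  have h6 := Nat.mul_le_mul_left m h2
  have := H.hm
  omega

theorem meet [Fintype F] (H : Good M) {g : GL (J → Fin m) F} (hg : g ∈ M) {i l : J}
    {c c₂ : Fin m → F} (hc : c ≠ 0) (hc₂ : c₂ ≠ 0)
    (hd : (Ln l c₂).map (mvLin g) ⊓ Ln i c ≠ ⊥) : IsLn ((Ln l c₂).map (mvLin g)) := by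
  have h := meet_inv H (M.inv_mem hg) hc₂ hc (i := l) (l := i) fun h => hd (by
    have e := congrArg (fun W : Submodule F _ => W.map (mvLin g)) h
    simpa [Submodule.map_inf _ (show Function.Injective (mvLin g) from fun x y hxy =>
      mv_inj g (by simpa using hxy)), map_gl_mul, map_gl_one, Submodule.map_bot] using e)
  rwa [inv_inv] at h

theorem all_lines [Fintype F] (H : Good M) {g : GL (J → Fin m) F} (hg : g ∈ M) {l : J}
    {c₂ : Fin m → F} (hc₂ : c₂ ≠ 0) (hl : IsLn ((Ln l c₂).map (mvLin g))) :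
    ∀ (j : J) (d : Fin m → F), d ≠ 0 → IsLn ((Ln j d).map (mvLin g)) := by
  haveI := H.nontriv
  have step : ∀ (l j : J) (c₂ d : Fin m → F), l ≠ j → c₂ ≠ 0 → d ≠ 0 →
      IsLn ((Ln l c₂).map (mvLin g)) → IsLn ((Ln j d).map (mvLin g)) := by
    intro l j c₂ d hlj hc₂ hd h
    obtain ⟨i, c, hc, e⟩ := h
    refine meet H hg (i := i) hc hd fun hbot => ?_
    obtain ⟨y, hy, hy0⟩ :=
      Submodule.exists_mem_ne_zero_of_ne_bot (Ln_meet hlj.symm hd hc₂)
    have hm' : mv g y ∈ (Ln j d).map (mvLin g) ⊓ Ln i c :=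
      ⟨mem_map_gl.2 ⟨y, hy.1, rfl⟩, e ▸ mem_map_gl.2 ⟨y, hy.2, rfl⟩⟩
    rw [hbot, Submodule.mem_bot] at hm'
    exact hy0 (mv_inj g (hm'.trans (mv_zero g).symm))
  intro j d hd
  rcases eq_or_ne l j with rfl | h
  · obtain ⟨l', hl'⟩ := exists_ne l
    exact step l' l c₂ d hl' hc₂ hd (step l l' c₂ c₂ hl'.symm hc₂ hc₂ hl)
  · exact step l j c₂ d h hc₂ hd hl

theorem mono_of_line [Fintype F] (H : Good M) {g : GL (J → Fin m) F} (hg : g ∈ M) {l : J}
    {c₂ : Fin m → F} (hc₂ : c₂ ≠ 0) (hl : IsLn ((Ln l c₂).map (mvLin g))) : Mono g := by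
  haveI := H.nontriv
  exact mono_of_lines (by have := H.hm; omega) (all_lines H hg hc₂ hl)

/-- The radical elements of a bad pair are monomial. -/
theorem line_of_kills [Fintype F] (H : Good M) {g : GL (J → Fin m) F} (hg : g ∈ M) {i l : J}
    {c c₂ : Fin m → F} (hc : c ≠ 0) (hc₂ : c₂ ≠ 0)
    (h : ∀ φ : Fin m → F, φ ⬝ᵥ c = 0 → 1 ≤ Module.finrank F ↥((Ln l c₂).map (mvLin g) ⊓
      LinearMap.ker ((ctr φ).comp (push i).toLinearMap))) :
    IsLn ((Ln i c).map (mvLin g⁻¹)) := by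
  refine line_of_mono_group H g hc fun φ hφ _ => ?_
  have hk : g⁻¹ * fac i (tw c φ hφ) * g ∈ M :=
    M.mul_mem (M.mul_mem (M.inv_mem hg) (H.hG _ _ _ _)) hg
  refine mono_of_line H hk (l := l) hc₂ (meet H hk hc₂ hc₂ (i := l) (l := l) fun hbot => ?_)
  have h2 := (h φ hφ).trans (le_meet g i l c c₂ φ hφ)
  rw [hbot, finrank_bot] at h2
  omega

/-- Every element is monomial. -/
theorem mono_mem [Fintype F] (H : Good M) {g : GL (J → Fin m) F} (hg : g ∈ M) : Mono g := by
  classical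
  haveI := H.neZero
  haveI := H.nontriv
  obtain ⟨i, -⟩ := exists_pair_ne J
  set c : Fin m → F := Pi.single 0 1
  have hc : c ≠ 0 := by simp [c]
  by_cases hl : IsLn ((Ln i c).map (mvLin g))
  · exact mono_of_line H hg hc hl
  exfalso
  set R := Ln i c with hR
  have hnoL : ∀ (j : J) (d : Fin m → F), d ≠ 0 → ¬ IsLn ((Ln j d).map (mvLin g)) :=
    fun j d hd h => hl (all_lines H hg hd h i c hc)
  have hl' : ¬ IsLn (R.map (mvLin g⁻¹)) := by
    rintro ⟨j, d, hd, e⟩
    exact hnoL j d hd ⟨i, c, hc, by rw [← e, map_gl_inv']⟩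
  have hSR : R.map (mvLin g) ≠ R := fun e => hl ⟨i, c, hc, e⟩
  have hSep : R ⊓ R.map (mvLin g) = ⊥ → ∀ h ∈ M,
      tg i m F h ∈ gen (Rest i m) c (Bset g i i c) →
      R.map (mvLin h) ≠ R → R.map (mvLin h) ⊓ R ≠ ⊥ →
      ∃ (j : J) (A : GL (Fin m) F), j ≠ i ∧ tg i m F (fac j A) ∈ gen (Rest i m) c (Bset g i i c) ∧
        ¬ ∀ x, dev (fac j A) x ∈ R := by
    intro _ h hh hgen hne hmeet
    obtain ⟨σ, hσ⟩ := mono_of_line H hh hc (meet H hh hc hc hmeet)
    obtain ⟨C, hC⟩ := MonoOf.conj_fac (σ := σ) hσ i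
    obtain ⟨φ, hφ0, hφ, -⟩ := exists_ann c c (by simpa using H.hm)
    have e := hC (tw c φ hφ)
    have hr := range_dev_conj h (fac i (tw c φ hφ))
    rw [e, range_dev_fac i c φ hφ hφ0] at hr
    have hnot : ¬ ∀ x, dev (fac (σ⁻¹ i) (C * tw c φ hφ * C⁻¹)) x ∈ Ln i c := fun hall => hne
      (Submodule.eq_of_le_of_finrank_eq (by rw [← hr]; rintro _ ⟨x, rfl⟩; exact hall x)
        (finrank_map_gl _ _))
    refine ⟨σ⁻¹ i, _, fun he => ?_, ?_, hnot⟩
    · obtain ⟨D, hD⟩ := MonoOf.map_Ln (σ := σ) hσ i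
      have e1 := hD c hc
      rw [he] at e1
      obtain ⟨y, hy, hy0⟩ := Submodule.exists_mem_ne_zero_of_ne_bot hmeet
      obtain ⟨h1, h2⟩ := hy
      rw [e1] at h1
      exact hne (e1.trans (Ln_eq_of_meet hy0 h1 h2))
    · rw [← e, map_mul, map_mul, map_inv, tg_fac_tw]
      exact Subgroup.mul_mem _ (Subgroup.mul_mem _ hgen (tT_mem_gen c _ φ hφ))
        (Subgroup.inv_mem _ hgen)
  rcases dich H hg hc hc hSR (fun c' hc' e => hl ⟨i, c', hc', e⟩) hSep with h | ⟨-, φ, hφ0, hφ, h⟩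
  · refine hl' (line_of_kills H hg hc hc (l := i) fun φ hφ => ?_)
    have h1 := h.2 φ hφ
    by_contra h0
    push Not at h0
    rw [Nat.lt_one_iff.1 h0, Nat.mul_zero] at h1
    have h4 : Fintype.card (Rest i m) ≤ (m - 2) * Fintype.card (Rest i m) :=
      Nat.le_mul_of_pos_left _ (by have := H.hm; omega)
    have := card_rest_pos (m := m) i
    omega
  · set k := g⁻¹ * fac i (tw c φ hφ) * g with hkdef
    have hk : k ∈ M := M.mul_mem (M.mul_mem (M.inv_mem hg) (H.hG _ _ _ _)) hg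
    have h2 := le_meet g i i c c φ hφ
    have hstab : R.map (mvLin k) = R := by
      refine meet_large H hk hc hc ?_
      rw [inf_comm]
      have h5 := Nat.mul_le_mul_left m (h.trans (Nat.mul_le_mul_left 2 h2))
      have := card_rest_pos (m := m) i
      have h6 : 3 * Fintype.card (Rest i m) ≤ m * Fintype.card (Rest i m) :=
        Nat.mul_le_mul_right _ H.hm
      rw [← hkdef, ← hR] at h5
      rw [← hR]
      rw [Nat.mul_left_comm] at h5
      omega
    have hr : LinearMap.range (dev k) = R.map (mvLin g⁻¹) := by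
      have := range_dev_conj g⁻¹ (fac i (tw c φ hφ))
      rw [inv_inv, range_dev_fac i c φ hφ hφ0] at this
      exact this
    have hkK : tg i m F k ∈ M.map (tg i m F).toMonoidHom := Subgroup.mem_map_of_mem _ hk
    have hst : ∀ x ∈ line (Rest i m) c, mv (tg i m F k) x ∈ line (Rest i m) c := by
      intro x hx
      rw [← map_push_Ln i c, ← hR, ← hstab, map_push_map, hR, map_push_Ln]
      exact mem_map_gl.2 ⟨x, hx, rfl⟩
    obtain ⟨B, A, hBA⟩ := kron_of_stab (H.split i) hkK hc hst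
    have hrk : Module.finrank F (LinearMap.range (dev (tg i m F k))) ≤ Fintype.card (Rest i m) := by
      rw [finrank_dev_tg, hr, finrank_map_gl, hR, finrank_Ln i hc]
    by_cases hmov : ∃ w, (A : Matrix (Fin m) (Fin m) F) *ᵥ w ∉ Submodule.span F {w}
    · obtain ⟨w, hw⟩ := hmov
      obtain ⟨-, d, hd, e⟩ := line_of_rank_le (by simpa using H.hm) hBA hw hrk
      rw [range_dev_tg, hr] at e
      refine hl' ⟨i, d, hd, ?_⟩
      rw [Ln, ← e, ← Submodule.map_comp]
      simp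
    · obtain ⟨s, hs⟩ : ∃ s : F, (A : Matrix (Fin m) (Fin m) F) = s • 1 := by
        by_contra hcon
        push Not at hcon
        exact hmov (exists_moved_of_not_scalar hcon)
      have hSdim : Module.finrank F (R.map (mvLin g⁻¹)) = Fintype.card (Rest i m) := by
        rw [finrank_map_gl, hR, finrank_Ln i hc]
      have hsc := scal_of_elem H hk hc hSdim
        (fun x => Submodule.mem_sup_right (hr ▸ LinearMap.mem_range_self _ x)) hBA (ν := s)
        (fun w => by
          rw [show mv A w = (A : Matrix (Fin m) (Fin m) F) *ᵥ w from rfl, hs, Matrix.smul_mulVec,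
            Matrix.one_mulVec, sub_self]
          exact zero_mem _)
        (fun hall => hl' ⟨i, c, hc, Submodule.eq_of_le_of_finrank_eq (by
          rw [← hr]; rintro _ ⟨x, rfl⟩; exact hall x) (by rw [hSdim, finrank_Ln i hc])⟩)
      refine hl ?_
      have := line_of_kills H (M.inv_mem hg) hc hc (i := i) (l := i) fun φ' hφ' => by
        have h1 := hsc.2 φ' hφ'
        rw [hR] at h1
        by_contra h0
        push Not at h0
        rw [Nat.lt_one_iff.1 h0, Nat.mul_zero] at h1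
        have h4 : Fintype.card (Rest i m) ≤ (m - 2) * Fintype.card (Rest i m) :=
          Nat.le_mul_of_pos_left _ (by have := H.hm; omega)
        have := card_rest_pos (m := m) i
        omega
      rwa [inv_inv] at this

end Cfsg.Agent.WreathMax
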