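/-
An additive set of matrices on a tensor power, stable under conjugation by the elementary
transvections of the factors, contains an elementary element unless it is scalar.
-/
import Cfsg.Agent.Lib.WreathMax.Elem

set_option autoImplicit false
set_option linter.unusedSectionVars false

namespace Cfsg.Agent.WreathMax

open scoped Matrix
open Matrix

variable {J : Type} [Fintype J] [DecidableEq J] {m : ℕ} {F : Type*} [Field F]

/-- The elementary matrix (a, b) in factor j. -/
def fN (F : Type*) [Field F] (j : J) (a b : Fin m) : Matrix (J → Fin m) (J → Fin m) F :=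
  Matrix.of fun i k => if i j = a ∧ k = Function.update i j b then 1 else 0

theorem fN_mul_apply (j : J) (a b : Fin m) (Y : Matrix (J → Fin m) (J → Fin m) F)
    (i k : J → Fin m) :
    (fN F j a b * Y) i k = if i j = a then Y (Function.update i j b) k else 0 := by
  rw [Matrix.mul_apply]
  split
  · rename_i h
    rw [Finset.sum_eq_single (Function.update i j b)]
    · simp [fN, h]
    · intro l _ hl; simp [fN, hl]
    · simp
  · rename_i h
    exact Finset.sum_eq_zero fun l _ => by simp [fN, h]

theorem mul_fN_apply (j : J) (a b : Fin m) (Y : Matrix (J → Fin m) (J → Fin m) F)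
    (i k : J → Fin m) :
    (Y * fN F j a b) i k = if k j = b then Y i (Function.update k j a) else 0 := by
  rw [Matrix.mul_apply]
  split
  · rename_i h
    rw [Finset.sum_eq_single (Function.update k j a)]
    · simp [fN, ← h]
    · intro l _ hl
      simp only [fN, Matrix.of_apply, mul_ite, mul_one, mul_zero, ite_eq_right_iff, and_imp]
      intro h1 h2
      exact absurd (by rw [h2, Function.update_idem, ← h1, Function.update_eq_self]) hl
    · simp
  · rename_i h
    refine Finset.sum_eq_zero fun l _ => ?_
    simp only [fN, Matrix.of_apply, mul_ite, mul_one, mul_zero, ite_eq_right_iff, and_imp]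
    intro _ h2
    exact absurd (by rw [h2, Function.update_self]) h

theorem fN_mul_fN (j : J) (a b c d : Fin m) :
    fN F j a b * fN F j c d = if b = c then fN F j a d else 0 := by
  ext i k
  rw [fN_mul_apply]
  by_cases h : b = c
  · subst h
    by_cases h1 : i j = a <;> simp [fN, h1]
  · by_cases h1 : i j = a <;> simp [fN, h1, h]

/-- The weight of a matrix. -/
noncomputable def wgt (Y : Matrix (J → Fin m) (J → Fin m) F) : ℕ := by
  classical
  exact ∑ p ∈ Finset.univ.filter (fun p : (J → Fin m) × (J → Fin m) => Y p.1 p.2 ≠ 0),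
    (1 + (Finset.univ.filter fun j => p.1 j = p.2 j).card)

theorem eq_count_update (i k : J → Fin m) (j : J) {x y : Fin m} (hxy : x ≠ y) :
    (Finset.univ.filter fun l => Function.update i j x l = Function.update k j y l) =
      (Finset.univ.filter fun l => i l = k l).erase j := by
  ext l
  rcases eq_or_ne l j with rfl | h
  · simp [hxy]
  · simp [h]

/-- The elementary element of a minimal matrix. -/
theorem exists_elem (hm : 3 ≤ m) (E : Set (Matrix (J → Fin m) (J → Fin m) F))
    (hsub : ∀ X ∈ E, ∀ Y ∈ E, X - Y ∈ E)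
    (hconj : ∀ (j : J) (a b : Fin m), a ≠ b → ∀ Y ∈ E, (1 + fN F j a b) * Y * (1 - fN F j a b) ∈ E)
    {Y₀ : Matrix (J → Fin m) (J → Fin m) F} (hY₀ : Y₀ ∈ E) (hns₀ : ∀ t : F, Y₀ ≠ t • 1) :
    ∃ (S : Finset J) (a b : J → Fin m) (s : F), S.Nonempty ∧ Off S a b ∧ s ≠ 0 ∧
      s • LinearMap.toMatrix' (es S a b) ∈ E := by
  classical
  have hadd : ∀ X ∈ E, ∀ Y ∈ E, X + Y ∈ E := fun X hX Y hY => by
    have := hsub X hX _ (hsub _ (hsub X hX X hX) Y hY)
    simpa using this
  -- sandwiches and brackets with elementary matrices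
  have hnyn : ∀ (j : J) (a c : Fin m), a ≠ c → ∀ Y ∈ E, fN F j a c * Y * fN F j a c ∈ E ∧
      fN F j a c * Y - Y * fN F j a c ∈ E := by
    intro j a c hac Y hY
    obtain ⟨b, hba, hbc⟩ : ∃ b : Fin m, b ≠ a ∧ b ≠ c := by
      by_contra hcon
      push Not at hcon
      have : (Finset.univ : Finset (Fin m)) ⊆ {a, c} := fun b _ => by
        by_cases h : b = a
        · simp [h]
        · simp [hcon b h]
      have := (Finset.card_le_card this).trans Finset.card_le_two
      simp at this
      omega
    set N₁ := fN F j a b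
    set N₂ := fN F j a c
    set N₃ := fN F j b c
    have z11 : N₂ * N₁ = 0 := by simp [N₁, N₂, fN_mul_fN, hac.symm]
    have z12 : N₁ * N₂ = 0 := by simp [N₁, N₂, fN_mul_fN, hba]
    have h12 := hconj j a c hac _ (hconj j a b hba.symm Y hY)
    have hX : -(N₁ * Y * N₂ + N₂ * Y * N₁) ∈ E := by
      have h1 := hsub _ (hsub _ h12 Y hY) _ (hsub _ (hconj j a b hba.symm Y hY) Y hY)
      have h2 := hsub _ h1 _ (hsub _ (hconj j a c hac Y hY) Y hY)
      convert h2 using 1
      calc -(N₁ * Y * N₂ + N₂ * Y * N₁)
          = (1 + (N₁ + N₂) + N₂ * N₁) * Y * (1 - (N₁ + N₂) + N₁ * N₂) - Y -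
              ((1 + N₁) * Y * (1 - N₁) - Y) - ((1 + N₂) * Y * (1 - N₂) - Y) := by
            rw [z11, z12]; noncomm_ring
        _ = _ := by noncomm_ring
    set X := -(N₁ * Y * N₂ + N₂ * Y * N₁) with hXdef
    have hq : N₂ * Y * N₂ ∈ E := by
      have h3 := hsub _ (hconj j b c hbc X hX) X hX
      convert h3 using 1
      have w1 : N₃ * N₁ = 0 := by simp [N₁, N₃, fN_mul_fN, hac.symm]
      have w2 : N₃ * N₂ = 0 := by simp [N₂, N₃, fN_mul_fN, hac.symm]
      have w3 : N₂ * N₃ = 0 := by simp [N₂, N₃, fN_mul_fN, hbc.symm]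
      have w4 : N₁ * N₃ = N₂ := by simp [N₁, N₂, N₃, fN_mul_fN]
      have e1 : N₃ * X = 0 := by
        rw [hXdef, mul_neg, mul_add, ← mul_assoc, ← mul_assoc, ← mul_assoc, ← mul_assoc, w1, w2]
        simp
      have e2 : X * N₃ = -(N₂ * Y * N₂) := by
        rw [hXdef, neg_mul, add_mul, mul_assoc (N₁ * Y), mul_assoc (N₂ * Y), w3, w4]
        simp
      rw [add_mul, one_mul, e1, add_zero, mul_sub, mul_one, e2]
      abel
    refine ⟨hq, ?_⟩
    have h4 := hadd _ (hsub _ (hconj j a c hac Y hY) Y hY) _ hq
    convert h4 using 1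
    noncomm_ring
  -- a minimal member
  have hex : ∃ w, ∃ Y ∈ E, (∀ t : F, Y ≠ t • 1) ∧ wgt Y = w := ⟨_, Y₀, hY₀, hns₀, rfl⟩
  obtain ⟨Y, hY, hns, hw⟩ := Nat.find_spec hex
  have hmin : ∀ Z ∈ E, (∀ t : F, Z ≠ t • 1) → wgt Y ≤ wgt Z := fun Z hZ hZn => by
    rw [hw]; exact Nat.find_min' hex ⟨Z, hZ, hZn, rfl⟩
  have hns' : ∀ Z : Matrix (J → Fin m) (J → Fin m) F, Z ≠ 0 → (∀ i, Z i i = 0) →
      ∀ t : F, Z ≠ t • 1 := by
    intro Z hZ hd t e
    obtain ⟨i₀⟩ : Nonempty (J → Fin m) := ⟨fun _ => ⟨0, by omega⟩⟩
    have := congrFun (congrFun e i₀) i₀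
    rw [hd] at this
    simp at this
    exact hZ (by rw [e, ← this, zero_smul])
  have hcase : ∀ j : J, (∃ a b : Fin m, a ≠ b ∧ ∀ i k, Y i k ≠ 0 → i j = a ∧ k j = b) ∨
      ((∀ i k, Y i k ≠ 0 → i j = k j) ∧
        ∀ i k x, i j = k j → Y (Function.update i j x) (Function.update k j x) = Y i k) := by
    intro j
    by_cases hoff : ∃ i k, Y i k ≠ 0 ∧ i j ≠ k j
    · obtain ⟨i₀, k₀, h0, hne⟩ := hoff
      left
      refine ⟨i₀ j, k₀ j, hne, fun i₁ k₁ h1 => ?_⟩
      by_contra hout
      set c := i₀ j
      set a := k₀ j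
      set Z := fN F j a c * Y * fN F j a c with hZ
      have hZe : ∀ i k, Z i k = if i j = a ∧ k j = c then
          Y (Function.update i j c) (Function.update k j a) else 0 := by
        intro i k
        rw [hZ, mul_fN_apply]
        by_cases h2 : k j = c <;> by_cases h3 : i j = a <;> simp [fN_mul_apply, h2, h3]
      have hZn : ∀ t : F, Z ≠ t • 1 := by
        refine hns' Z (fun e => h0 ?_) fun i => ?_
        · have := congrFun (congrFun e (Function.update i₀ j a)) (Function.update k₀ j c)
          rw [hZe] at this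
          simpa [c, a, Function.update_idem, Function.update_eq_self] using this
        · rw [hZe, if_neg]
          exact fun h => hne (h.2.symm.trans h.1)
      refine absurd (hmin Z (hnyn j a c hne.symm Y hY).1 hZn) (not_le.2 ?_)
      simp only [wgt]
      set f : (J → Fin m) × (J → Fin m) → (J → Fin m) × (J → Fin m) :=
        fun p => (Function.update p.1 j c, Function.update p.2 j a) with hf
      have hmem : ∀ p, Z p.1 p.2 ≠ 0 → (p.1 j = a ∧ p.2 j = c) ∧ Y (f p).1 (f p).2 ≠ 0 := by
        intro p hp
        rw [hZe] at hp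
        split at hp
        · rename_i h; exact ⟨h, hp⟩
        · exact absurd rfl hp
      have hinj : Set.InjOn f ↑(Finset.univ.filter fun p : (J → Fin m) × (J → Fin m) => Z p.1 p.2 ≠ 0) := by
        intro p hp q hq e
        obtain ⟨⟨p1, p2⟩, -⟩ := hmem p (Finset.mem_filter.1 hp).2
        obtain ⟨⟨q1, q2⟩, -⟩ := hmem q (Finset.mem_filter.1 hq).2
        obtain ⟨e1, e2⟩ := Prod.mk.inj e
        refine Prod.ext (funext fun l => ?_) (funext fun l => ?_)
        · rcases eq_or_ne l j with rfl | h
          · rw [p1, q1]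
          · simpa [h] using congrFun e1 l
        · rcases eq_or_ne l j with rfl | h
          · rw [p2, q2]
          · simpa [h] using congrFun e2 l
      calc _ = ∑ p ∈ Finset.univ.filter (fun p => Z p.1 p.2 ≠ 0),
            (1 + (Finset.univ.filter fun l => (f p).1 l = (f p).2 l).card) := by
            refine Finset.sum_congr rfl fun p hp => ?_
            obtain ⟨⟨p1, p2⟩, -⟩ := hmem p (Finset.mem_filter.1 hp).2
            rw [hf, eq_count_update _ _ _ hne, Finset.erase_eq_of_notMem]
            simp [p1, p2, hne.symm]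
        _ = ∑ p ∈ (Finset.univ.filter (fun p => Z p.1 p.2 ≠ 0)).image f,
            (1 + (Finset.univ.filter fun l => p.1 l = p.2 l).card) :=
          (Finset.sum_image (f := fun p : (J → Fin m) × (J → Fin m) => 1 + (Finset.univ.filter fun l => p.1 l = p.2 l).card) hinj).symm
        _ < _ := by
          refine Finset.sum_lt_sum_of_subset (i := (i₁, k₁)) ?_ ?_ ?_ (by omega) (fun _ _ _ => Nat.zero_le _)
          · intro q hq
            obtain ⟨p, hp, rfl⟩ := Finset.mem_image.1 hq
            exact Finset.mem_filter.2 ⟨Finset.mem_univ _, (hmem p (Finset.mem_filter.1 hp).2).2⟩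
          · exact Finset.mem_filter.2 ⟨Finset.mem_univ _, h1⟩
          · intro hq
            obtain ⟨p, -, e⟩ := Finset.mem_image.1 hq
            obtain ⟨e1, e2⟩ := Prod.mk.inj e
            exact hout ⟨by rw [← e1, Function.update_self], by rw [← e2, Function.update_self]⟩
    · right
      push Not at hoff
      refine ⟨hoff, fun i k x hik => ?_⟩
      by_cases hx : x = i j
      · rw [hx, Function.update_eq_self, hik, Function.update_eq_self]
      set a := i j
      set c := x
      set D := fN F j a c * Y - Y * fN F j a c with hD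
      have hDe : ∀ i' k', D i' k' = if i' j = a ∧ k' j = c then
          Y (Function.update i' j c) k' - Y i' (Function.update k' j a) else 0 := by
        intro i' k'
        rw [hD, Matrix.sub_apply, fN_mul_apply, mul_fN_apply]
        by_cases h1 : i' j = a <;> by_cases h2 : k' j = c <;> simp [h1, h2]
        · by_contra h3
          exact h2 ((hoff _ _ h3).symm.trans (Function.update_self ..))
        · by_contra h3
          exact h1 ((hoff _ _ h3).trans (Function.update_self ..))
      by_contra hne
      have hDn : ∀ t : F, D ≠ t • 1 := by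
        refine hns' D (fun e => hne ?_) fun i' => ?_
        · have := congrFun (congrFun e i) (Function.update k j c)
          rw [hDe, if_pos ⟨rfl, Function.update_self ..⟩, Function.update_idem, Matrix.zero_apply,
            sub_eq_zero] at this
          rw [this, show a = k j from hik, Function.update_eq_self]
        · rw [hDe, if_neg]
          exact fun h => hx (h.2.symm.trans h.1)
      refine absurd (hmin D (hnyn j a c (Ne.symm hx) Y hY).2 hDn) (not_le.2 ?_)
      simp only [wgt]
      set f : (J → Fin m) × (J → Fin m) → (J → Fin m) × (J → Fin m) :=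
        fun p => if Y (Function.update p.1 j c) p.2 ≠ 0 then (Function.update p.1 j c, p.2)
          else (p.1, Function.update p.2 j a) with hf
      have hmem : ∀ p, D p.1 p.2 ≠ 0 → (p.1 j = a ∧ p.2 j = c) ∧ Y (f p).1 (f p).2 ≠ 0 := by
        intro p hp
        rw [hDe] at hp
        split at hp
        · rename_i h
          refine ⟨h, ?_⟩
          simp only [hf]
          split
          · assumption
          · rename_i h2
            push Not at h2
            rw [h2, zero_sub, neg_ne_zero] at hp
            exact hp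
        · exact absurd rfl hp
      have hcase' : ∀ p, D p.1 p.2 ≠ 0 → (f p).1 j = (f p).2 j ∧
          ((f p = (Function.update p.1 j c, p.2)) ∨ f p = (p.1, Function.update p.2 j a)) := by
        intro p hp
        refine ⟨hoff _ _ (hmem p hp).2, ?_⟩
        simp only [hf]
        split
        · exact Or.inl rfl
        · exact Or.inr rfl
      have hinj : Set.InjOn f ↑(Finset.univ.filter fun p : (J → Fin m) × (J → Fin m) => D p.1 p.2 ≠ 0) := by
        intro p hp q hq e
        obtain ⟨⟨p1, p2⟩, -⟩ := hmem p (Finset.mem_filter.1 hp).2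
        obtain ⟨⟨q1, q2⟩, -⟩ := hmem q (Finset.mem_filter.1 hq).2
        rcases (hcase' p (Finset.mem_filter.1 hp).2).2 with e1 | e1 <;>
          rcases (hcase' q (Finset.mem_filter.1 hq).2).2 with e2 | e2 <;> rw [e1, e2] at e <;>
          obtain ⟨u1, u2⟩ := Prod.mk.inj e
        · refine Prod.ext (funext fun l => ?_) u2
          rcases eq_or_ne l j with rfl | h
          · rw [p1, q1]
          · simpa [h] using congrFun u1 l
        · exact absurd (by rw [← p2, u2, Function.update_self]) hx
        · exact absurd (by rw [← q2, ← u2, Function.update_self]) hx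
        · refine Prod.ext u1 (funext fun l => ?_)
          rcases eq_or_ne l j with rfl | h
          · rw [p2, q2]
          · simpa [h] using congrFun u2 l
      obtain ⟨p₀, hp₀⟩ : ∃ p : (J → Fin m) × (J → Fin m), D p.1 p.2 ≠ 0 :=
        ⟨(i, Function.update k j c), by
          rw [hDe, if_pos ⟨rfl, Function.update_self ..⟩, Function.update_idem,
            show a = k j from hik, Function.update_eq_self, sub_ne_zero]
          exact hne⟩
      calc _ < ∑ p ∈ Finset.univ.filter (fun p => D p.1 p.2 ≠ 0),
            (1 + (Finset.univ.filter fun l => (f p).1 l = (f p).2 l).card) := by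
            refine Finset.sum_lt_sum_of_nonempty ⟨p₀, Finset.mem_filter.2 ⟨Finset.mem_univ _, hp₀⟩⟩
              fun p hp => ?_
            obtain ⟨⟨p1, p2⟩, -⟩ := hmem p (Finset.mem_filter.1 hp).2
            obtain ⟨hj', hfe⟩ := hcase' p (Finset.mem_filter.1 hp).2
            refine Nat.add_lt_add_left (Finset.card_lt_card
              (Finset.ssubset_iff_of_subset ?_ |>.2 ⟨j, ?_, ?_⟩)) 1
            · intro l hl
              have hl' := (Finset.mem_filter.1 hl).2
              refine Finset.mem_filter.2 ⟨Finset.mem_univ _, ?_⟩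
              rcases eq_or_ne l j with rfl | h
              · exact hj'
              · rcases hfe with e | e <;> rw [e] <;> simp [h, hl']
            · exact Finset.mem_filter.2 ⟨Finset.mem_univ _, hj'⟩
            · simp [p1, p2, Ne.symm hx]
        _ = ∑ p ∈ (Finset.univ.filter (fun p => D p.1 p.2 ≠ 0)).image f,
            (1 + (Finset.univ.filter fun l => p.1 l = p.2 l).card) :=
          (Finset.sum_image (f := fun p : (J → Fin m) × (J → Fin m) => 1 + (Finset.univ.filter fun l => p.1 l = p.2 l).card) hinj).symm
        _ ≤ _ := by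
          refine Finset.sum_le_sum_of_subset (fun q hq => ?_)
          obtain ⟨p, hp, rfl⟩ := Finset.mem_image.1 hq
          exact Finset.mem_filter.2 ⟨Finset.mem_univ _, (hmem p (Finset.mem_filter.1 hp).2).2⟩
  -- the minimal member is elementary
  set S := Finset.univ.filter fun j => ¬ ∀ i k, Y i k ≠ 0 → i j = k j with hS
  obtain ⟨z₀⟩ : Nonempty (Fin m) := ⟨⟨0, by omega⟩⟩
  set a : J → Fin m := fun j => if h : ∃ a b : Fin m, a ≠ b ∧ ∀ i k, Y i k ≠ 0 → i j = a ∧ k j = b
    then h.choose else z₀ with ha
  set b : J → Fin m := fun j => if h : ∃ a b : Fin m, a ≠ b ∧ ∀ i k, Y i k ≠ 0 → i j = a ∧ k j = b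
    then h.choose_spec.choose else z₀ with hb
  have hSmem : ∀ j, j ∈ S → a j ≠ b j ∧ ∀ i k, Y i k ≠ 0 → i j = a j ∧ k j = b j := by
    intro j hj
    have h := (hcase j).resolve_right fun h => (Finset.mem_filter.1 hj).2 h.1
    simp only [ha, hb, dif_pos h]
    exact h.choose_spec.choose_spec
  have htriv : ∀ j, j ∉ S → (∀ i k, Y i k ≠ 0 → i j = k j) ∧
      ∀ i k x, i j = k j → Y (Function.update i j x) (Function.update k j x) = Y i k := by
    intro j hj
    have h1 : ∀ i k, Y i k ≠ 0 → i j = k j := by simpa [hS] using hj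
    refine ⟨h1, (hcase j).resolve_left ?_ |>.2⟩
    rintro ⟨a', b', hab, h⟩
    have hY0 : Y ≠ 0 := fun e => hns 0 (by rw [e, zero_smul])
    obtain ⟨i, k, hik⟩ : ∃ i k, Y i k ≠ 0 := by
      by_contra hcon
      push Not at hcon
      exact hY0 (Matrix.ext hcon)
    exact hab ((h i k hik).1.symm.trans ((h1 i k hik).trans (h i k hik).2))
  set i₀ : J → Fin m := fun j => if j ∈ S then a j else z₀ with hi₀
  set s := Y i₀ (emb S b i₀) with hs
  have hYeq : Y = s • LinearMap.toMatrix' (es S a b) := by
    ext i k
    rw [Matrix.smul_apply, smul_eq_mul, LinearMap.toMatrix'_apply, es_apply]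
    by_cases hk : (∀ j ∈ S, i j = a j) ∧ k = emb S b i
    · obtain ⟨h1, h2⟩ := hk
      rw [if_pos h1, h2, Pi.single_eq_same, mul_one, hs]
      have key : ∀ T : Finset J, Disjoint T S →
          Y (fun j => if j ∈ T then z₀ else i j) (emb S b fun j => if j ∈ T then z₀ else i j) =
            Y i (emb S b i) := by
        intro T
        induction T using Finset.induction_on with
        | empty => simp
        | insert l T hl ih =>
          intro hd
          rw [Finset.disjoint_insert_left] at hd
          rw [← ih hd.2]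
          have hlS : l ∉ S := hd.1
          conv_rhs => rw [← (htriv l hlS).2 _ _ z₀ (by simp [emb, hlS])]
          congr 1 <;> funext j <;> rcases eq_or_ne j l with rfl | h
          · simp
          · simp [h]
          · simp [emb, hlS]
          · by_cases hjS : j ∈ S <;> simp [emb, h, hjS]
      have := key Sᶜ (disjoint_compl_left)
      rw [← this]
      congr 1 <;> funext j <;> by_cases hjS : j ∈ S <;>
        simp [hi₀, emb, hjS, h1 j]
    · have hY0 : Y i k = 0 := by
        by_contra hne
        refine hk ⟨fun j hj => ((hSmem j hj).2 i k hne).1, funext fun j => ?_⟩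
        by_cases hjS : j ∈ S
        · simp [emb, hjS, ((hSmem j hjS).2 i k hne).2]
        · simp [emb, hjS, (htriv j hjS).1 i k hne]
      rw [hY0]
      split
      · rename_i h1
        rw [Pi.single_eq_of_ne (fun e => hk ⟨h1, e.symm⟩), mul_zero]
      · rw [mul_zero]
  have hs0 : s ≠ 0 := fun h0 => hns 0 (by rw [hYeq, h0, zero_smul, zero_smul])
  refine ⟨S, a, b, s, ?_, fun j hj => (hSmem j hj).1, hs0, hYeq ▸ hY⟩
  rw [Finset.nonempty_iff_ne_empty]
  intro hSe
  refine hns s (hYeq.trans ?_)
  rw [show es (F := F) S a b = LinearMap.id from LinearMap.ext fun x => funext fun i => by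
    rw [es_apply, if_pos (by simp [hSe])]
    exact congrArg x (funext fun j => by simp [emb, hSe]), LinearMap.toMatrix'_id]

end Cfsg.Agent.WreathMax
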