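/-
Without elementary elements in several factors the radical of every line acts by transvections of
one factor.
-/
import Cfsg.Agent.Lib.WreathMax.Descent

set_option autoImplicit false
set_option linter.unusedSectionVars false

namespace Cfsg.Agent.WreathMax

open scoped Matrix Kronecker
open Matrix Cfsg.Agent.Transvec Cfsg.Agent.TensorMax

variable {J : Type} [Fintype J] [DecidableEq J] {m : ℕ} {F : Type*} [Field F]

/-- A set of factors other than i as a set of factors. -/
def liftSet (i : J) (S : Finset {j // j ≠ i}) : Finset J := S.map (Function.Embedding.subtype _)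

/-- Extending a tuple to the factor i. -/
def extend (i : J) (k : Fin m) (r : {j // j ≠ i} → Fin m) : J → Fin m := (sp i m).symm (r, k)

theorem emb_liftSet (i : J) (S : Finset {j // j ≠ i}) (b r : {j // j ≠ i} → Fin m) (z k : Fin m) :
    emb (liftSet i S) (extend i z b) ((sp i m).symm (r, k)) = (sp i m).symm (emb S b r, k) := by
  funext l
  rcases eq_or_ne l i with rfl | hl
  · simp [emb, liftSet, sp_symm_self]
  · by_cases h : (⟨l, hl⟩ : {j // j ≠ i}) ∈ S <;>
      simp [emb, liftSet, extend, hl, sp_symm_other, h]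

theorem push_es_lift (i : J) (S : Finset {j // j ≠ i}) (a b : {j // j ≠ i} → Fin m) (z z' : Fin m)
    (x : (J → Fin m) → F) (r : Rest i m) (k : Fin m) :
    push i (es (liftSet i S) (extend i z a) (extend i z' b) x) (r, k) =
      if ∀ j ∈ S, r j = a j then push i x (emb S b r, k) else 0 := by
  rw [push_apply, es_apply, emb_liftSet, push_apply]
  refine if_congr ⟨fun h j hj => ?_, fun h l hl => ?_⟩ rfl rfl
  · have := h j (Finset.mem_map.2 ⟨j, hj, rfl⟩)
    rwa [sp_symm_other i r k j.2, extend, sp_symm_other i a z j.2] at this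
  · obtain ⟨j, hj, rfl⟩ := Finset.mem_map.1 hl
    rw [Function.Embedding.subtype_apply, sp_symm_other i r k j.2, extend, sp_symm_other i a z j.2]
    exact h j hj

theorem diff_lift (i : J) {S : Finset {j // j ≠ i}} {a b : {j // j ≠ i} → Fin m} (z z' : Fin m)
    (h : Diff S a b) : Diff (liftSet i S) (extend i z a) (extend i z' b) := by
  obtain ⟨j, hj, hne⟩ := h
  exact ⟨j, Finset.mem_map.2 ⟨j, hj, rfl⟩, by simpa [extend, sp_symm_other i _ _ j.2] using hne⟩

theorem ctr_push_es_lift (i : J) (S : Finset {j // j ≠ i}) (a b : {j // j ≠ i} → Fin m)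
    (z z' : Fin m) (φ : Fin m → F) (x : (J → Fin m) → F) :
    ctr φ (push i (es (liftSet i S) (extend i z a) (extend i z' b) x)) =
      es S a b (ctr φ (push i x)) := by
  funext r
  rw [ctr_apply, es_apply]
  simp only [push_es_lift]
  split <;> simp [ctr_apply]

theorem mv_tg_eGL_lift (i : J) (S : Finset {j // j ≠ i}) (a b : {j // j ≠ i} → Fin m)
    (z z' : Fin m) (h : Diff (liftSet i S) (extend i z a) (extend i z' b)) (s : F)
    (v : Rest i m → F) (w : Fin m → F) :
    mv (tg i m F (eGL (liftSet i S) (extend i z a) (extend i z' b) h s)) (ten v w) =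
      ten (v + s • es S a b v) w := by
  rw [mv_tg', mv_eGL, map_add, LinearEquiv.apply_symm_apply, map_smul, ten_add_left, ten_smul_left]
  congr 2
  funext ⟨r, k⟩
  rw [push_es_lift, LinearEquiv.apply_symm_apply, ten_apply, ten_apply, es_apply]
  split <;> simp

theorem toMatrix'_es_singleton (j : J) (a b : J → Fin m) :
    LinearMap.toMatrix' (es (F := F) {j} a b) = fN F j (a j) (b j) := by
  ext r k
  rw [LinearMap.toMatrix'_apply, es_apply]
  have e : emb {j} b r = Function.update r j (b j) := funext fun l => by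
    rcases eq_or_ne l j with rfl | h <;> simp [emb, *]
  rw [e]
  by_cases h1 : r j = a j
  · rw [if_pos (by simpa using h1)]
    simp [fN, h1, Pi.single_apply, eq_comm]
  · rw [if_neg (by simpa using h1)]
    simp [fN, h1]

/-- An element with a non-scalar radical part gives an elementary element in several factors. -/
theorem scalarRad_of_not_ex (hm : 3 ≤ m) {M : Subgroup (GL (J → Fin m) F)} (hG : FacMem M)
    (hEX : ¬ EX M) (i : J) : ScalarRad (M.map (tg i m F).toMonoidHom) := by
  classical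
  haveI : NeZero m := ⟨by omega⟩
  by_contra hS
  unfold ScalarRad at hS
  push Not at hS
  obtain ⟨c₀, hc₀, g₀, hg₀, hline₀, hfix₀, hnot₀⟩ := hS
  set Mi := M.map (tg i m F).toMonoidHom with hMi
  set e : Fin m → F := Pi.single 0 1 with he
  have he0 : e ≠ 0 := by simp [e]
  obtain ⟨A, hA, hAc⟩ := exists_move hG hm i hc₀ he0
  set k := tg i m F (fac i A) with hk
  have hkM : k ∈ Mi := Subgroup.mem_map_of_mem _ hA
  have hkten : ∀ u w, mv k (ten u w) = ten u (mv A w) := fun u w => by
    rw [hk, tg_fac, mv_kronGL, mv_one]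
  set g := k * g₀ * k⁻¹ with hgdef
  have hg : g ∈ Mi := Mi.mul_mem (Mi.mul_mem hkM hg₀) (Mi.inv_mem hkM)
  have hkline : ∀ u, mv k⁻¹ (ten u e) = ten u c₀ := fun u => by
    rw [← hAc, ← hkten, mv_inv_mv]
  have hline : ∀ x, mv g x - x ∈ line (Rest i m) e := fun x => by
    obtain ⟨u, hu⟩ := mem_line.1 (hline₀ (mv k⁻¹ x))
    refine mem_line.2 ⟨u, ?_⟩
    rw [hgdef, mv_mul, mv_mul, ← hAc, ← hkten, hu, mv_sub, mv_mv_inv]
  have hfix : ∀ u, mv g (ten u e) = ten u e := fun u => by
    rw [hgdef, mv_mul, mv_mul, hkline, hfix₀, hkten, hAc]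
  have hnot : ∀ φ : Fin m → F, φ ⬝ᵥ e = 0 → ∃ x, mv g x ≠ x + ten (ctr φ x) e := by
    intro φ hφ
    by_contra hcon
    push Not at hcon
    set φ' := φ ᵥ* (A : Matrix (Fin m) (Fin m) F) with hφ'
    have hd : ∀ w, φ' ⬝ᵥ w = φ ⬝ᵥ mv A w := fun w => (Matrix.dotProduct_mulVec φ _ w).symm
    have hctr : ∀ x, ctr φ (mv k x) = ctr φ' x := by
      intro x
      have e' : (ctr φ).comp (mvLin k) = ctr φ' := ext_ten fun u w => by
        rw [LinearMap.comp_apply, Matrix.toLin'_apply]
        show ctr φ (mv k (ten u w)) = _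
        rw [hkten, ctr_ten, ctr_ten, hd]
      have := LinearMap.congr_fun e' x
      simpa [mv] using this
    obtain ⟨x, hx⟩ := hnot₀ φ' (by rw [hd, hAc, hφ])
    refine hx (mv_inj k ?_)
    have := hcon (mv k x)
    rw [hgdef, mv_mul, mv_mul, mv_inv_mv, hctr] at this
    rw [this, mv_add, hkten, hAc]
  obtain ⟨θ, hθ⟩ := exists_dot_one he0
  obtain ⟨Z, hZ⟩ : ∃ Z : (Rest i m × Fin m → F) →ₗ[F] Rest i m → F, Z = (ctr θ).comp (dev g) :=
    ⟨_, rfl⟩
  have hgx : ∀ x, mv g x = x + ten (Z x) e := fun x => by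
    obtain ⟨u, hu⟩ := mem_line.1 (hline x)
    rw [hZ, LinearMap.comp_apply, dev_apply, ← hu, ctr_ten, hθ, one_smul, hu, add_sub_cancel]
  have hZk : ∀ u, Z (ten u e) = 0 := fun u => by
    rw [hZ, LinearMap.comp_apply, dev_apply, hfix, sub_self, map_zero]
  have hgi : ∀ x, mv g⁻¹ x = x - ten (Z x) e := fun x => by
    rw [mv_eq_iff, inv_inv, hgx, map_sub, hZk, sub_zero, sub_add_cancel]
  -- a non-scalar component at a basis vector
  obtain ⟨b', hY⟩ : ∃ b' : Fin m, ∀ t : F,
      Z.comp (rho (Pi.single b' 1)) ≠ t • LinearMap.id := by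
    by_contra hcon
    push Not at hcon
    choose t ht using hcon
    have hZeq : Z = ctr t := ext_ten fun u w => by
      rw [ctr_ten]
      conv_lhs => rw [pi_eq_sum_univ' w]
      rw [show (ten u (∑ l, w l • (Pi.single l 1 : Fin m → F)) : Rest i m × Fin m → F) =
        lam u (∑ l, w l • (Pi.single l 1 : Fin m → F)) from rfl, map_sum, map_sum,
        show (t ⬝ᵥ w) = ∑ l, t l * w l from rfl, Finset.sum_smul]
      refine Finset.sum_congr rfl fun l _ => ?_
      rw [map_smul, map_smul, lam_apply]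
      have := LinearMap.congr_fun (ht l) u
      simp only [LinearMap.comp_apply, rho_apply, LinearMap.smul_apply, LinearMap.id_apply] at this
      rw [this, smul_smul, mul_comm]
    have ht0 : t ⬝ᵥ e = 0 := by
      have := hZk (fun _ => 1)
      rw [hZeq, ctr_ten] at this
      simpa using congrFun this (fun _ => 0)
    obtain ⟨x, hx⟩ := hnot t ht0
    exact hx (by rw [hgx, hZeq])
  have hb'0 : b' ≠ 0 := fun h => hY 0 (LinearMap.ext fun u => by
    rw [h, LinearMap.comp_apply, rho_apply, ← he, hZk, zero_smul, LinearMap.zero_apply])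
  obtain ⟨b, hb0, hbb'⟩ : ∃ b : Fin m, b ≠ 0 ∧ b ≠ b' := by
    by_contra hcon
    push Not at hcon
    have : (Finset.univ : Finset (Fin m)) ⊆ {0, b'} := fun l _ => by
      by_cases h : l = 0
      · simp [h]
      · simp [hcon l h]
    have := (Finset.card_le_card this).trans Finset.card_le_two
    simp at this
    omega
  set φ : Fin m → F := Pi.single b 1 with hφ
  have hφe : φ ⬝ᵥ e = 0 := by simp [φ, e, hb0.symm]
  have hφb' : φ ⬝ᵥ (Pi.single b' 1 : Fin m → F) = 0 := by simp [φ, hbb'.symm]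
  let E : Set (Matrix (Rest i m) (Rest i m) F) :=
    {W | ∃ h ∈ Mi, ∀ x, mv h x = x + ten (W *ᵥ ctr φ x) e}
  have hsub : ∀ X ∈ E, ∀ Y ∈ E, X - Y ∈ E := by
    rintro X ⟨h, hh, hhx⟩ Y ⟨h', hh', hhx'⟩
    have hi' : ∀ x, mv h'⁻¹ x = x - ten (Y *ᵥ ctr φ x) e := fun x => by
      rw [mv_eq_iff, inv_inv, hhx', map_sub, ctr_ten, hφe, zero_smul, sub_zero,
        sub_add_cancel]
    refine ⟨h * h'⁻¹, Mi.mul_mem hh (Mi.inv_mem hh'), fun x => ?_⟩
    rw [mv_mul, hi', hhx, map_sub, ctr_ten, hφe, zero_smul, sub_zero, Matrix.sub_mulVec, ten_sub_left]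
    abel
  have hYE : LinearMap.toMatrix' (Z.comp (rho (Pi.single b' 1))) ∈ E := by
    refine ⟨(tT (Rest i m) (Pi.single b' 1) φ hφb')⁻¹ * g *
      tT (Rest i m) (Pi.single b' 1) φ hφb' * g⁻¹,
      Mi.mul_mem (Mi.mul_mem (Mi.mul_mem (Mi.inv_mem (tT_mem hG i _ _ _)) hg) (tT_mem hG i _ _ _))
        (Mi.inv_mem hg), fun x => ?_⟩
    rw [LinearMap.toMatrix'_mulVec, mv_mul, mv_mul, mv_mul, hgi, mv_tT, hgx, mv_tT_inv,
      LinearMap.comp_apply, rho_apply]
    simp only [map_add, map_sub, ctr_ten, hφe, hφb', hZk, zero_smul, sub_zero, add_zero,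
      ten_add_left]
    abel
  have hconj : ∀ (j : {j // j ≠ i}) (a' c' : Fin m), a' ≠ c' → ∀ Y ∈ E,
      (1 + fN F j a' c') * Y * (1 - fN F j a' c') ∈ E := by
    rintro j a' c' hac Y ⟨h, hh, hhx⟩
    have hd : Diff {j} (fun _ => a') (fun _ => c') := ⟨j, Finset.mem_singleton_self _, hac⟩
    set ua := extend i 0 (fun _ : {j // j ≠ i} => a')
    set uc := extend i 0 (fun _ : {j // j ≠ i} => c')
    set u := eGL (liftSet i {j}) ua uc (diff_lift i 0 0 hd) (1 : F) with hu
    have huM : u ∈ M := by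
      rw [hu, eGL_congr (S' := {(j : J)}) _ (diff_lift i 0 0 hd |> fun h => by
        simpa [liftSet] using h) (by simp [liftSet]) (fun _ _ => rfl) (fun _ _ => rfl)]
      exact eGL_singleton_mem hG _ _ _ _ _
    set N := fN F j a' c' with hN
    have hNv : ∀ v : Rest i m → F, es {j} (fun _ => a') (fun _ => c') v = N *ᵥ v := fun v => by
      rw [hN, ← toMatrix'_es_singleton j (fun _ => a') (fun _ => c'), LinearMap.toMatrix'_mulVec]
    have hinv : ∀ x, ctr φ (mv (tg i m F u)⁻¹ x) = ctr φ x - N *ᵥ ctr φ x := fun x => by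
      rw [← map_inv, mv_tg', mv_eGL_inv, map_sub, map_smul, LinearEquiv.apply_symm_apply, one_smul,
        map_sub, ctr_push_es_lift, LinearEquiv.apply_symm_apply, hNv]
    refine ⟨tg i m F u * h * (tg i m F u)⁻¹,
      Mi.mul_mem (Mi.mul_mem (Subgroup.mem_map_of_mem _ huM) hh)
        (Mi.inv_mem (Subgroup.mem_map_of_mem _ huM)), fun x => ?_⟩
    rw [mv_mul, mv_mul, hhx, mv_add, mv_mv_inv, hinv, mv_tg_eGL_lift, one_smul, hNv]
    simp only [← Matrix.mulVec_mulVec, Matrix.add_mulVec, Matrix.sub_mulVec, Matrix.one_mulVec,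
      Matrix.mulVec_sub]
    congr 2
    abel
  have hYns : ∀ t : F, LinearMap.toMatrix' (Z.comp (rho (Pi.single b' 1))) ≠ t • 1 := fun t h => by
    refine hY t (LinearMap.toMatrix'.injective ?_)
    rw [h, map_smul, LinearMap.toMatrix'_id]
  obtain ⟨S, a, bb, s, hSne, hoff, hs, h, hh, hhx⟩ := exists_elem hm E hsub hconj hYE hYns
  set Sx := insert i (liftSet i S) with hSx
  set A' := extend i 0 a with hA'
  set B' := extend i b bb with hB'
  have hiS : i ∉ liftSet i S := by simp [liftSet]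
  have hai : A' i = 0 := sp_symm_self i a 0
  have hbi : B' i = b := sp_symm_self i bb b
  have hd : Diff Sx A' B' := ⟨i, Finset.mem_insert_self _ _, by rw [hai, hbi]; exact hb0.symm⟩
  refine hEX ⟨Sx, A', B', hd, s, ?_, ?_, hs, ?_⟩
  · rw [hSx, Finset.card_insert_of_notMem hiS, liftSet, Finset.card_map]
    have := hSne.card_pos
    omega
  · intro j hj
    rcases Finset.mem_insert.1 hj with rfl | hj
    · rw [hai, hbi]; exact hb0.symm
    · obtain ⟨j', hj', rfl⟩ := Finset.mem_map.1 hj
      simpa [A', B', extend, sp_symm_other i _ _ j'.2] using hoff j' hj'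
  · obtain ⟨u, hu, rfl⟩ := hh
    rw [show eGL Sx A' B' hd s = u from ?_]
    · exact hu
    apply (tg i m F).injective
    refine ext_mv fun y => ?_
    have e1 : mv (tg i m F u) y = y + ten ((s • LinearMap.toMatrix' (es S a bb)) *ᵥ ctr φ y) e := hhx y
    rw [e1, mv_tg', mv_eGL, map_add, map_smul, LinearEquiv.apply_symm_apply, Matrix.smul_mulVec,
      LinearMap.toMatrix'_mulVec, ten_smul_left]
    congr 2
    funext ⟨r, l⟩
    rw [push_apply, es_apply, ten_apply, es_apply, ctr_apply]
    have e2 : emb Sx B' ((sp i m).symm (r, l)) = (sp i m).symm (emb S bb r, b) := by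
      funext q
      rcases eq_or_ne q i with rfl | hq
      · simp [emb, Sx, hbi, sp_symm_self]
      · by_cases h : (⟨q, hq⟩ : {j // j ≠ i}) ∈ S <;>
          simp [emb, Sx, B', liftSet, extend, hq, sp_symm_other, h]
    have e3 : (∀ q ∈ Sx, (sp i m).symm (r, l) q = A' q) ↔ l = 0 ∧ ∀ j ∈ S, r j = a j := by
      simp only [hSx, Finset.forall_mem_insert, sp_symm_self, hai]
      refine and_congr Iff.rfl ⟨fun h j hj => ?_, fun h q hq => ?_⟩
      · have := h j (Finset.mem_map.2 ⟨j, hj, rfl⟩)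
        rwa [sp_symm_other i r l j.2, hA', extend, sp_symm_other i a 0 j.2] at this
      · obtain ⟨j, hj, rfl⟩ := Finset.mem_map.1 hq
        rw [Function.Embedding.subtype_apply, sp_symm_other i r l j.2, hA', extend,
          sp_symm_other i a 0 j.2]
        exact h j hj
    rw [e2, push_symm_apply, Equiv.apply_symm_apply, if_congr e3 rfl rfl]
    by_cases hl : l = 0
    · subst hl
      by_cases h1 : ∀ j ∈ S, r j = a j <;> simp [h1, e, φ, Pi.single_apply]
    · simp [hl, e, Pi.single_apply]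

end Cfsg.Agent.WreathMax
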