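/-
Stabilisers of tensor decompositions into factors of equal dimension are maximal in the special
linear group.
-/
import Cfsg.Agent.Lib.WreathMax.Meet
import Cfsg.Agent.Lib.WreathMax.Radical
import Cfsg.Agent.Lib.WreathMax.Grow
import Cfsg.Agent.Lib.TensorMax.Main

set_option autoImplicit false
set_option linter.unusedSectionVars false

namespace Cfsg.Agent.WreathMax

open scoped Matrix Kronecker
open Matrix Cfsg.Agent.Transvec Cfsg.Agent.TensorMax

variable {J : Type} [Fintype J] [DecidableEq J] {m : ℕ} {F : Type*} [Field F]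

theorem eq_kronGL {α β : Type} [Fintype α] [DecidableEq α] [Fintype β] [DecidableEq β]
    {g : GL (α × β) F} {B : GL α F} {A : GL β F}
    (h : (g : Matrix (α × β) (α × β) F) = (B : Matrix α α F) ⊗ₖ (A : Matrix β β F)) :
    g = kronGL B A := Units.ext h

theorem kronGL_mul {α β : Type} [Fintype α] [DecidableEq α] [Fintype β] [DecidableEq β]
    (B B' : GL α F) (A A' : GL β F) : kronGL B A * kronGL B' A' = kronGL (B * B') (A * A') := by
  refine Units.ext ?_
  show _ ⊗ₖ _ * (_ ⊗ₖ _) = _
  rw [← Matrix.mul_kronecker_mul]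
  rfl

theorem kronGL_inv {α β : Type} [Fintype α] [DecidableEq α] [Fintype β] [DecidableEq β]
    (B : GL α F) (A : GL β F) : (kronGL B A)⁻¹ = kronGL B⁻¹ A⁻¹ := Units.ext rfl

theorem kronGL_one {α β : Type} [Fintype α] [DecidableEq α] [Fintype β] [DecidableEq β] :
    kronGL (1 : GL α F) (1 : GL β F) = 1 := Units.ext (by
  show _ ⊗ₖ _ = _
  rw [Units.val_one, Units.val_one, Matrix.one_kronecker_one]
  rfl)

theorem tg_fac_other {i : J} (j : {j // j ≠ i}) (T : GL (Fin m) F) :
    tg i m F (fac (j : J) T) = kronGL (fac j T) 1 := by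
  rw [← MulEquiv.eq_symm_apply]
  refine ext_pten fun x => ?_
  apply (push i).injective
  rw [← mv_tg i ((tg i m F).symm _), MulEquiv.apply_symm_apply, mv_fac, push_pten, push_pten,
    mv_kronGL, mv_one, mv_fac, Function.update_of_ne j.2.symm]
  congr 2
  funext q
  rcases eq_or_ne q j with rfl | h
  · simp
  · rw [Function.update_of_ne h, Function.update_of_ne (fun e => h (Subtype.ext e))]

theorem tg_eGL_lift (i : J) (S : Finset {j // j ≠ i}) (a b : {j // j ≠ i} → Fin m) (z z' : Fin m)
    (h : Diff S a b) (h' : Diff (liftSet i S) (extend i z a) (extend i z' b)) (s : F) :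
    tg i m F (eGL (liftSet i S) (extend i z a) (extend i z' b) h' s) = kronGL (eGL S a b h s) 1 := by
  refine Units.ext (Matrix.toLin'.injective (ext_ten fun v w => ?_))
  rw [Matrix.toLin'_apply, Matrix.toLin'_apply]
  show mv _ (ten v w) = mv (kronGL _ _) (ten v w)
  rw [mv_tg_eGL_lift, mv_kronGL, mv_one, mv_eGL]

/-- The group of first parts of the Kronecker products in one splitting. -/
def leftGroup (M : Subgroup (GL (J → Fin m) F)) (i : J) : Subgroup (GL (Rest i m) F) where
  carrier := {B | ∃ A : GL (Fin m) F, kronGL B A ∈ M.map (tg i m F).toMonoidHom}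
  one_mem' := ⟨1, by rw [kronGL_one]; exact one_mem _⟩
  mul_mem' := fun {B B'} ⟨A, hA⟩ ⟨A', hA'⟩ => ⟨A * A', by rw [← kronGL_mul]; exact mul_mem hA hA'⟩
  inv_mem' := fun {B} ⟨A, hA⟩ => ⟨A⁻¹, by rw [← kronGL_inv]; exact inv_mem hA⟩

theorem facMem_left {M : Subgroup (GL (J → Fin m) F)} (hG : FacMem M) (i : J) :
    FacMem (leftGroup M i) := fun j c φ h =>
  ⟨1, by rw [← tg_fac_other]; exact Subgroup.mem_map_of_mem _ (hG _ c φ h)⟩

theorem not_ex_left (hm : 3 ≤ m) {M : Subgroup (GL (J → Fin m) F)} (hG : FacMem M) (hEX : ¬ EX M)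
    (i : J) : ¬ EX (leftGroup M i) := by
  rintro ⟨S, a, b, hd, s, hS2, hoff, hs, A, hA⟩
  haveI : NeZero m := ⟨by omega⟩
  obtain ⟨j, hj, hne⟩ := id hd
  obtain ⟨v, hv1, hv2⟩ := exists_third hm (a j) (b j)
  have hY : Diff {j} b (Function.update b j v) :=
    ⟨j, Finset.mem_singleton_self j, by simpa using hv2.symm⟩
  set u := eGL {j} b (Function.update b j v) hY (1 : F) with hu
  have huM : kronGL u 1 ∈ M.map (tg i m F).toMonoidHom := by
    obtain ⟨c, φ, hc, e⟩ := eGL_singleton j b (Function.update b j v) hY (1 : F)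
    rw [hu, e, ← tg_fac_other]
    exact Subgroup.mem_map_of_mem _ (hG _ c φ hc)
  set X := eGL S a b hd s with hX
  have hcomm : kronGL (X * u * X⁻¹ * u⁻¹) 1 ∈ M.map (tg i m F).toMonoidHom := by
    have h1 := mul_mem (mul_mem (mul_mem hA huM) (inv_mem hA)) (inv_mem huM)
    rw [kronGL_inv, kronGL_inv, kronGL_mul, kronGL_mul, kronGL_mul] at h1
    simpa using h1
  have hoff' : Off S a (Function.update b j v) := fun l hl => by
    rcases eq_or_ne l j with rfl | h
    · simpa using hv1.symm
    · simpa [h] using hoff l hl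
  have hd' := diff_of_off ⟨j, hj⟩ hoff'
  have h3 : Diff (S ∪ {j}) (fun l => if l ∈ S then a l else b l)
      (fun l => if l ∈ ({j} : Finset _) then Function.update b j v l else b l) :=
    ⟨j, Finset.mem_union_left _ hj, by simpa [hj] using hv1.symm⟩
  have e : X * u * X⁻¹ * u⁻¹ = eGL S a (Function.update b j v) hd' s := by
    rw [hX, hu, eGL_comm hd hY (fun _ _ _ => rfl) hj (Finset.mem_singleton_self j)
      (by simpa using hv1) h3 s 1, mul_one]
    refine eGL_congr h3 hd' (Finset.union_eq_left.2 (Finset.singleton_subset_iff.2 hj))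
      (fun l hl => ?_) (fun l hl => ?_) s
    · rw [Finset.mem_union, Finset.mem_singleton] at hl
      exact if_pos (hl.elim id fun h => h ▸ hj)
    · rcases eq_or_ne l j with rfl | h <;> simp [*]
  rw [e, ← tg_eGL_lift i S a _ (0 : Fin m) 0 hd' (diff_lift i 0 0 hd')] at hcomm
  refine hEX ⟨_, _, _, diff_lift i 0 0 hd', s, ?_, ?_, hs, ?_⟩
  · rw [liftSet, Finset.card_map]; exact hS2
  · intro l hl
    obtain ⟨l', hl', rfl⟩ := Finset.mem_map.1 hl
    simpa [extend, sp_symm_other i _ _ l'.2] using hoff' l' hl'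
  · obtain ⟨g, hg, e'⟩ := hcomm
    rwa [← (tg i m F).injective e']

theorem mono_of_left {i : J} {g : GL (J → Fin m) F} {B : GL (Rest i m) F} {A : GL (Fin m) F}
    (hg : tg i m F g = kronGL B A) (hB : Mono B) : Mono g := by
  obtain ⟨τ, C, hC⟩ := hB
  refine ⟨Equiv.Perm.ofSubtype τ, fun j => if h : j = i then A else C ⟨j, h⟩, fun x => ?_⟩
  apply (push i).injective
  rw [← mv_tg, hg, push_pten, push_pten, mv_kronGL, hC]
  congr 1
  · congr 1
    funext q
    simp only [dif_neg q.2, Equiv.Perm.ofSubtype_apply_coe]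
  · simp only [dif_pos]
    rw [Equiv.Perm.ofSubtype_apply_of_not_mem τ (by simp)]

theorem mv_scalar_fac {j : J} {ν : F} {T : GL (Fin m) F} (hT : ∀ w, mv T w = ν • w)
    (x : (J → Fin m) → F) : mv (fac j T) x = ν • x := by
  have e : mvLin (fac j T) = ν • LinearMap.id := eq_of_pten fun y => by
    rw [Matrix.toLin'_apply]
    show mv (fac j T) (pten y) = ν • pten y
    rw [mv_fac, hT, pten_update_smul, Function.update_eq_self]
  have := LinearMap.congr_fun e x
  simpa [mv] using this

theorem exists_scalarGL (ν : F) (hν : ν ≠ 0) :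
    ∃ T : GL (Fin m) F, ∀ w, mv T w = ν • w := by
  refine ⟨Matrix.GeneralLinearGroup.mkOfDetNeZero (ν • (1 : Matrix (Fin m) (Fin m) F))
    (by rw [Matrix.det_smul, Matrix.det_one, mul_one]; exact pow_ne_zero _ hν), fun w => ?_⟩
  show (ν • (1 : Matrix (Fin m) (Fin m) F)) *ᵥ w = _
  rw [Matrix.smul_mulVec, Matrix.one_mulVec]

/-- The rank condition on the first part of a Kronecker element. -/
theorem rank_left (hm : 3 ≤ m) [Nonempty J] {B : GL (J → Fin m) F} (hB : Mono B) (ν : F)
    (h : ∃ u, ν • mv B u ≠ u) :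
    Fintype.card (J → Fin m) ≤
      m * Module.finrank F (LinearMap.range (ν • mvLin B - LinearMap.id)) := by
  rcases eq_or_ne ν 0 with rfl | hν
  · rw [zero_smul, zero_sub, LinearMap.range_neg, LinearMap.range_id, finrank_top,
      Module.finrank_fintype_fun_eq_card]
    exact Nat.le_mul_of_pos_left _ (by omega)
  obtain ⟨j⟩ := ‹Nonempty J›
  obtain ⟨T, hT⟩ := exists_scalarGL (m := m) ν hν
  obtain ⟨σ, hσ⟩ := hB
  have hg : MonoOf (σ * 1) (fac j T * B) := (monoOf_fac j T).mul hσ
  have hdev : dev (fac j T * B) = ν • mvLin B - LinearMap.id := LinearMap.ext fun x => by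
    rw [dev_apply, mv_mul, mv_scalar_fac hT]
    simp [mv]
  have hne : fac j T * B ≠ 1 := fun e => by
    obtain ⟨u, hu⟩ := h
    refine hu ?_
    have := congrArg (fun k => mv k u) e
    simpa [mv_mul, mv_scalar_fac hT, mv_one] using this
  have := (mono_rank hm hg hne).1
  rwa [hdev, ← card_idx] at this

theorem mono_of_not_ex [Fintype F] (hm : 3 ≤ m) : ∀ (n : ℕ) (J : Type) [Fintype J] [DecidableEq J],
    Fintype.card J = n → 1 ≤ n → ∀ (M : Subgroup (GL (J → Fin m) F)), FacMem M → ¬ EX M →
      ∀ g ∈ M, Mono g := by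
  intro n
  induction n using Nat.strong_induction_on with
  | _ n ih =>
    intro J _ _ hcard hn M hG hEX g hg
    haveI : NeZero m := ⟨by omega⟩
    haveI : Nonempty J := Fintype.card_pos_iff.1 (by omega)
    by_cases h1 : n = 1
    · refine mono_of_lines (by omega) fun i c hc => ?_
      haveI : Subsingleton J := Fintype.card_le_one_iff_subsingleton.1 (by omega)
      have hdim : ∀ (d : Fin m → F), d ≠ 0 → Module.finrank F (Ln i d) = 1 := fun d hd => by
        have h := card_rest (m := m) i
        rw [hcard, h1, pow_one] at h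
        rw [finrank_Ln i hd]
        exact Nat.eq_of_mul_eq_mul_right (by omega : 0 < m) (h.trans (one_mul m).symm)
      set x₀ : J → Fin m → F := fun _ => c
      set c' : Fin m → F := fun k => mv g (pten x₀) fun _ => k
      have he : mv g (pten x₀) = pten fun _ : J => c' := funext fun a => by
        rw [pten, Fintype.prod_subsingleton _ i]
        exact congrArg (mv g (pten x₀)) (funext fun q => congrArg a (Subsingleton.elim q i))
      have hne : mv g (pten x₀) ≠ 0 := fun h0 =>
        pten_ne_zero (x := x₀) (fun _ => hc) (mv_inj g (h0.trans (mv_zero g).symm))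
      have hc' : c' ≠ 0 := fun h0 => hne (by
        rw [he, h0]; exact funext fun a => Finset.prod_eq_zero (Finset.mem_univ i) rfl)
      refine ⟨i, c', hc', ?_⟩
      have hL : Submodule.span F {mv g (pten x₀)} = (Ln i c).map (mvLin g) := by
        refine Submodule.eq_of_le_of_finrank_eq ?_ (by
          rw [finrank_span_singleton hne, finrank_map_gl, hdim c hc])
        rw [Submodule.span_singleton_le_iff_mem]
        exact mem_map_gl.2 ⟨_, pten_mem_Ln i x₀, rfl⟩
      rw [← hL]
      refine Submodule.eq_of_le_of_finrank_eq ?_ (by rw [finrank_span_singleton hne, hdim c' hc'])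
      rw [Submodule.span_singleton_le_iff_mem, he]
      exact pten_mem_Ln i fun _ => c'
    have hleft : ∀ i, ∀ B ∈ leftGroup M i, Mono B := fun i B hB => by
      refine ih (n - 1) (by omega) {j // j ≠ i} ?_ (by omega) _ (facMem_left hG i)
        (not_ex_left hm hG hEX i) B hB
      rw [Fintype.card_subtype_compl, Fintype.card_subtype_eq, hcard]
    haveI : Nontrivial J := Fintype.one_lt_card_iff_nontrivial.1 (by omega)
    have hsplit : ∀ i, SplitHyp (M.map (tg i m F).toMonoidHom) := fun i =>
      { hb := by simpa using hm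
        hT := fun c φ h => tT_mem hG i c φ h
        hS := scalarRad_of_not_ex hm hG hEX i
        hMR := fun k hk B A hBA ν hν => by
          haveI : Nonempty {j // j ≠ i} := let ⟨j, hj⟩ := exists_ne i; ⟨⟨j, hj⟩⟩
          rw [Fintype.card_fin]
          exact rank_left hm (hleft i B ⟨A, by rwa [← eq_kronGL hBA]⟩) ν hν }
    have hind : ∀ g ∈ M, ∀ (i : J) (c : Fin m → F), c ≠ 0 →
        (Ln i c).map (mvLin g) = Ln i c → Mono g := by
      intro g hg i c hc hst
      have hst' : ∀ x ∈ line (Rest i m) c, mv (tg i m F g) x ∈ line (Rest i m) c := by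
        intro x hx
        rw [← map_push_Ln i c, ← hst, map_push_map, map_push_Ln]
        exact mem_map_gl.2 ⟨x, hx, rfl⟩
      obtain ⟨B, A, hBA⟩ := kron_of_stab (hsplit i) (Subgroup.mem_map_of_mem _ hg) hc hst'
      have e := eq_kronGL hBA
      exact mono_of_left e (hleft i B ⟨A, e ▸ Subgroup.mem_map_of_mem _ hg⟩)
    exact mono_mem ⟨hm, inferInstance, hG, hsplit, hind⟩ hg

/-! ### The standard tensor-wreath subgroup -/

theorem mv_pure {t : ℕ} {g : GL (Fin t → Fin m) F} {gs : Fin t → GL (Fin m) F}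
    (h : ∀ x y : Fin t → Fin m, (g : Matrix (Fin t → Fin m) (Fin t → Fin m) F) x y =
      ∏ i, (gs i : Matrix (Fin m) (Fin m) F) (x i) (y i)) (z : Fin t → Fin m → F) :
    mv g (pten z) = pten fun q => mv (gs q) (z q) := by
  funext x
  simp only [mv, Matrix.mulVec, dotProduct, pten, h, ← Finset.prod_mul_distrib]
  exact (Fintype.prod_sum fun i k => (gs i : Matrix (Fin m) (Fin m) F) (x i) k * z i k).symm

theorem mem_standard_iff {t : ℕ} [Finite F] (g : GL (Fin t → Fin m) F) :
    g ∈ Geo.tensorWreathStandard m t F ↔ Mono g := by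
  constructor
  · intro hg
    induction hg using Subgroup.closure_induction with
    | mem g hg =>
      rcases hg with ⟨gs, h⟩ | ⟨σ, h⟩
      · exact ⟨1, gs, fun z => by simpa using mv_pure h z⟩
      · rw [show g = pm σ from Units.ext (Matrix.ext fun x y => h x y)]
        exact ⟨σ⁻¹, monoOf_pm σ⟩
    | one => exact ⟨1, monoOf_one⟩
    | mul a b _ _ iha ihb =>
      obtain ⟨σ, hσ⟩ := iha
      obtain ⟨τ, hτ⟩ := ihb
      exact ⟨_, MonoOf.mul (σ := σ) (τ := τ) hσ hτ⟩
    | inv a _ iha =>
      obtain ⟨σ, hσ⟩ := iha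
      exact ⟨_, MonoOf.inv (σ := σ) hσ⟩
  · rintro ⟨σ, hσ⟩
    have hp : MonoOf (1 : Equiv.Perm (Fin t)) (g * pm σ) := by
      have := MonoOf.mul (σ := σ) hσ (monoOf_pm σ)
      rwa [inv_mul_cancel] at this
    obtain ⟨A, hA⟩ := hp
    have hpure : g * pm σ ∈ Geo.tensorWreathStandard m t F := by
      refine Subgroup.subset_closure (Or.inl ⟨A, fun x y => ?_⟩)
      have e : pten (fun q => (Pi.single (y q) (1 : F) : Fin m → F)) = Pi.single y 1 := by
        funext b
        unfold pten
        by_cases hb : b = y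
        · subst hb; simp
        · obtain ⟨q, hq⟩ := Function.ne_iff.1 hb
          rw [Pi.single_eq_of_ne hb]
          exact Finset.prod_eq_zero (Finset.mem_univ q) (Pi.single_eq_of_ne hq _)
      have h1 := congrFun (hA fun q => Pi.single (y q) 1) x
      rw [e] at h1
      simpa [mv, pten] using h1
    have hperm : pm σ ∈ Geo.tensorWreathStandard m t F :=
      Subgroup.subset_closure (Or.inr ⟨σ, fun x y => rfl⟩)
    simpa using mul_mem hpure (inv_mem hperm)

theorem pm_mul (σ τ : Equiv.Perm J) : (pm σ : GL (J → Fin m) F) * pm τ = pm (σ * τ) := by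
  refine ext_mv fun x => funext fun i => ?_
  rw [mv_mul, mv_pm, mv_pm, mv_pm]
  rfl

theorem pm_one : (pm 1 : GL (J → Fin m) F) = 1 :=
  ext_mv fun x => funext fun i => by rw [mv_pm, mv_one]; rfl

theorem permMem_std {M : Subgroup (GL (J → Fin m) F)}
    (hM : ∀ g : GL (J → Fin m) F, (∃ σ, g = pm σ) → g ∈ Geo.specialLinear (J → Fin m) F → g ∈ M) :
    PermMem M := by
  intro j k l hjk hjl hkl
  refine hM _ ⟨_, rfl⟩ ?_
  set a := Equiv.swap j l with ha
  set b := Equiv.swap j k with hb
  have e : a * b = a * b * (a⁻¹ * b⁻¹) * (a * b * (a⁻¹ * b⁻¹)) := by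
    refine Equiv.ext fun q => ?_
    simp only [ha, hb, Equiv.swap_inv, Equiv.Perm.mul_apply]
    rcases eq_or_ne q j with rfl | hqj
    · simp [Equiv.swap_apply_of_ne_of_ne, hjk, hjl, hkl, hjk.symm, hjl.symm, hkl.symm]
    rcases eq_or_ne q k with rfl | hqk
    · simp [Equiv.swap_apply_of_ne_of_ne, hjk, hjl, hkl, hjk.symm, hjl.symm, hkl.symm]
    rcases eq_or_ne q l with rfl | hql
    · simp [Equiv.swap_apply_of_ne_of_ne, hjk, hjl, hkl, hjk.symm, hjl.symm, hkl.symm]
    simp [Equiv.swap_apply_of_ne_of_ne, hqj, hqk, hql]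
  let φ : Equiv.Perm J →* Fˣ :=
    { toFun := fun σ => Matrix.GeneralLinearGroup.det (pm σ : GL (J → Fin m) F)
      map_one' := by rw [pm_one, map_one]
      map_mul' := fun σ τ => by rw [← map_mul, pm_mul] }
  rw [Geo.specialLinear, MonoidHom.mem_ker]
  show φ (a * b) = 1
  rw [e]
  simp only [map_mul, map_inv]
  rw [← mul_inv, mul_inv_cancel, one_mul]

theorem maximal_std [Fintype F] {t : ℕ} (hm : 3 ≤ m) (ht : 2 ≤ t) :
    Geo.IsMaximalIn (Geo.specialLinear (Fin t → Fin m) F)
      (Geo.tensorWreathStandard m t F ⊓ Geo.specialLinear (Fin t → Fin m) F) := by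
  haveI : NeZero m := ⟨by omega⟩
  haveI : Nonempty (Fin t) := ⟨⟨0, by omega⟩⟩
  refine ⟨lt_of_le_of_ne inf_le_right fun heq => ?_, fun M h1 h2 => ?_⟩
  · obtain ⟨h01, -, -⟩ := fin_facts hm
    set a : Fin t → Fin m := fun _ => 0
    set b : Fin t → Fin m := fun _ => 1
    have hd : Diff Finset.univ a b := ⟨⟨0, by omega⟩, Finset.mem_univ _, h01⟩
    have hmem : eGL Finset.univ a b hd (1 : F) ∈ Geo.tensorWreathStandard m t F := by
      have : eGL Finset.univ a b hd (1 : F) ∈ Geo.specialLinear (Fin t → Fin m) F :=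
        sh_mem_specialLinear _ _
      rw [← heq] at this
      exact this.1
    obtain ⟨σ, A, hA⟩ := (mem_standard_iff _).1 hmem
    set x : Fin t → Fin m → F := fun _ => Pi.single 1 1
    set y : Fin t → Fin m → F := fun q => mv (A q) (x (σ q))
    have hval : ∀ i : Fin t → Fin m, pten y i =
        pten x i + if ∀ q, i q = 0 then pten x b else 0 := by
      intro i
      rw [← hA x, mv_eGL, one_smul, Pi.add_apply, es_apply]
      have he : emb Finset.univ b i = b := funext fun q => by simp [emb]
      simp [he, a]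
    have hxb : pten x b = 1 := by simp [pten, x, b]
    have hya : ∀ q, y q 0 ≠ 0 := by
      intro q h0
      have := hval a
      rw [if_pos fun _ => rfl, hxb] at this
      have hx : pten x a = 0 := Finset.prod_eq_zero (Finset.mem_univ q) (by simp [x, a, h01])
      rw [hx, zero_add] at this
      exact one_ne_zero (this.symm.trans (Finset.prod_eq_zero (Finset.mem_univ q) h0))
    have hyb : ∀ q, y q 1 ≠ 0 := by
      intro q h0
      have := hval b
      rw [if_neg fun h => h01 (h ⟨0, by omega⟩).symm, hxb, add_zero] at this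
      exact one_ne_zero (this.symm.trans (Finset.prod_eq_zero (Finset.mem_univ q) h0))
    set q₀ : Fin t := ⟨0, by omega⟩
    set q₁ : Fin t := ⟨1, by omega⟩
    set i : Fin t → Fin m := Function.update b q₀ 0
    have := hval i
    rw [if_neg (fun h => h01 (by simpa [i, b, q₀, q₁] using (h q₁).symm)), add_zero,
      show pten x i = 0 from Finset.prod_eq_zero (Finset.mem_univ q₀) (by simp [x, i, h01])] at this
    rw [pten, Finset.prod_eq_zero_iff] at this
    obtain ⟨q, -, hq⟩ := this
    rcases eq_or_ne q q₀ with rfl | h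
    · simp [i] at hq; exact hya _ hq
    · simp [i, b, h] at hq; exact hyb _ hq
  · have hG : FacMem M := fun i c φ h => h1 ⟨(mem_standard_iff _).2 ⟨1, monoOf_fac i _⟩, by
      have : fac i (tw c φ h) = (tg i m F).symm (tT (Rest i m) c φ h) := by
        rw [← tg_fac_tw, MulEquiv.symm_apply_apply]
      rw [this]
      show Matrix.GeneralLinearGroup.det _ = 1
      refine Eq.trans ?_ (sh_mem_specialLinear (F := F) ((rho c).comp (ctr φ))
        fun x => by simp [ctr_ten, h, ten_zero_left] :
          Matrix.GeneralLinearGroup.det (tT (Rest i m) c φ h) = 1)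
      exact Units.ext (by
        rw [Matrix.GeneralLinearGroup.val_det_apply, Matrix.GeneralLinearGroup.val_det_apply]
        exact Matrix.det_submatrix_equiv_self (sp i m)
          (tT (Rest i m) c φ h : GL (Rest i m × Fin m) F).1)⟩
    by_cases hEX : EX M
    · refine Or.inr (le_antisymm h2 (sl_le_of_ex hm hG ?_ hEX))
      exact permMem_std fun g ⟨σ, hσ⟩ hg =>
        h1 ⟨(mem_standard_iff _).2 (hσ ▸ ⟨σ⁻¹, monoOf_pm σ⟩), hg⟩
    · exact Or.inl (le_antisymm (fun g hg => ⟨(mem_standard_iff g).2
        (mono_of_not_ex hm t (Fin t) (Fintype.card_fin t) (by omega) M hG hEX g hg), h2 hg⟩) h1)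

/-- The stabiliser of a tensor power decomposition is maximal in the special linear group. -/
theorem tensor_wreath_maximal {ι : Type} [Fintype ι] [DecidableEq ι] [Fintype F] (m t : ℕ)
    (hm : 3 ≤ m) (ht : 2 ≤ t) (e : ι ≃ (Fin t → Fin m)) (P : GL ι F) :
    Geo.IsMaximalIn (Geo.specialLinear ι F)
      (Geo.tensorWreathSubgroup m t e P ⊓ Geo.specialLinear ι F) := by
  have h' := TensorMax.isMaximalIn_map (MulAut.conj P)
    (TensorMax.isMaximalIn_map (Geo.glReindex e.symm) (maximal_std (F := F) hm ht))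
  rw [map_conj_specialLinear,
    Subgroup.map_inf _ _ (Geo.glReindex (F := F) e.symm).toMonoidHom (Geo.glReindex e.symm).injective,
    Subgroup.map_inf _ _ (MulAut.conj P).toMonoidHom (MulAut.conj P).injective,
    map_conj_specialLinear] at h'
  exact h'

end Cfsg.Agent.WreathMax
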